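import Cfsg.Agent.H11.QuadPairModule
import Cfsg.Agent.H10.PStability
import Cfsg.Agent.H37.DicksonSL2
import Cfsg.Agent.H72.QdStruct
import Cfsg.Agent.H74.S4Section
import Cfsg.Agent.H10.StableClosure
import Cfsg.Agent.H1.Cores
import Cfsg.Prelude.Def_LocalEven

/-!
For odd `p`, a quadratic action that is not `p`-stable involves `Qd(p)`.
-/

set_option autoImplicit false
set_option linter.style.haveILetI false

namespace H11

open Matrix
open scoped commutatorElement

local notation "SL2(" R ")" => Matrix.SpecialLinearGroup (Fin 2) R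

section Natural

variable {p : ℕ} [hp : Fact p.Prime]

/-- The natural module of `SL₂(p)` is irreducible. -/
theorem natural_irreducible (S : AddSubgroup (Fin 2 → ZMod p))
    (h : ∀ (g : SL2(ZMod p)), ∀ n ∈ S, (g : Matrix (Fin 2) (Fin 2) (ZMod p)).mulVec n ∈ S)
    {n : Fin 2 → ZMod p} (hn : n ∈ S) (hn0 : n ≠ 0) : S = ⊤ := by
  have hscal : ∀ (c : ZMod p) (m : Fin 2 → ZMod p), m ∈ S → c • m ∈ S := by
    intro c m hm
    have : c • m = c.val • m := by rw [← Nat.cast_smul_eq_nsmul (ZMod p), ZMod.natCast_zmod_val]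
    rw [this]
    exact AddSubgroup.nsmul_mem S hm _
  have hup : ∀ m : Fin 2 → ZMod p, m ∈ S → (![m 1, 0] : Fin 2 → ZMod p) ∈ S := by
    intro m hm
    have h1 := S.sub_mem (h (H21.uSL 1) m hm) hm
    convert h1 using 1
    funext i
    fin_cases i <;> simp [H72.uSL_val, Matrix.mulVec, dotProduct, Fin.sum_univ_two, Matrix.vecHead, Matrix.vecTail]
  have hlo : ∀ m : Fin 2 → ZMod p, m ∈ S → (![0, m 0] : Fin 2 → ZMod p) ∈ S := by
    intro m hm
    have h1 := S.sub_mem (h (H21.lSL 1) m hm) hm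
    convert h1 using 1
    funext i
    fin_cases i <;> simp [H72.lSL_val, Matrix.mulVec, dotProduct, Fin.sum_univ_two, Matrix.vecHead, Matrix.vecTail]
  obtain ⟨s, hs0, hs⟩ : ∃ s : ZMod p, s ≠ 0 ∧ (![s, 0] : Fin 2 → ZMod p) ∈ S := by
    by_cases h1 : n 1 = 0
    · have h0 : n 0 ≠ 0 := fun h0 => hn0 (funext fun i => by fin_cases i <;> simp [h0, h1])
      exact ⟨n 0, h0, by simpa using hup _ (hlo n hn)⟩
    · exact ⟨n 1, h1, hup n hn⟩
  have he0 : (![1, 0] : Fin 2 → ZMod p) ∈ S := by
    have := hscal s⁻¹ _ hs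
    simpa [Matrix.smul_cons, inv_mul_cancel₀ hs0] using this
  have he1 : (![0, 1] : Fin 2 → ZMod p) ∈ S := by simpa using hlo _ he0
  rw [eq_top_iff]
  intro m _
  have hm : m = m 0 • (![1, 0] : Fin 2 → ZMod p) + m 1 • (![0, 1] : Fin 2 → ZMod p) := by
    funext i; fin_cases i <;> simp
  rw [hm]
  exact S.add_mem (hscal _ _ he0) (hscal _ _ he1)

variable {K : Type*} [Field K] [CharP K p]

theorem unip_of_pow_eq_one (g : SL2(K)) (hg : g ^ p = 1) : H10.IsUnip g := by
  haveI : ExpChar (Matrix (Fin 2) (Fin 2) K) p := ExpChar.prime Fact.out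
  have h : ((g : Matrix (Fin 2) (Fin 2) K) - 1) ^ p = 0 := by
    rw [sub_pow_expChar_of_commute p (Commute.one_right _), one_pow,
      ← Matrix.SpecialLinearGroup.coe_pow, hg, Matrix.SpecialLinearGroup.coe_one, sub_self]
  have hd : ((g : Matrix (Fin 2) (Fin 2) K) - 1).det = 0 := by
    have := congrArg Matrix.det h
    rwa [Matrix.det_pow, Matrix.det_zero, pow_eq_zero_iff (Fact.out : p.Prime).ne_zero] at this
  have ht : ((g : Matrix (Fin 2) (Fin 2) K) - 1).trace = 0 :=
    (Matrix.isNilpotent_trace_of_isNilpotent ⟨p, h⟩).eq_zero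
  exact H10.sq_eq_zero_of_trace_det ht hd

/-- An embedding of `SL₂(p)` into `SL₂(K)` is the natural one. -/
theorem exists_natural_basis (hp2 : p ≠ 2) (f : SL2(ZMod p) →* SL2(K)) (hf : Function.Injective f) :
    ∃ e : (Fin 2 → ZMod p) →+ (Fin 2 → K), Function.Injective e ∧
      ∀ g n, (f g : Matrix (Fin 2) (Fin 2) K).mulVec (e n) =
        e ((g : Matrix (Fin 2) (Fin 2) (ZMod p)).mulVec n) := by
  have h2 : (2 : K) ≠ 0 := Ring.two_ne_zero (by rw [ringChar.eq K p]; exact hp2)
  let act : SL2(ZMod p) → (Fin 2 → K) → (Fin 2 → K) :=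
    fun g u => (f g : Matrix (Fin 2) (Fin 2) K).mulVec u
  have hmul : ∀ g g' u, act (g * g') u = act g (act g' u) := fun g g' u => by
    simp only [act, map_mul, Matrix.SpecialLinearGroup.coe_mul, Matrix.mulVec_mulVec]
  have hone : ∀ u, act 1 u = u := fun u => by simp only [act, map_one, Matrix.SpecialLinearGroup.coe_one, Matrix.one_mulVec]
  have hpowU : ∀ x : ZMod p, H21.uSL x = H21.uSL (1 : ZMod p) ^ x.val := by
    have : ∀ k : ℕ, H21.uSL (1 : ZMod p) ^ k = H21.uSL (k : ZMod p) := by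
      intro k
      induction k with
      | zero => simp [H72.uSL_zero]
      | succ k ih => rw [pow_succ, ih, H72.uSL_mul, Nat.cast_succ]
    intro x; rw [this, ZMod.natCast_zmod_val]
  have hpowL : ∀ x : ZMod p, H21.lSL x = H21.lSL (1 : ZMod p) ^ x.val := by
    have : ∀ k : ℕ, H21.lSL (1 : ZMod p) ^ k = H21.lSL (k : ZMod p) := by
      intro k
      induction k with
      | zero => simp [H72.lSL_zero]
      | succ k ih => rw [pow_succ, ih, H72.lSL_mul, Nat.cast_succ]
    intro x; rw [this, ZMod.natCast_zmod_val]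
  have hgen : ∀ (P : Subgroup SL2(ZMod p)), H21.uSL 1 ∈ P → H21.lSL 1 ∈ P → ∀ g, g ∈ P :=
    fun P hu hl => H21.sl2_mem_of_unipotents P (fun x => hpowU x ▸ P.pow_mem hu _)
      (fun x => hpowL x ▸ P.pow_mem hl _)
  set x := H21.uSL (1 : ZMod p) with hx
  set y := H21.lSL (1 : ZMod p) with hy
  have hxp : x ^ p = 1 := by
    have h : ∀ k : ℕ, x ^ k = H21.uSL (k : ZMod p) := by
      intro k
      induction k with
      | zero => simp [H72.uSL_zero]
      | succ k ih => rw [pow_succ, ih, hx, H72.uSL_mul, Nat.cast_succ]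
    rw [h, ZMod.natCast_self, H72.uSL_zero]
  have hyp : y ^ p = 1 := by
    have h : ∀ k : ℕ, y ^ k = H21.lSL (k : ZMod p) := by
      intro k
      induction k with
      | zero => simp [H72.lSL_zero]
      | succ k ih => rw [pow_succ, ih, hy, H72.lSL_mul, Nat.cast_succ]
    rw [h, ZMod.natCast_self, H72.lSL_zero]
  set X : Matrix (Fin 2) (Fin 2) K := (f x : Matrix (Fin 2) (Fin 2) K) with hX
  set Y : Matrix (Fin 2) (Fin 2) K := (f y : Matrix (Fin 2) (Fin 2) K) with hY
  have hXq : (X - 1) * (X - 1) = 0 := unip_of_pow_eq_one (f x) (by rw [← map_pow, hxp, map_one])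
  have hYq : (Y - 1) * (Y - 1) = 0 := unip_of_pow_eq_one (f y) (by rw [← map_pow, hyp, map_one])
  -- a fixed vector of `x`
  obtain ⟨v, hv0, hv⟩ : ∃ v : Fin 2 → K, v ≠ 0 ∧ (X - 1).mulVec v = 0 := by
    have hd : (X - 1).det = 0 := by
      have := congrArg Matrix.det hXq
      rwa [Matrix.det_mul, Matrix.det_zero, mul_self_eq_zero] at this
    exact Matrix.exists_mulVec_eq_zero_iff.mpr hd
  have hxv : act x v = v := by
    rwa [Matrix.sub_mulVec, Matrix.one_mulVec, sub_eq_zero] at hv
  set a := act y v - v with ha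
  have hqY : ∀ u, act y (act y u - u) = act y u - u := by
    intro u
    have h := congrArg (fun M : Matrix (Fin 2) (Fin 2) K => M.mulVec u) hYq
    simp only [← Matrix.mulVec_mulVec, Matrix.sub_mulVec, Matrix.one_mulVec, Matrix.zero_mulVec,
      Matrix.mulVec_sub] at h
    simp only [act, Matrix.mulVec_sub]
    exact sub_eq_zero.mp h
  have hqX : ∀ u, act x (act x u - u) = act x u - u := by
    intro u
    have h := congrArg (fun M : Matrix (Fin 2) (Fin 2) K => M.mulVec u) hXq
    simp only [← Matrix.mulVec_mulVec, Matrix.sub_mulVec, Matrix.one_mulVec, Matrix.zero_mulVec,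
      Matrix.mulVec_sub] at h
    simp only [act, Matrix.mulVec_sub]
    exact sub_eq_zero.mp h
  have hya : act y a = a := hqY v
  -- the Weyl element sends fixed vectors of `x` to fixed vectors of `y`
  have hw : act y (act (x * y⁻¹ * x) v) = act (x * y⁻¹ * x) v := by
    have e : y * (x * y⁻¹ * x) = x * y⁻¹ * x * x⁻¹ := by
      apply H72.sl2_ext <;>
        simp [hx, hy, H72.uSL_inv, H72.lSL_inv, H72.uSL_val, H72.lSL_val, Matrix.mul_apply, Fin.sum_univ_two]
    have hxi : act x⁻¹ v = v := by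
      conv_lhs => rw [← hxv]
      rw [← hmul, inv_mul_cancel, hone]
    rw [← hmul, e, hmul, hxi]
  have hyi : act y⁻¹ v = v - a := by
    have h : act y (v - a) = v := by
      have hsub : act y (v - a) = act y v - act y a := by simp only [act, Matrix.mulVec_sub]
      rw [hsub, hya, ha, sub_sub_cancel]
    conv_lhs => rw [← h]
    rw [← hmul, inv_mul_cancel, hone]
  set b := act x a - a with hb
  have hw' : act (x * y⁻¹ * x) v = v - a - b := by
    rw [hmul, hmul, hxv, hyi]
    have hsub : act x (v - a) = act x v - act x a := by simp only [act, Matrix.mulVec_sub]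
    rw [hsub, hxv, hb]; abel
  have hyd : act y (b - v) = b - v := by
    rw [hw'] at hw
    have hsub : ∀ u u', act y (u - u') = act y u - act y u' := fun u u' => by simp only [act, Matrix.mulVec_sub]
    rw [hsub, hsub, hya] at hw
    rw [hsub]
    have e : act y v = v + a := by rw [ha]; abel
    rw [e] at hw ⊢
    have e2 : act y b = b + a := by
      have := sub_eq_iff_eq_add.mp hw
      rw [← sub_eq_zero]
      rw [← sub_eq_zero] at hw
      linear_combination (norm := abel) -(1 : ℤ) • hw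
    rw [e2]; abel
  have hxd : act x (b - v) = b - v := by
    have hsub : act x (b - v) = act x b - act x v := by simp only [act, Matrix.mulVec_sub]
    rw [hsub, hxv, hqX a]
  have hfix : ∀ g, act g (b - v) = b - v := by
    let St : Subgroup SL2(ZMod p) :=
      { carrier := {g | act g (b - v) = b - v}
        one_mem' := hone _
        mul_mem' := fun {g g'} hg hg' => by
          show act (g * g') (b - v) = b - v
          rw [hmul, hg', hg]
        inv_mem' := fun {g} hg => by
          show act g⁻¹ (b - v) = b - v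
          conv_lhs => rw [← (hg : act g (b - v) = b - v)]
          rw [← hmul, inv_mul_cancel, hone] }
    exact hgen St hxd hyd
  have hbv : b = v := by
    set z : SL2(ZMod p) := H72.dSL (-1) (neg_ne_zero.mpr one_ne_zero) with hz
    have hz2 : z * z = 1 := by
      apply H72.sl2_ext <;> simp [hz, H72.dSL_val, inv_neg]
    have hz1 : z ≠ 1 := by
      intro h
      have h00 := congrArg (fun g : SL2(ZMod p) => (g : Matrix (Fin 2) (Fin 2) (ZMod p)) 0 0) h
      simp [hz, H72.dSL_val] at h00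
      have : ((2 : ℕ) : ZMod p) = 0 := by push_cast; linear_combination -h00
      rw [ZMod.natCast_eq_zero_iff] at this
      exact hp2 ((Nat.prime_dvd_prime_iff_eq hp.out Nat.prime_two).mp this)
    have hM : H10.mat (f z) * H10.mat (f z) = 1 := by
      rw [← H10.mat_mul, ← map_mul, hz2, map_one, H10.mat_one]
    have hc := H10.cayley (f z)
    rw [hM] at hc
    have hsc : (H10.mat (f z)).trace • H10.mat (f z) = (2 : K) • (1 : Matrix (Fin 2) (Fin 2) K) := by
      rw [two_smul]; exact (eq_sub_iff_add_eq.mp hc).symm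
    have ht0 : (H10.mat (f z)).trace ≠ 0 := by
      intro h0
      rw [h0, zero_smul] at hsc
      have := congrArg (fun M : Matrix (Fin 2) (Fin 2) K => M 0 0) hsc
      simp at this
      exact h2 this.symm
    set c := (H10.mat (f z)).trace⁻¹ * 2 with hcdef
    have hzc : H10.mat (f z) = c • (1 : Matrix (Fin 2) (Fin 2) K) := by
      rw [hcdef, ← smul_smul, ← hsc, smul_smul, inv_mul_cancel₀ ht0, one_smul]
    have hc2 : c * c = 1 := by
      have hd := (f z).det_coe
      rw [show ((f z : SL2(K)) : Matrix (Fin 2) (Fin 2) K) = H10.mat (f z) from rfl, hzc] at hd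
      simpa [Matrix.det_smul, sq] using hd
    have hcne : c ≠ 1 := fun h => hz1 (hf (by
      rw [map_one]; exact H10.mat_inj (by rw [hzc, h, one_smul, H10.mat_one])))
    have hcneg : c = -1 := (mul_self_eq_one_iff.mp hc2).resolve_left hcne
    have h := hfix z
    simp only [act] at h
    rw [show ((f z : SL2(K)) : Matrix (Fin 2) (Fin 2) K) = H10.mat (f z) from rfl, hzc,
      Matrix.smul_mulVec, Matrix.one_mulVec, hcneg, neg_one_smul] at h
    have h' : (2 : K) • (b - v) = 0 := by
      rw [two_smul]; nth_rewrite 1 [← h]; exact neg_add_cancel _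
    exact sub_eq_zero.mp ((smul_eq_zero.mp h').resolve_left h2)
  let c := ZMod.castHom (dvd_refl p) K
  let e : (Fin 2 → ZMod p) →+ (Fin 2 → K) :=
    { toFun := fun n => c (n 0) • v + c (n 1) • a
      map_zero' := by simp
      map_add' := fun n m => by simp only [Pi.add_apply, map_add, add_smul]; abel }
  have hequiv : ∀ g n, act g (e n) = e ((g : Matrix (Fin 2) (Fin 2) (ZMod p)).mulVec n) := by
    let St : Subgroup SL2(ZMod p) :=
      { carrier := {g | ∀ n, act g (e n) = e ((g : Matrix (Fin 2) (Fin 2) (ZMod p)).mulVec n)}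
        one_mem' := fun n => by rw [hone]; simp
        mul_mem' := fun {g g'} hg hg' n => by
          rw [hmul, hg' n, hg, Matrix.mulVec_mulVec, Matrix.SpecialLinearGroup.coe_mul]
        inv_mem' := fun {g} hg n => by
          have h := hg (((g⁻¹ : SL2(ZMod p)) : Matrix (Fin 2) (Fin 2) (ZMod p)).mulVec n)
          rw [Matrix.mulVec_mulVec, ← Matrix.SpecialLinearGroup.coe_mul, mul_inv_cancel,
            Matrix.SpecialLinearGroup.coe_one, Matrix.one_mulVec] at h
          rw [← h, ← hmul, inv_mul_cancel, hone] }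
    have hlin : ∀ (g : SL2(ZMod p)) (r s : K), act g (r • v + s • a) = r • act g v + s • act g a := by
      intro g r s; simp only [act, Matrix.mulVec_add, Matrix.mulVec_smul]
    refine hgen St (fun n => ?_) (fun n => ?_)
    · show act x (e n) = e _
      simp only [e, AddMonoidHom.coe_mk, ZeroHom.coe_mk]
      rw [hlin, hxv, show act x a = v + a by rw [← hbv, hb]; abel]
      simp [hx, H72.uSL_val, Matrix.mulVec, dotProduct, Fin.sum_univ_two, add_smul, smul_add, Matrix.vecHead, Matrix.vecTail]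
      abel
    · show act y (e n) = e _
      simp only [e, AddMonoidHom.coe_mk, ZeroHom.coe_mk]
      rw [hlin, hya, show act y v = v + a by rw [ha]; abel]
      simp [hy, H72.lSL_val, Matrix.mulVec, dotProduct, Fin.sum_univ_two, add_smul, smul_add, Matrix.vecHead, Matrix.vecTail]
      abel
  refine ⟨e, ?_, hequiv⟩
  rw [injective_iff_map_eq_zero]
  intro n hn
  by_contra hn0
  have htop := natural_irreducible e.ker (fun g m hm => by
    rw [AddMonoidHom.mem_ker] at hm ⊢
    rw [← hequiv, hm]; simp [act]) hn hn0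
  apply hv0
  have h10 : (![1, 0] : Fin 2 → ZMod p) ∈ e.ker := htop ▸ AddSubgroup.mem_top _
  simpa [e] using h10

end Natural

section Descent

variable {p : ℕ} [hp : Fact p.Prime] {L : Type*} [Group L] {M : Type*} [AddCommGroup M]

/-- A natural module occurring in a power of `M` occurs in `M`. -/
theorem exists_plane_section (φ : L →* SL2(ZMod p)) (hφ : Function.Surjective φ)
    (act : L → M →+ M) {ι : Type*} [DecidableEq ι] (s : Finset ι) :
    ∀ Γ : AddSubgroup ((ι → M) × (Fin 2 → ZMod p)),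
      (∀ z ∈ Γ, ∀ i ∉ s, z.1 i = 0) →
      (∀ (l : L), ∀ z ∈ Γ, ((fun i => act l (z.1 i)),
        (φ l : Matrix (Fin 2) (Fin 2) (ZMod p)).mulVec z.2) ∈ Γ) →
      (∀ n, ((0 : ι → M), n) ∈ Γ → n = 0) → (∃ z ∈ Γ, z.2 ≠ 0) →
      ∃ (Y : AddSubgroup M) (π : Y →+ (Fin 2 → ZMod p)), Function.Surjective π ∧
        ∀ (l : L) (y : Y), ∃ hy : act l y ∈ Y,
          π ⟨act l y, hy⟩ = (φ l : Matrix (Fin 2) (Fin 2) (ZMod p)).mulVec (π y) := by
  induction s using Finset.induction_on with
  | empty =>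
    intro Γ hs _ h0 hne
    obtain ⟨z, hz, hz2⟩ := hne
    refine absurd (h0 z.2 ?_) hz2
    have : ((0 : ι → M), z.2) = z := Prod.ext (funext fun i => (hs z hz i (Finset.notMem_empty i)).symm) rfl
    rwa [this]
  | @insert j s hj ih =>
    intro Γ hs hinv h0 hne
    by_cases hcase : ∃ (v : M) (n : Fin 2 → ZMod p), (Pi.single j v, n) ∈ Γ ∧ n ≠ 0
    · let Y : AddSubgroup M :=
        { carrier := {v | ∃ n, (Pi.single j v, n) ∈ Γ}
          zero_mem' := ⟨0, by rw [Pi.single_zero]; exact Γ.zero_mem⟩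
          add_mem' := fun {v w} ⟨n, hn⟩ ⟨m, hm⟩ => ⟨n + m, by
            rw [Pi.single_add]; exact Γ.add_mem hn hm⟩
          neg_mem' := fun {v} ⟨n, hn⟩ => ⟨-n, by rw [Pi.single_neg]; exact Γ.neg_mem hn⟩ }
      have huniq : ∀ v n m, (Pi.single j v, n) ∈ Γ → (Pi.single j v, m) ∈ Γ → n = m := by
        intro v n m hn hm
        refine sub_eq_zero.mp (h0 _ ?_)
        simpa using Γ.sub_mem hn hm
      let π : Y →+ (Fin 2 → ZMod p) :=
        AddMonoidHom.mk' (fun y => Classical.choose y.2) fun y w =>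
          huniq _ _ _ (Classical.choose_spec (y + w).2) (by
            have := Γ.add_mem (Classical.choose_spec y.2) (Classical.choose_spec w.2)
            rw [AddSubgroup.coe_add, Pi.single_add]
            exact this)
      have hact : ∀ (l : L) (v : M) (n : Fin 2 → ZMod p), (Pi.single j v, n) ∈ Γ →
          (Pi.single j (act l v), (φ l : Matrix (Fin 2) (Fin 2) (ZMod p)).mulVec n) ∈ Γ := by
        intro l v n hn
        convert hinv l _ hn using 2
        exact funext fun i => by
          by_cases hi : i = j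
          · subst hi; simp
          · simp [Pi.single_eq_of_ne hi]
      have hπ : ∀ (l : L) (y : Y), ∃ hy : act l y ∈ Y,
          π ⟨act l y, hy⟩ = (φ l : Matrix (Fin 2) (Fin 2) (ZMod p)).mulVec (π y) := by
        intro l y
        have h := hact l y _ (Classical.choose_spec y.2)
        exact ⟨⟨_, h⟩, huniq _ _ _ (Classical.choose_spec (⟨_, h⟩ : act l y ∈ Y)) h⟩
      refine ⟨Y, π, ?_, hπ⟩
      rw [← AddMonoidHom.range_eq_top]
      obtain ⟨v, n, hvn, hn0⟩ := hcase
      refine natural_irreducible _ ?_ (n := n) ⟨⟨v, n, hvn⟩, huniq _ _ _ (Classical.choose_spec (⟨n, hvn⟩ : v ∈ Y)) hvn⟩ hn0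
      rintro g _ ⟨y, rfl⟩
      obtain ⟨l, rfl⟩ := hφ g
      obtain ⟨hy, he⟩ := hπ l y
      exact ⟨⟨_, hy⟩, he⟩
    · push Not at hcase
      let er : (ι → M) →+ (ι → M) :=
        { toFun := fun ξ => Function.update ξ j 0
          map_zero' := funext fun i => by
            by_cases hi : i = j
            · subst hi; simp
            · simp [Function.update_of_ne hi]
          map_add' := fun a b => funext fun i => by
            by_cases hi : i = j
            · subst hi; simp
            · simp [Function.update_of_ne hi] }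
      refine ih (Γ.map (er.prodMap (AddMonoidHom.id _))) ?_ ?_ ?_ ?_
      · rintro _ ⟨z, hz, rfl⟩ i hi
        show Function.update z.1 j 0 i = 0
        by_cases hij : i = j
        · subst hij; simp
        · rw [Function.update_of_ne hij]; exact hs z hz i (by simp [hij, hi])
      · rintro l _ ⟨z, hz, rfl⟩
        refine ⟨_, hinv l z hz, Prod.ext (funext fun i => ?_) rfl⟩
        show Function.update (fun i => act l (z.1 i)) j 0 i = act l (Function.update z.1 j 0 i)
        by_cases hij : i = j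
        · subst hij; simp
        · rw [Function.update_of_ne hij, Function.update_of_ne hij]
      · rintro n ⟨z, hz, he⟩
        have h1 : Function.update z.1 j 0 = 0 := congrArg Prod.fst he
        have h2 : z.2 = n := congrArg Prod.snd he
        have h3 : z.1 = Pi.single j (z.1 j) := funext fun i => by
          by_cases hij : i = j
          · subst hij; simp
          · rw [Pi.single_eq_of_ne hij]
            simpa [Function.update_of_ne hij] using congrFun h1 i
        rw [← h2]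
        exact hcase (z.1 j) z.2 (h3 ▸ hz)
      · obtain ⟨z, hz, hz2⟩ := hne
        exact ⟨_, ⟨z, hz, rfl⟩, hz2⟩

end Descent

section Group

theorem exists_sl2_prime_le_range {p : ℕ} [Fact p.Prime] (hp2 : p ≠ 2) {H : Type*} [Group H] [Finite H]
    (φ : H →* SL2(AlgebraicClosure (ZMod p))) {a b : H}
    (hgen : Subgroup.closure ({a, b} : Set H) = ⊤) (ha : H10.IsUnip (φ a)) (hb : H10.IsUnip (φ b))
    (hnu : ¬ ∀ h, ∃ k : ℕ, φ h ^ (p ^ k) = 1) :
    ∃ f : SL2(ZMod p) →* SL2(AlgebraicClosure (ZMod p)), Function.Injective f ∧ f.range ≤ φ.range := by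
  classical
  have hnup : ¬ ∀ h, H10.IsUnip (φ h) := fun hall => hnu fun h =>
    ⟨1, by rw [pow_one]; exact H10.pow_p_of_isUnip (hall h)⟩
  let K := AlgebraicClosure (ZMod p)
  haveI : Finite φ.range := Finite.of_surjective φ.rangeRestrict φ.rangeRestrict_surjective
  -- several Sylow subgroups
  have hsyl : 1 < Nat.card (Sylow p φ.range) := by
    by_contra hle
    push Not at hle
    haveI := Finite.card_le_one_iff_subsingleton.1 hle
    obtain ⟨S⟩ : Nonempty (Sylow p φ.range) := inferInstance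
    have hmem : ∀ x : φ.range, x ^ p = 1 → x ∈ (S : Subgroup φ.range) := by
      intro x hx
      obtain ⟨S', hS'⟩ := (IsPGroup.of_card_dvd_pow (n := 1)
        (show Nat.card (Subgroup.zpowers x) ∣ p ^ 1 by
          rw [Nat.card_zpowers, pow_one]; exact orderOf_dvd_of_pow_eq_one hx)).exists_le_sylow
      rw [Subsingleton.elim S S']
      exact hS' (Subgroup.mem_zpowers x)
    have hall : ∀ h, φ.rangeRestrict h ∈ (S : Subgroup φ.range) := by
      have hle' : Subgroup.closure ({a, b} : Set H) ≤ (S : Subgroup φ.range).comap φ.rangeRestrict := by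
        rw [Subgroup.closure_le]
        rintro x (rfl | rfl)
        · exact hmem _ (Subtype.ext (by simpa using H10.pow_p_of_isUnip ha))
        · exact hmem _ (Subtype.ext (by simpa using H10.pow_p_of_isUnip hb))
      exact fun h => hle' (hgen ▸ Subgroup.mem_top h)
    apply hnu
    intro h
    obtain ⟨k, hk⟩ := S.2 ⟨_, hall h⟩
    exact ⟨k, congrArg (fun z : (S : Subgroup φ.range) => ((z : φ.range) : SL2(K))) hk⟩
  -- a finite subfield
  let E : Set K := Set.range fun z : φ.range × Fin 2 × Fin 2 =>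
    (((z.1 : φ.range) : SL2(K)) : Matrix (Fin 2) (Fin 2) K) z.2.1 z.2.2
  haveI : Finite E := (Set.finite_range _).to_subtype
  let F := IntermediateField.adjoin (ZMod p) E
  haveI : FiniteDimensional (ZMod p) F :=
    IntermediateField.finiteDimensional_adjoin fun x _ => Algebra.IsIntegral.isIntegral x
  haveI : Finite F := Module.finite_of_finite (ZMod p)
  letI := Fintype.ofFinite F
  haveI : CharP F p := charP_of_injective_ringHom (algebraMap (ZMod p) F).injective p
  let ι : SL2(F) →* SL2(K) := Matrix.SpecialLinearGroup.map (algebraMap F K)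
  have hι : Function.Injective ι := fun x y hxy => by
    apply Subtype.ext
    ext i j
    exact congrArg (fun M : SL2(K) => (M : Matrix (Fin 2) (Fin 2) K) i j) hxy
  have hrange : φ.range ≤ ι.range := by
    intro x hx
    let m : Matrix (Fin 2) (Fin 2) F := fun i j =>
      ⟨(x : Matrix (Fin 2) (Fin 2) K) i j, IntermediateField.subset_adjoin _ _ ⟨(⟨x, hx⟩, i, j), rfl⟩⟩
    have hm : m.map (algebraMap F K) = (x : Matrix (Fin 2) (Fin 2) K) := rfl
    have hdet : m.det = 1 := (algebraMap F K).injective (by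
      rw [RingHom.map_det, RingHom.mapMatrix_apply, hm, x.det_coe, map_one])
    exact ⟨⟨m, hdet⟩, Subtype.ext hm⟩
  let R := φ.range.comap ι
  let eR : R ≃* φ.range := (R.equivMapOfInjective ι hι).trans
    (MulEquiv.subgroupCongr (Subgroup.map_comap_eq_self hrange))
  have hsylR : 1 < Nat.card (Sylow p R) := by
    refine hsyl.trans_le (Nat.card_le_card_of_injective
      (fun P => P.mapSurjective (f := eR.symm.toMonoidHom) eR.symm.surjective) fun P Q h => Sylow.ext ?_)
    exact Subgroup.map_injective eR.symm.injective (congrArg (fun S : Sylow p R => (S : Subgroup R)) h)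
  obtain ⟨f, hf, hle⟩ := H37.exists_SL2_prime_le p hp2 R hsylR
  refine ⟨ι.comp f, hι.comp hf, ?_⟩
  rintro _ ⟨g, rfl⟩
  exact hle ⟨g, rfl⟩

variable {G : Type*} [Group G] [Finite G] {p : ℕ} [hp : Fact p.Prime]

/-- The element of `Qd(p)` with linear part `g` and translation part `n`. -/
def qdMk (g : SL2(ZMod p)) (n : Fin 2 → ZMod p) : ↥(Cfsg.qd p) :=
  ⟨⟨!![(g : Matrix (Fin 2) (Fin 2) (ZMod p)) 0 0, (g : Matrix (Fin 2) (Fin 2) (ZMod p)) 0 1, n 0;
      (g : Matrix (Fin 2) (Fin 2) (ZMod p)) 1 0, (g : Matrix (Fin 2) (Fin 2) (ZMod p)) 1 1, n 1; 0, 0, 1], by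
    have h := g.det_coe
    rw [Matrix.det_fin_two] at h
    simp [Matrix.det_fin_three]
    linear_combination h⟩, (H31.QdAlt.mem_qd p).mpr ⟨rfl, rfl, rfl⟩⟩

theorem qdMk_mul (g g' : SL2(ZMod p)) (n n' : Fin 2 → ZMod p) :
    qdMk g n * qdMk g' n' = qdMk (g * g') ((g : Matrix (Fin 2) (Fin 2) (ZMod p)).mulVec n' + n) := by
  apply Subtype.ext; apply Subtype.ext
  rw [Subgroup.coe_mul, Matrix.SpecialLinearGroup.coe_mul]
  ext i j
  fin_cases i <;> fin_cases j <;>
    simp [qdMk, Matrix.mul_apply, Fin.sum_univ_three, Fin.sum_univ_two, Matrix.mulVec, dotProduct, Matrix.vecHead, Matrix.vecTail]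

theorem qdMk_one : qdMk (1 : SL2(ZMod p)) 0 = 1 := by
  apply Subtype.ext; apply Subtype.ext
  ext i j
  fin_cases i <;> fin_cases j <;> simp [qdMk]

theorem qdMk_surjective (M : ↥(Cfsg.qd p)) : ∃ g n, qdMk g n = M := by
  refine ⟨H72.qdBlock p M, ![(M.1 : Matrix (Fin 3) (Fin 3) (ZMod p)) 0 2, (M.1 : Matrix (Fin 3) (Fin 3) (ZMod p)) 1 2], ?_⟩
  obtain ⟨h0, h1, h2⟩ := H72.qd_entries p M.2
  apply Subtype.ext; apply Subtype.ext
  ext i j
  fin_cases i <;> fin_cases j <;> simp [qdMk, H72.qdBlock_val, h0, h1, h2]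

/-- A natural module section gives a section `Qd(p)`. -/
theorem involves_qd_of_plane (hp2 : p ≠ 2) (A L : Subgroup G) (hAp : IsPGroup p A)
    (hAc : ∀ a ∈ A, ∀ b ∈ A, a * b = b * a) (hLA : L ≤ Subgroup.normalizer (A : Set G))
    (φ : L →* SL2(ZMod p)) (hφ : Function.Surjective φ) (π : A → (Fin 2 → ZMod p))
    (hπadd : ∀ a b : A, π (a * b) = π a + π b) (hπ : Function.Surjective π)
    (hequi : ∀ (l : L) (a : A) (h : (l : G) * a * (l : G)⁻¹ ∈ A),
      π ⟨_, h⟩ = (φ l : Matrix (Fin 2) (Fin 2) (ZMod p)).mulVec (π a)) :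
    Cfsg.Involves ↥(Cfsg.qd p) G := by
  -- a minimal supplement
  obtain ⟨L₀, -, hL₀⟩ := exists_minimal_le_of_wellFoundedLT (fun K : Subgroup L => K.map φ = ⊤) ⊤
    (Subgroup.map_top_of_surjective φ hφ)
  set φ₀ : L₀ →* SL2(ZMod p) := φ.comp L₀.subtype with hφ₀
  have hφ₀s : Function.Surjective φ₀ := fun g => by
    obtain ⟨l, hl, hlg⟩ := hL₀.1.ge (Subgroup.mem_top g)
    exact ⟨⟨l, hl⟩, hlg⟩
  have hmin : ∀ K : Subgroup L₀, K.map φ₀ = ⊤ → K = ⊤ := by
    intro K hK
    have h1 : (K.map L₀.subtype).map φ = ⊤ := by rw [Subgroup.map_map]; exact hK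
    have h2 := hL₀.2 h1 (Subgroup.map_subtype_le K)
    rw [eq_top_iff]
    intro x _
    obtain ⟨y, hy, hyx⟩ := h2 x.2
    rwa [← (Subtype.ext hyx : y = x)]
  -- an element acting as minus the identity, in a normal `2`-subgroup
  set z : SL2(ZMod p) := H72.dSL (-1) (neg_ne_zero.mpr one_ne_zero) with hz
  have hzc : ∀ g, g * z = z * g := fun g => by
    apply H72.sl2_ext <;> simp [hz, H72.dSL_val, inv_neg, Matrix.mul_apply, Fin.sum_univ_two]
  have hz2 : z ^ 2 = 1 := by rw [sq]; apply H72.sl2_ext <;> simp [hz, H72.dSL_val, inv_neg]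
  set Z := Subgroup.zpowers z with hZ
  haveI hZn : Z.Normal := ⟨fun x hx g => by
    obtain ⟨i, rfl⟩ := Subgroup.mem_zpowers_iff.mp hx
    rw [(Commute.zpow_right (hzc g : Commute g z) i).eq, mul_inv_cancel_right]
    exact hx⟩
  haveI : Fact (Nat.Prime 2) := ⟨Nat.prime_two⟩
  set J := Z.comap φ₀ with hJ
  haveI hJn : J.Normal := hZn.comap φ₀
  obtain ⟨T⟩ : Nonempty (Sylow 2 J) := inferInstance
  set T' := (T : Subgroup J).map J.subtype with hT'
  have hsupp : Subgroup.normalizer (T' : Set L₀) ⊔ J = ⊤ := Sylow.normalizer_sup_eq_top T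
  have hTz : z ∈ T'.map φ₀ := by
    obtain ⟨l, hl⟩ := hφ₀s z
    have hlJ : l ∈ J := by
      show φ₀ l ∈ Z
      rw [hl]; exact Subgroup.mem_zpowers z
    -- the `2`-part of `l` still maps to `z`
    obtain ⟨k, m, hm, hord⟩ := Nat.exists_eq_pow_mul_and_not_dvd (orderOf_pos l).ne' 2 (by norm_num)
    have hodd : φ₀ (l ^ m) = z := by
      rw [map_pow, hl]
      obtain ⟨c, hc⟩ : ∃ c, m = 2 * c + 1 := ⟨m / 2, by omega⟩
      rw [hc, pow_succ, pow_mul, hz2, one_pow, one_mul]
    have hp' : IsPGroup 2 (Subgroup.zpowers (⟨l ^ m, J.pow_mem hlJ m⟩ : J)) := by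
      refine IsPGroup.of_card_dvd_pow (n := k) ?_
      rw [Nat.card_zpowers, ← Subgroup.orderOf_coe]
      refine orderOf_dvd_of_pow_eq_one ?_
      show (l ^ m) ^ 2 ^ k = 1
      rw [← pow_mul, mul_comm, ← hord, pow_orderOf_eq_one]
    obtain ⟨T₁, hT₁⟩ := hp'.exists_le_sylow
    obtain ⟨j, hj⟩ := MulAction.exists_smul_eq J T₁ T
    refine ⟨(j : L₀) * l ^ m * (j : L₀)⁻¹, ?_, ?_⟩
    · refine ⟨j * ⟨l ^ m, J.pow_mem hlJ m⟩ * j⁻¹, ?_, rfl⟩
      rw [← hj, Sylow.coe_subgroup_smul]
      exact ⟨_, hT₁ (Subgroup.mem_zpowers _), rfl⟩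
    · rw [map_mul, map_mul, map_inv, hodd, hzc, mul_inv_cancel_right]
  have hTn : T'.Normal := by
    rw [← Subgroup.normalizer_eq_top_iff]
    apply hmin
    have hJN : J.map φ₀ ≤ (Subgroup.normalizer (T' : Set L₀)).map φ₀ := by
      rw [hJ, Subgroup.map_comap_eq_self_of_surjective hφ₀s, hZ, Subgroup.zpowers_le]
      exact Subgroup.map_mono Subgroup.le_normalizer hTz
    have := congrArg (Subgroup.map φ₀) hsupp
    rw [Subgroup.map_sup, Subgroup.map_top_of_surjective φ₀ hφ₀s, sup_eq_left.mpr hJN] at this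
    exact this
  obtain ⟨t, htT, htz⟩ := hTz
  -- elements of `A` in the supplement
  have hAfix : ∀ (l : L₀) (ha : ((l : L) : G) ∈ A), φ₀ l = 1 ∧ π ⟨_, ha⟩ = 0 := by
    intro l ha
    have h1 : φ₀ l = 1 := by
      have hfix : ∀ n, (φ (l : L) : Matrix (Fin 2) (Fin 2) (ZMod p)).mulVec n = n := by
        intro n
        obtain ⟨b, rfl⟩ := hπ n
        have he : ((l : L) : G) * b * ((l : L) : G)⁻¹ = b := by
          rw [hAc _ ha _ b.2, mul_inv_cancel_right]
        rw [← hequi (l : L) b (he.symm ▸ b.2)]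
        congr 1; exact Subtype.ext he
      apply Subtype.ext
      show ((φ (l : L) : SL2(ZMod p)) : Matrix (Fin 2) (Fin 2) (ZMod p)) = 1
      refine Matrix.ext_iff_mulVec.mpr fun n => ?_
      rw [hfix, Matrix.one_mulVec]
    refine ⟨h1, ?_⟩
    have hcomm : t * l = l * t := by
      rw [← commutatorElement_eq_one_iff_mul_comm]
      have hT2 : IsPGroup 2 T' := T.2.map _
      have hmemT : ⁅t, l⁆ ∈ T' := by
        rw [commutatorElement_def, mul_assoc, mul_assoc, ← mul_assoc l]
        exact T'.mul_mem htT (hTn.conj_mem _ (T'.inv_mem htT) l)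
      have hmemA : ((⁅t, l⁆ : L₀) : L).1 ∈ A := by
        show ((t : L) : G) * (l : L) * ((t : L) : G)⁻¹ * ((l : L) : G)⁻¹ ∈ A
        exact A.mul_mem ((Subgroup.mem_normalizer_iff.mp (hLA (t : L).2) _).mp ha) (A.inv_mem ha)
      obtain ⟨i, hi⟩ := hT2 ⟨_, hmemT⟩
      obtain ⟨j, hj⟩ := hAp ⟨_, hmemA⟩
      have hcop : Nat.Coprime (2 ^ i) (p ^ j) :=
        Nat.Coprime.pow _ _ ((Nat.coprime_primes Nat.prime_two hp.out).mpr (Ne.symm hp2))
      have h2' : ⁅t, l⁆ ^ 2 ^ i = 1 := congrArg Subtype.val hi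
      have hp' : ⁅t, l⁆ ^ p ^ j = 1 := Subtype.ext (Subtype.ext (by simpa using congrArg Subtype.val hj))
      exact orderOf_eq_one_iff.mp (Nat.eq_one_of_dvd_coprimes hcop (orderOf_dvd_of_pow_eq_one h2')
        (orderOf_dvd_of_pow_eq_one hp'))
    have he : ((t : L) : G) * (l : L) * ((t : L) : G)⁻¹ = (l : L) := by
      have h' := congrArg (fun w : L₀ => ((w : L) : G)) hcomm
      simp only [Subgroup.coe_mul] at h'
      rw [h', mul_inv_cancel_right]
    have h := hequi (t : L) ⟨_, ha⟩ (he.symm ▸ ha)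
    rw [show (⟨_, he.symm ▸ ha⟩ : A) = ⟨_, ha⟩ from Subtype.ext he,
      show φ (t : L) = z from htz] at h
    funext i
    have h' := congrFun h i
    have h2 : (2 : ZMod p) ≠ 0 := Ring.two_ne_zero (by rw [ringChar.eq (ZMod p) p]; exact hp2)
    fin_cases i <;>
      (simp [hz, H72.dSL_val, Matrix.mulVec, dotProduct, Fin.sum_univ_two, inv_neg, Matrix.vecHead, Matrix.vecTail] at h' ⊢
       exact (mul_eq_zero.mp (show (2 : ZMod p) * _ = 0 by linear_combination h')).resolve_left h2)
  -- the semidirect product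
  let ψ : L₀ →* MulAut A :=
    A.normalizerMonoidHom.comp ((Subgroup.inclusion hLA).comp L₀.subtype)
  let μ : A ⋊[ψ] L₀ →* G := SemidirectProduct.lift A.subtype (L.subtype.comp L₀.subtype) (by
    intro l; ext a; rfl)
  have hequi' : ∀ (l : L₀) (a : A), π (ψ l a) = (φ₀ l : Matrix (Fin 2) (Fin 2) (ZMod p)).mulVec (π a) :=
    fun l a => hequi (l : L) a (ψ l a).2
  let Θ : A ⋊[ψ] L₀ →* ↥(Cfsg.qd p) :=
    MonoidHom.mk' (fun w => qdMk (φ₀ w.right) (π w.left)) fun w w' => by
      show qdMk (φ₀ (w.right * w'.right)) (π (w.left * ψ w.right w'.left)) = _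
      rw [qdMk_mul, map_mul, hπadd, hequi', add_comm]
  have hπ1 : π 1 = 0 := by simpa using hπadd 1 1
  have hker : μ.ker ≤ Θ.ker := by
    intro w hw
    have hmul : (w.left : G) * ((w.right : L) : G) = 1 := hw
    have hmem : ((w.right : L) : G) ∈ A := by
      rw [← inv_eq_of_mul_eq_one_right hmul]; exact A.inv_mem w.left.2
    obtain ⟨h1, h2⟩ := hAfix w.right hmem
    have hl : π w.left = 0 := by
      have h3 := hπadd w.left ⟨_, hmem⟩
      rw [show w.left * (⟨_, hmem⟩ : A) = 1 from Subtype.ext hmul, hπ1, h2, add_zero] at h3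
      exact h3.symm
    show qdMk (φ₀ w.right) (π w.left) = 1
    rw [h1, hl, qdMk_one]
  let Ψ := μ.rangeRestrict.liftOfSurjective μ.rangeRestrict_surjective
    ⟨Θ, by rwa [MonoidHom.ker_rangeRestrict]⟩
  refine H74.S4Section.involves_of_surjective Ψ fun M => ?_
  obtain ⟨g, n, rfl⟩ := qdMk_surjective M
  obtain ⟨l, rfl⟩ := hφ₀s g
  obtain ⟨a, rfl⟩ := hπ n
  refine ⟨μ.rangeRestrict (⟨a, l⟩ : A ⋊[ψ] L₀), ?_⟩
  show Ψ (μ.rangeRestrict (⟨a, l⟩ : A ⋊[ψ] L₀)) = _
  rw [MonoidHom.liftOfRightInverse_comp_apply]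
  rfl

theorem involves_of_involves_quotient {Q : Type*} [Group Q] (f : G →* Q) (hf : Function.Surjective f)
    {H : Type*} [Group H] (h : Cfsg.Involves H Q) : Cfsg.Involves H G := by
  obtain ⟨K, R, hR, ⟨e⟩⟩ := h
  haveI := hR
  let g : K.comap f →* H :=
    e.toMonoidHom.comp ((QuotientGroup.mk' (R.subgroupOf K)).comp (f.subgroupComap K))
  refine H74.S4Section.involves_of_surjective g ?_
  exact e.surjective.comp ((QuotientGroup.mk'_surjective _).comp fun k => by
    obtain ⟨x, hx⟩ := hf k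
    exact ⟨⟨x, show f x ∈ K by rw [hx]; exact k.2⟩, Subtype.ext hx⟩)

/-- A quadratic action on an elementary abelian normal subgroup that is not `p`-stable. -/
theorem involves_qd_of_not_stable_elementary (hp2 : p ≠ 2) (V : Subgroup G) [V.Normal]
    (hV : Cfsg.IsElementaryAbelian p V) {a : G} (hq : H10.IsQuadOn V a)
    (hna : (QuotientGroup.mk a : G ⧸ Subgroup.centralizer (V : Set G)) ∉
      Cfsg.pCore p (G ⧸ Subgroup.centralizer (V : Set G))) :
    Cfsg.Involves ↥(Cfsg.qd p) G := by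
  classical
  letI : CommGroup V := { (inferInstance : Group V) with mul_comm := hV.1.is_comm.comm }
  haveI : Module (ZMod p) (Additive V) :=
    AddCommGroup.zmodModule (fun x => by
      apply Additive.toMul.injective
      exact Subtype.ext (by simpa using hV.2 _ (Additive.toMul x).2))
  -- the representation
  let cj : G →* MulAut V := MulAut.conjNormal
  let fM : G → Additive V →+ Additive V := fun h => MonoidHom.toAdditive (cj h).toMonoidHom
  have hfM : ∀ (h : G) (x : Additive V), ((Additive.toMul (fM h x) : V) : G) =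
      h * (Additive.toMul x : V) * h⁻¹ := fun h x => rfl
  let lin : G →* Module.End (ZMod p) (Additive V) :=
    { toFun := fun h => (fM h).toZModLinearMap p
      map_one' := LinearMap.ext fun x => Additive.toMul.injective (Subtype.ext (by simp [hfM]))
      map_mul' := fun g h => LinearMap.ext fun x =>
        Additive.toMul.injective (Subtype.ext (by simp [hfM, mul_assoc])) }
  obtain ⟨sB, ⟨B⟩⟩ := Module.Basis.exists_basis (ZMod p) (Additive V)
  haveI : Finite sB := Subtype.finite
  haveI := Fintype.ofFinite sB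
  let K := AlgebraicClosure (ZMod p)
  let c : ZMod p →+* K := algebraMap (ZMod p) K
  let emb : Module.End (ZMod p) (Additive V) →* Module.End K (sB → K) :=
    ((Matrix.toLinAlgEquiv' : Matrix sB sB K ≃ₐ[K] _).toRingEquiv.toRingHom.comp
      (c.mapMatrix.comp (LinearMap.toMatrixAlgEquiv B).toRingEquiv.toRingHom) : _ →+* _).toMonoidHom
  let ρ : G →* Module.End K (sB → K) := emb.comp lin
  let inc : Additive V →+ (sB → K) :=
    { toFun := fun v i => c (B.repr v i)
      map_zero' := funext fun i => by simp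
      map_add' := fun v w => funext fun i => by simp }
  have hinc : ∀ (h : G) (v : Additive V), ρ h (inc v) = inc (fM h v) := by
    intro h v
    have e := LinearMap.toMatrix_mulVec_repr B B (lin h) v
    funext i
    show ((LinearMap.toMatrix B B (lin h)).map c).mulVec (fun j => c (B.repr v j)) i =
      c (B.repr (lin h v) i)
    rw [← e]
    exact (RingHom.map_mulVec c _ _ i).symm
  have hfaith : ∀ h, ρ h = 1 → h ∈ Subgroup.centralizer (V : Set G) := by
    intro h hh
    rw [Subgroup.mem_centralizer_iff]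
    intro v hv
    have h1 : inc (fM h (Additive.ofMul ⟨v, hv⟩)) = inc (Additive.ofMul ⟨v, hv⟩) := by
      rw [← hinc, hh]; rfl
    have h2 : fM h (Additive.ofMul ⟨v, hv⟩) = Additive.ofMul ⟨v, hv⟩ :=
      B.repr.injective (Finsupp.ext fun i => c.injective (congrFun h1 i))
    have h3 := hfM h (Additive.ofMul ⟨v, hv⟩)
    rw [h2] at h3
    exact (mul_inv_eq_iff_eq_mul.mp h3.symm).symm
  have hquad : ∀ h, H10.IsQuadOn V h → (ρ h - 1) * (ρ h - 1) = 0 := by
    intro h hh
    have hz : (lin h - 1) * (lin h - 1) = 0 := by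
      refine LinearMap.ext fun x => ?_
      show fM h (fM h x - x) - (fM h x - x) = 0
      rw [sub_eq_zero]
      apply Additive.toMul.injective
      apply Subtype.ext
      have hy : ((Additive.toMul (fM h x - x) : V) : G) =
          h * (Additive.toMul x : V) * h⁻¹ * ((Additive.toMul x : V) : G)⁻¹ := by
        rw [toMul_sub, div_eq_mul_inv, Subgroup.coe_mul, Subgroup.coe_inv, hfM]
      rw [hfM, hy, ← (hh.commute (Additive.toMul x).2).eq, mul_inv_cancel_right]
    show (emb (lin h) - 1) * (emb (lin h) - 1) = 0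
    simp only [emb, RingHom.toMonoidHom_eq_coe, MonoidHom.coe_coe]
    rw [← map_one ((Matrix.toLinAlgEquiv' : Matrix sB sB K ≃ₐ[K] _).toRingEquiv.toRingHom.comp
      (c.mapMatrix.comp (LinearMap.toMatrixAlgEquiv B).toRingEquiv.toRingHom)), ← map_sub, ← map_mul, hz,
      map_zero]
  -- a quadratic pair
  obtain ⟨g', hg'⟩ : ∃ g' : G, ¬ IsPGroup p ↥(Subgroup.closure
      ({QuotientGroup.mk a, QuotientGroup.mk (g' * a * g'⁻¹)} :
        Set (G ⧸ Subgroup.centralizer (V : Set G)))) := by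
    by_contra hall
    push Not at hall
    apply hna
    refine H65.mem_pCore_of_pairs fun w => ?_
    obtain ⟨g', rfl⟩ := QuotientGroup.mk_surjective w
    rw [← QuotientGroup.mk_inv, ← QuotientGroup.mk_mul, ← QuotientGroup.mk_mul]
    exact hall g'
  set b := g' * a * g'⁻¹ with hbdef
  have hqb : H10.IsQuadOn V b :=
    hq.conj (by rw [Subgroup.normalizer_eq_top]; exact Subgroup.mem_top _)
  set P := Subgroup.closure ({a, b} : Set G) with hP
  have haP : a ∈ P := Subgroup.subset_closure (Set.mem_insert _ _)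
  have hbP : b ∈ P := Subgroup.subset_closure (Set.mem_insert_of_mem _ rfl)
  have hgen : Subgroup.closure ({(⟨a, haP⟩ : P), ⟨b, hbP⟩} : Set P) = ⊤ := by
    apply Subgroup.map_injective P.subtype_injective
    rw [MonoidHom.map_closure, Set.image_pair, ← MonoidHom.range_eq_map, Subgroup.range_subtype]
    rfl
  have hnp : ¬ ∀ h : P, ∃ k : ℕ, (ρ.comp P.subtype) h ^ p ^ k = 1 := by
    intro hall
    apply hg'
    have himg : ({(QuotientGroup.mk a : G ⧸ Subgroup.centralizer (V : Set G)), QuotientGroup.mk b} :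
        Set (G ⧸ Subgroup.centralizer (V : Set G))) = QuotientGroup.mk' _ '' {a, b} := by
      rw [Set.image_pair]; rfl
    rw [himg, ← MonoidHom.map_closure]
    rintro ⟨_, x, hx, rfl⟩
    obtain ⟨k, hk⟩ := hall ⟨x, hx⟩
    refine ⟨k, Subtype.ext ?_⟩
    show QuotientGroup.mk' _ x ^ p ^ k = 1
    rw [← map_pow, QuotientGroup.mk'_apply, QuotientGroup.eq_one_iff]
    exact hfaith _ (by rw [map_pow]; exact hk)
  obtain ⟨φ, hua, hub, hnu, U, π, hπ, hequi⟩ :=
    exists_sl2_module_of_quadratic_pair (p := p) (⟨a, haP⟩ : P) ⟨b, hbP⟩ hgen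
      (N := orderOf ((⟨a, haP⟩ : P) * ⟨b, hbP⟩)) (orderOf_pos _).ne' (IsAlgClosed.splits _)
      (pow_orderOf_eq_one _) (ρ.comp P.subtype) (hquad a hq) (hquad b hqb) hnp
  -- the image has several Sylow subgroups, so contains `SL₂(p)`
  obtain ⟨f, hf, hfle⟩ : ∃ f : SL2(ZMod p) →* SL2(K), Function.Injective f ∧ f.range ≤ φ.range :=
    exists_sl2_prime_le_range hp2 φ hgen hua hub hnu
  obtain ⟨e, heinj, he⟩ := exists_natural_basis hp2 f hf
  set L' := f.range.comap φ with hL'
  let φL : L' →* SL2(ZMod p) := (MonoidHom.ofInjective hf).symm.toMonoidHom.comp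
    ((φ.comp L'.subtype).codRestrict f.range fun x => x.2)
  have hφL : ∀ l : L', f (φL l) = φ l := fun l => by
    exact congrArg Subtype.val ((MonoidHom.ofInjective hf).apply_symm_apply ⟨φ l, l.2⟩)
  have hφLs : Function.Surjective φL := fun g => by
    obtain ⟨l, hl⟩ := hfle ⟨g, rfl⟩
    refine ⟨⟨l, show φ l ∈ f.range by rw [hl]; exact ⟨g, rfl⟩⟩, hf ?_⟩
    rw [hφL]; exact hl
  -- a plane in a power of `V`
  obtain ⟨w, hw⟩ := hπ (e ![1, 0])
  let S : Finset K := Finset.univ.image (w : sB → K)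
  let Ψ : (S → Additive V) →+ (sB → K) :=
    { toFun := fun ξ => ∑ s : S, (s : K) • inc (ξ s)
      map_zero' := by simp
      map_add' := fun ξ η => by simp [smul_add, Finset.sum_add_distrib] }
  have hΨ : ∀ (l : L') ξ, Ψ (fun s => fM ((l : P) : G) (ξ s)) = ρ ((l : P) : G) (Ψ ξ) := by
    intro l ξ
    show ∑ s : S, _ = ρ _ (∑ s : S, _)
    rw [map_sum]
    exact Finset.sum_congr rfl fun s _ => by rw [map_smul, hinc]
  let ξ₀ : S → Additive V := fun s => ∑ i ∈ Finset.univ.filter (fun i => (w : sB → K) i = (s : K)), B i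
  have hξ₀ : Ψ ξ₀ = (w : sB → K) := by
    show ∑ s : S, (s : K) • inc (ξ₀ s) = _
    funext j
    rw [Finset.sum_apply]
    have hj : (w : sB → K) j ∈ S := Finset.mem_image_of_mem _ (Finset.mem_univ j)
    have hval : ∀ s : S, inc (ξ₀ s) j = if (w : sB → K) j = (s : K) then 1 else 0 := by
      intro s
      show c (B.repr (ξ₀ s) j) = _
      simp only [ξ₀, map_sum, Finsupp.finsetSum_apply, Module.Basis.repr_self, Finsupp.single_apply, apply_ite c, map_one, map_zero]
      rw [Finset.sum_ite_eq']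
      split_ifs <;> simp_all
    simp only [Pi.smul_apply, smul_eq_mul, hval, mul_ite, mul_one, mul_zero]
    rw [Finset.sum_eq_single (⟨_, hj⟩ : S)]
    · simp
    · intro s _ hs
      rw [if_neg]
      exact fun h => hs (Subtype.ext h.symm)
    · intro h; exact absurd (Finset.mem_univ _) h
  let Γ : AddSubgroup ((S → Additive V) × (Fin 2 → ZMod p)) :=
    { carrier := {z | ∃ h : Ψ z.1 ∈ U, π ⟨_, h⟩ = e z.2}
      zero_mem' := by
        have h0 : Ψ ((0 : (S → Additive V) × (Fin 2 → ZMod p)).1) = 0 := map_zero Ψ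
        refine ⟨h0 ▸ U.zero_mem, ?_⟩
        show π _ = e 0
        rw [map_zero e, ← map_zero π]
        congr 1; exact Subtype.ext h0
      add_mem' := fun {z z'} ⟨h, h1⟩ ⟨h', h1'⟩ => by
        refine ⟨show Ψ (z.1 + z'.1) ∈ U by rw [map_add]; exact U.add_mem h h', ?_⟩
        show π _ = e (z.2 + z'.2)
        rw [map_add e, ← h1, ← h1', ← map_add π]
        congr 1; exact Subtype.ext (map_add Ψ _ _)
      neg_mem' := fun {z} ⟨h, h1⟩ => by
        refine ⟨show Ψ (-z.1) ∈ U by rw [map_neg]; exact U.neg_mem h, ?_⟩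
        show π _ = e (-z.2)
        rw [map_neg e, ← h1, ← map_neg π]
        congr 1; exact Subtype.ext (map_neg Ψ _) }
  have hΓmem : ∀ z, z ∈ Γ ↔ ∃ h : Ψ z.1 ∈ U, π ⟨_, h⟩ = e z.2 := fun z => Iff.rfl
  have hΓinv : ∀ (l : L'), ∀ z ∈ Γ, ((fun i => fM ((l : P) : G) (z.1 i)),
      (φL l : Matrix (Fin 2) (Fin 2) (ZMod p)).mulVec z.2) ∈ Γ := by
    intro l z hz
    obtain ⟨h, h1⟩ := (hΓmem z).mp hz
    obtain ⟨hx, hxe⟩ := hequi (l : P) ⟨_, h⟩
    refine (hΓmem _).mpr ⟨by rw [hΨ]; exact hx, ?_⟩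
    rw [← he, hφL, ← h1, ← hxe]
    congr 1; exact Subtype.ext (hΨ l z.1)
  have hΓzero : ∀ n, ((0 : S → Additive V), n) ∈ Γ → n = 0 := by
    intro n hn
    obtain ⟨h, h1⟩ := (hΓmem _).mp hn
    refine heinj ?_
    rw [map_zero, ← h1, ← map_zero π]
    congr 1; exact Subtype.ext (map_zero Ψ)
  have hΓne : (ξ₀, (![1, 0] : Fin 2 → ZMod p)) ∈ Γ :=
    (hΓmem _).mpr ⟨hξ₀.symm ▸ w.2, by rw [← hw]; congr 1; exact Subtype.ext hξ₀⟩
  obtain ⟨Y, θ, hθ, hθequi⟩ := exists_plane_section φL hφLs (fun (l : L') => fM ((l : P) : G))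
    (Finset.univ : Finset S) Γ (fun z _ i hi => absurd (Finset.mem_univ i) hi) hΓinv hΓzero
    ⟨_, hΓne, fun h => by simpa using congrFun h 0⟩
  -- back to subgroups
  set A := (AddSubgroup.toSubgroup' Y).map V.subtype with hA
  have hAV : A ≤ V := Subgroup.map_subtype_le _
  have hmemY : ∀ x : A, Additive.ofMul (⟨(x : G), hAV x.2⟩ : V) ∈ Y := by
    rintro ⟨_, y, hy, rfl⟩; exact hy
  set L := L'.map P.subtype with hL
  let eL : L' ≃* L := L'.equivMapOfInjective P.subtype P.subtype_injective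
  have hVp : IsPGroup p V := fun x => ⟨1, Subtype.ext (by simpa using hV.2 _ x.2)⟩
  refine involves_qd_of_plane hp2 A L (hVp.to_le hAV)
    (fun x hx y hy => congrArg Subtype.val (hV.1.is_comm.comm ⟨x, hAV hx⟩ ⟨y, hAV hy⟩)) ?_
    (φL.comp eL.symm.toMonoidHom) (hφLs.comp eL.symm.surjective)
    (fun x => θ ⟨_, hmemY x⟩) ?_ ?_ ?_
  · rintro _ ⟨l, hl, rfl⟩
    refine Subgroup.mem_normalizer_fintype ?_
    rintro _ ⟨y, hy, rfl⟩
    obtain ⟨hy', -⟩ := hθequi ⟨l, hl⟩ ⟨_, hy⟩
    exact ⟨Additive.toMul (fM (l : G) (Additive.ofMul y)), hy', hfM _ _⟩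
  · intro x y
    rw [← map_add]
    rfl
  · intro n
    obtain ⟨⟨y, hy⟩, rfl⟩ := hθ n
    exact ⟨⟨_, Additive.toMul y, hy, rfl⟩, rfl⟩
  · intro l x hlx
    obtain ⟨l, rfl⟩ := eL.surjective l
    obtain ⟨hy', he'⟩ := hθequi l ⟨_, hmemY x⟩
    rw [MonoidHom.comp_apply, MulEquiv.coe_toMonoidHom, MulEquiv.symm_apply_apply, ← he']
    congr 1

theorem mem_pCore_quotient_iff {X : Type*} [Group X] [Finite X] {W : Subgroup X} [W.Normal] {a : X}
    (D : Subgroup X) (hD : D.Normal) (hDp : ∀ x ∈ D, ∃ k : ℕ, x ^ p ^ k ∈ Subgroup.centralizer (W : Set X))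
    (ha : a ∈ D) :
    (QuotientGroup.mk a : X ⧸ Subgroup.centralizer (W : Set X)) ∈
      Cfsg.pCore p (X ⧸ Subgroup.centralizer (W : Set X)) := by
  haveI := hD.map (QuotientGroup.mk' (Subgroup.centralizer (W : Set X))) (QuotientGroup.mk'_surjective _)
  refine H1.le_pCore (N := D.map (QuotientGroup.mk' (Subgroup.centralizer (W : Set X)))) ?_ ⟨a, ha, rfl⟩
  rintro ⟨_, x, hx, rfl⟩
  obtain ⟨k, hk⟩ := hDp x hx
  exact ⟨k, Subtype.ext ((QuotientGroup.eq_one_iff _).mpr hk)⟩

theorem exists_normal_pow_mem {X : Type*} [Group X] [Finite X] {W : Subgroup X} [W.Normal] {a : X}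
    (h : (QuotientGroup.mk a : X ⧸ Subgroup.centralizer (W : Set X)) ∈
      Cfsg.pCore p (X ⧸ Subgroup.centralizer (W : Set X))) :
    ∃ D : Subgroup X, D.Normal ∧ a ∈ D ∧ ∀ x ∈ D, ∃ k : ℕ, x ^ p ^ k ∈ Subgroup.centralizer (W : Set X) := by
  refine ⟨_, (H1.pCore_normal' p _).comap (QuotientGroup.mk' (Subgroup.centralizer (W : Set X))), h, fun x hx => ?_⟩
  obtain ⟨k, hk⟩ := H1.isPGroup_pCore p (X ⧸ Subgroup.centralizer (W : Set X)) ⟨_, hx⟩
  refine ⟨k, ?_⟩
  rw [← QuotientGroup.eq_one_iff, ← QuotientGroup.mk'_apply, map_pow]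
  exact congrArg Subtype.val hk

universe u

/-- For odd `p`, if `Qd(p)` is not involved then every action on a normal `p`-subgroup is `p`-stable. -/
theorem isPStableOn_of_not_involves_qd (hp2 : p ≠ 2) (n : ℕ) :
    ∀ (X : Type u) [Group X] [Finite X], Nat.card X ≤ n → ¬ Cfsg.Involves ↥(Cfsg.qd p) X →
      ∀ (W : Subgroup X) [W.Normal], IsPGroup p W → Cfsg.IsPStableOn p W := by
  induction n with
  | zero => intro X _ _ h; exact absurd h (not_le.mpr Nat.card_pos)
  | succ n ih =>
  intro X _ _ hcard hfree W _ hW a hq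
  by_cases hW1 : W = ⊥
  · refine mem_pCore_quotient_iff ⊤ inferInstance (fun x _ => ⟨0, ?_⟩) (Subgroup.mem_top a)
    rw [hW1, Subgroup.mem_centralizer_iff]
    intro y hy
    rw [Subgroup.mem_bot.mp hy, one_mul, mul_one]
  obtain ⟨M, hMle, hMn, hM, hM1⟩ : ∃ M : Subgroup X, M ≤ W ∧ M.Normal ∧
      Cfsg.IsElementaryAbelian p M ∧ M ≠ ⊥ := by
    refine ⟨Cfsg.omegaOne p (W ⊓ Subgroup.centralizer (W : Set X)), ?_, ?_, ?_, ?_⟩
    · rw [Cfsg.omegaOne, Subgroup.closure_le]
      exact fun x hx => hx.1.1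
    · exact H10.omegaOne_normal (H10.normal_inf_centralizer W)
    · have hexp : ∀ x ∈ Cfsg.omegaOne p (W ⊓ Subgroup.centralizer (W : Set X)),
          x ∈ W ⊓ Subgroup.centralizer (W : Set X) ∧ x ^ p = 1 := by
        intro x hx
        induction hx using Subgroup.closure_induction with
        | mem y hy => exact hy
        | one => exact ⟨one_mem _, one_pow p⟩
        | mul y z _ _ hy hz =>
          refine ⟨mul_mem hy.1 hz.1, ?_⟩
          rw [Commute.mul_pow (Subgroup.mem_centralizer_iff.mp hz.1.2 y hy.1.1), hy.2, hz.2, one_mul]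
        | inv y _ hy => exact ⟨inv_mem hy.1, by rw [inv_pow, hy.2, inv_one]⟩
      refine ⟨⟨⟨fun y z => Subtype.ext ?_⟩⟩, fun x hx => (hexp x hx).2⟩
      exact Subgroup.mem_centralizer_iff.mp (hexp z z.2).1.2 y (hexp y y.2).1.1
    · haveI : Nontrivial W := (Subgroup.nontrivial_iff_ne_bot W).mpr hW1
      haveI := hW.center_nontrivial
      obtain ⟨z, hz⟩ := exists_prime_orderOf_dvd_card' (G := Subgroup.center W) p (by
        rcases (hW.to_subgroup (Subgroup.center W)).card_eq_or_dvd with h | h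
        · exact absurd h (Finite.one_lt_card).ne'
        · exact h)
      intro h0
      have hmem : ((z : W) : X) ∈ Cfsg.omegaOne p (W ⊓ Subgroup.centralizer (W : Set X)) :=
        Subgroup.subset_closure ⟨⟨(z : W).2, Subgroup.mem_centralizer_iff.mpr fun y hy =>
          congrArg Subtype.val (Subgroup.mem_center_iff.mp z.2 ⟨y, hy⟩)⟩,
          by rw [← hz]; exact congrArg (fun w : Subgroup.center W => ((w : W) : X)) (pow_orderOf_eq_one z)⟩
      rw [h0, Subgroup.mem_bot] at hmem
      rw [show z = 1 from Subtype.ext (Subtype.ext hmem), orderOf_one] at hz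
      exact (Fact.out : p.Prime).ne_one hz.symm
  haveI := hMn
  -- on `M`
  have h1 : (QuotientGroup.mk a : X ⧸ Subgroup.centralizer (M : Set X)) ∈
      Cfsg.pCore p (X ⧸ Subgroup.centralizer (M : Set X)) := by
    by_contra hna
    refine hfree (involves_qd_of_not_stable_elementary hp2 M hM ?_ hna)
    rw [H10.IsQuadOn, eq_bot_iff]
    exact (Subgroup.commutator_mono (Subgroup.commutator_mono hMle le_rfl) le_rfl).trans hq.le
  -- on `W / M`
  set f := QuotientGroup.mk' M with hf
  have hlt : Nat.card (X ⧸ M) < Nat.card X := by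
    have e := M.card_mul_index
    rw [Subgroup.index] at e
    have h2 : 1 < Nat.card M := (M.one_lt_card_iff_ne_bot).mpr hM1
    have h3 : 0 < Nat.card (X ⧸ M) := Nat.card_pos
    nlinarith
  haveI : (W.map f).Normal := (inferInstance : W.Normal).map f (QuotientGroup.mk'_surjective M)
  have h2 := ih (X ⧸ M) (by omega)
    (fun h => hfree (involves_of_involves_quotient f (QuotientGroup.mk'_surjective M) h))
    (W.map f) (hW.map f) (f a) (by
      rw [← MonoidHom.map_zpowers, ← Subgroup.map_commutator, ← Subgroup.map_commutator, hq, Subgroup.map_bot])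
  obtain ⟨D₁, hD₁n, ha₁, hD₁⟩ := exists_normal_pow_mem h1
  obtain ⟨D₂, hD₂n, ha₂, hD₂⟩ := exists_normal_pow_mem h2
  haveI := hD₁n
  haveI := hD₂n
  refine mem_pCore_quotient_iff (D₁ ⊓ D₂.comap f) inferInstance (fun x hx => ?_) ⟨ha₁, ha₂⟩
  obtain ⟨i, hi⟩ := hD₁ x hx.1
  obtain ⟨j, hj⟩ := hD₂ (f x) hx.2
  set y := x ^ p ^ (i + j) with hy
  have hyM : y ∈ Subgroup.centralizer (M : Set X) := by
    rw [hy, pow_add, pow_mul]; exact pow_mem hi _
  have hyW : f y ∈ Subgroup.centralizer ((W.map f : Subgroup (X ⧸ M)) : Set (X ⧸ M)) := by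
    rw [hy, map_pow, pow_add, mul_comm, pow_mul]; exact pow_mem hj _
  refine ⟨i + j + 1, ?_⟩
  rw [pow_succ, pow_mul, ← hy, Subgroup.mem_centralizer_iff]
  intro w hw
  -- `y` acts on `W` by translations with values in `M`
  have hc : ∃ c ∈ M, y * w * y⁻¹ = c * w := by
    refine ⟨y * w * y⁻¹ * w⁻¹, ?_, (inv_mul_cancel_right _ w).symm⟩
    rw [← QuotientGroup.eq_one_iff, ← QuotientGroup.mk'_apply, ← hf, map_mul, map_mul, map_mul, map_inv, map_inv,
      ← Subgroup.mem_centralizer_iff.mp hyW (f w) ⟨w, hw, rfl⟩, mul_inv_cancel_right, mul_inv_cancel]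
  obtain ⟨c, hc, hyw⟩ := hc
  have hyc : y * c * y⁻¹ = c := by
    rw [← Subgroup.mem_centralizer_iff.mp hyM c hc, mul_inv_cancel_right]
  have hk : ∀ k : ℕ, y ^ k * w * (y ^ k)⁻¹ = c ^ k * w := by
    intro k
    induction k with
    | zero => simp
    | succ k ihk =>
      calc y ^ (k + 1) * w * (y ^ (k + 1))⁻¹ = y * (y ^ k * w * (y ^ k)⁻¹) * y⁻¹ := by
            rw [pow_succ']; group
        _ = (y * c * y⁻¹) ^ k * (y * w * y⁻¹) := by rw [ihk, conj_pow]; group
        _ = c ^ (k + 1) * w := by rw [hyc, hyw, ← mul_assoc, ← pow_succ]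
  have h := hk p
  rw [hM.2 c hc, one_mul, mul_inv_eq_iff_eq_mul] at h
  exact h.symm

end Group

end H11
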