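import Cfsg.Agent.H17.MajorPairs
import Cfsg.Agent.H17.MajorContrib
import Cfsg.Agent.H23.Covering
import Cfsg.Agent.H14.GoingDown

/-!
Blocks with abelian defect group over a normal subgroup of `p`-power index.
-/

set_option autoImplicit false
set_option linter.style.haveILetI false
set_option linter.unusedSectionVars false

open Cfsg
open scoped ComplexConjugate

namespace H11.AbCover

universe u

variable {G : Type u} [Group G] [Fintype G] {p : ℕ} [Fact p.Prime] {M : Ideal AlgInt}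
  [hMp : M.IsPrime]

/-- A member of a block with abelian defect group is nonzero on the section of each element of
the defect group. -/
theorem exists_section_ne_zero (hM : IsPModular p M) {B : Set (IrrCharacter G)} (hB : IsPBlock M B)
    {P : Subgroup G} (hP : IsDefectGroup p M B P) (hab : ∀ a ∈ P, ∀ b ∈ P, a * b = b * a)
    {χ : IrrCharacter G} (hχ : χ ∈ B) {x : G} (hx : x ∈ P) :
    ∃ c : G, Commute x c ∧ ¬ p ∣ orderOf c ∧ (χ : G → ℂ) (x * c) ≠ 0 := by
  classical
  haveI := H20.k_charP (p := p) hM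
  haveI := H23.isAlgClosed_k hM.2.1
  obtain ⟨f₀, hmax⟩ := H23.exists_maxPair_defect hB hM hP
  have hxP : Subgroup.zpowers x ≤ P := (Subgroup.zpowers_le).2 hx
  obtain ⟨b, hb⟩ := H17.Major.exists_subBlock hmax (Subgroup.zpowers x)
  obtain ⟨hbp, hle⟩ := hb hxP
  have hxord : ∃ k : ℕ, orderOf x = p ^ k := by
    obtain ⟨k, hk⟩ := IsPGroup.iff_card.1 (H20.IsDefectGroup.isPGroup hP)
    obtain ⟨j, -, hj⟩ := (Nat.dvd_prime_pow (Fact.out : p.Prime)).1
      (hk ▸ Subgroup.orderOf_dvd_natCard P hx)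
    exact ⟨j, hj⟩
  have hC' : Subgroup.centralizer ((Subgroup.zpowers x : Subgroup G) : Set G) =
      Subgroup.centralizer ({x} : Set G) := H17.Major.centralizer_zpowers_eq x
  have hPC : P ≤ Subgroup.centralizer ((Subgroup.zpowers x : Subgroup G) : Set G) := fun a ha => Subgroup.mem_centralizer_iff.2 fun y hy => hab y (hxP hy) a ha
  haveI := Fintype.ofFinite (Subgroup.centralizer ((Subgroup.zpowers x : Subgroup G) : Set G))
  have hd := H17.Major.defect_subBlock hM hB hmax hbp.2 hle hPC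
  have hind := H17.Major.induced_subBlock hM hB hmax hxord hbp hle
  obtain ⟨-, hne⟩ := H17.Major.ctr_factor hM hxord _ hC' hind hd hχ
  by_contra hcon
  push Not at hcon
  refine hne ?_
  have hzero : H17.Major.fpart p (Subgroup.centralizer ((Subgroup.zpowers x : Subgroup G) : Set G)) x b χ = 0 := by
    funext y
    rw [H17.Major.fpart, H22.Sub.regMap_apply, Pi.zero_apply]
    by_cases hy : p ∣ orderOf y
    · exact H22.pRegularPart_of_dvd _ hy
    · rw [H22.pRegularPart_of_not_dvd _ hy,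
        H22.Sub.blockPart_congr hM hind.1 (f' := 0) ?_ hy]
      · rw [← H22.Sub.partMap_apply, map_zero]
        rfl
      · intro w hw
        have hcomm : Commute x (w : G) := by
          have := Subgroup.mem_centralizer_singleton_iff.1 ((SetLike.ext_iff.1 hC' _).1 w.2)
          exact this.symm
        exact hcon (w : G) hcomm (by rwa [Subgroup.orderOf_coe])
  rw [H17.Major.ctr, hzero, H12.classInner_zero_left, mul_zero]

variable {N : Subgroup G} [N.Normal]

/-- A `p`-regular element lies in a normal subgroup of `p`-power index. -/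
theorem mem_of_not_dvd (hN : ∃ k : ℕ, N.index = p ^ k) {c : G} (hc : ¬ p ∣ orderOf c) : c ∈ N := by
  obtain ⟨k, hk⟩ := hN
  rw [← QuotientGroup.eq_one_iff, ← orderOf_eq_one_iff]
  refine Nat.eq_one_of_dvd_coprimes
    (((Nat.Prime.coprime_iff_not_dvd (Fact.out : p.Prime)).2 hc).symm.pow_right k)
    (orderOf_map_dvd (QuotientGroup.mk' N) c) ?_
  have h := orderOf_dvd_natCard ((QuotientGroup.mk' N) c)
  rwa [← Subgroup.index_eq_card, hk] at h

variable (N) in
/-- The product with a linear character of the quotient. -/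
noncomputable def lmul (l : G ⧸ N →* ℂˣ) (χ : IrrCharacter G) : IrrCharacter G :=
  ⟨fun x => ((l.comp (QuotientGroup.mk' N) x : ℂˣ) : ℂ) * (χ : G → ℂ) x,
    H14.linear_mul_irr _ χ.2⟩

theorem lmul_apply (l : G ⧸ N →* ℂˣ) (χ : IrrCharacter G) (x : G) :
    (lmul N l χ : G → ℂ) x = (l (x : G ⧸ N) : ℂ) * (χ : G → ℂ) x := rfl

theorem lmul_apply_mem (l : G ⧸ N →* ℂˣ) (χ : IrrCharacter G) (n : N) :
    (lmul N l χ : G → ℂ) n = (χ : G → ℂ) n := by
  rw [lmul_apply, (QuotientGroup.eq_one_iff (n : G)).2 n.2, map_one, Units.val_one, one_mul]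

/-- No nontrivial linear character of the quotient fixes a member of the block. -/
theorem lmul_eq_self (hM : IsPModular p M) (hN : ∃ k : ℕ, N.index = p ^ k)
    {B : Set (IrrCharacter G)} (hB : IsPBlock M B) {P : Subgroup G} (hP : IsDefectGroup p M B P)
    (hab : ∀ a ∈ P, ∀ b ∈ P, a * b = b * a) (hNP : N ⊔ P = ⊤) {χ : IrrCharacter G} (hχ : χ ∈ B)
    {l : G ⧸ N →* ℂˣ} (hl : lmul N l χ = χ) : l = 1 := by
  by_contra hne
  obtain ⟨q, hq⟩ : ∃ q, l q ≠ 1 := by
    by_contra h
    push Not at h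
    exact hne (MonoidHom.ext h)
  obtain ⟨g, rfl⟩ := QuotientGroup.mk_surjective q
  obtain ⟨n, hn, x, hx, rfl⟩ := Subgroup.mem_sup_of_normal_left.1
    (show g ∈ N ⊔ P by rw [hNP]; trivial)
  obtain ⟨c, -, hc, hne0⟩ := exists_section_ne_zero hM hB hP hab hχ hx
  refine hne0 ?_
  have hnone : ((n : G) : G ⧸ N) = 1 := (QuotientGroup.eq_one_iff _).2 hn
  have hcone : ((c : G) : G ⧸ N) = 1 := (QuotientGroup.eq_one_iff _).2 (mem_of_not_dvd hN hc)
  rw [QuotientGroup.mk_mul, hnone, one_mul] at hq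
  have h := congrFun (congrArg Subtype.val hl) (x * c)
  rw [lmul_apply, QuotientGroup.mk_mul, hcone, mul_one] at h
  by_contra h0
  exact hq (Units.val_eq_one.1 (mul_eq_right₀ h0 |>.1 h))

/-- The quotient is commutative. -/
theorem quot_comm {P : Subgroup G} (hab : ∀ a ∈ P, ∀ b ∈ P, a * b = b * a) (hNP : N ⊔ P = ⊤)
    (a b : G ⧸ N) : a * b = b * a := by
  have hrep : ∀ q : G ⧸ N, ∃ x ∈ P, (x : G ⧸ N) = q := by
    intro q
    obtain ⟨g, rfl⟩ := QuotientGroup.mk_surjective q
    obtain ⟨n, hn, x, hx, rfl⟩ := Subgroup.mem_sup_of_normal_left.1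
      (show g ∈ N ⊔ P by rw [hNP]; trivial)
    exact ⟨x, hx, by rw [QuotientGroup.mk_mul, (QuotientGroup.eq_one_iff n).2 hn, one_mul]⟩
  obtain ⟨x, hx, rfl⟩ := hrep a
  obtain ⟨y, hy, rfl⟩ := hrep b
  rw [← QuotientGroup.mk_mul, hab x hx y hy, QuotientGroup.mk_mul]

variable (N) in
/-- The inner products with all twists add up to that of the restrictions. -/
theorem sum_classInner_lmul [Fintype N] (hcomm : ∀ a b : G ⧸ N, a * b = b * a)
    [Fintype (G ⧸ N →* ℂˣ)] (χ ψ : IrrCharacter G) :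
    ∑ l : G ⧸ N →* ℂˣ, classInner (lmul N l χ : G → ℂ) (ψ : G → ℂ) =
      classInner (fun n : N => (χ : G → ℂ) n) (fun n : N => (ψ : G → ℂ) n) ∧
    Nat.card (G ⧸ N →* ℂˣ) = N.index := by
  classical
  letI : CommGroup (G ⧸ N) :=
    { (inferInstance : Group (G ⧸ N)) with mul_comm := hcomm }
  haveI : NeZero (Monoid.exponent (G ⧸ N)) := ⟨Monoid.exponent_ne_zero_of_finite⟩
  have hcard : Nat.card (G ⧸ N →* ℂˣ) = N.index := by
    rw [Subgroup.index_eq_card]
    exact Nat.card_congr
      (CommGroup.monoidHom_mulEquiv_of_hasEnoughRootsOfUnity (G ⧸ N) ℂ).some.toEquiv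
  refine ⟨?_, hcard⟩
  have horth : ∀ q : G ⧸ N, ∑ l : G ⧸ N →* ℂˣ, ((l q : ℂˣ) : ℂ) =
      if q = 1 then (N.index : ℂ) else 0 := by
    intro q
    by_cases hq : q = 1
    · subst hq
      simp [← hcard]
    · rw [if_neg hq]
      obtain ⟨l₀, hl₀⟩ := CommGroup.exists_apply_ne_one_of_hasEnoughRootsOfUnity (G ⧸ N) ℂ hq
      have h : ((l₀ q : ℂˣ) : ℂ) * ∑ l : G ⧸ N →* ℂˣ, ((l q : ℂˣ) : ℂ) =
          ∑ l : G ⧸ N →* ℂˣ, ((l q : ℂˣ) : ℂ) := by
        rw [Finset.mul_sum]
        exact Fintype.sum_equiv (Equiv.mulLeft l₀) _ _ fun l => by simp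
      by_contra h0
      exact hl₀ (Units.val_eq_one.1 (mul_eq_right₀ h0 |>.1 h))
  simp only [Cfsg.classInner, lmul_apply]
  rw [← Finset.mul_sum, Finset.sum_comm]
  simp only [mul_assoc, ← Finset.sum_mul, horth, QuotientGroup.eq_one_iff, ite_mul, zero_mul]
  rw [← Finset.sum_filter, ← Finset.mul_sum, Finset.sum_subtype (p := (· ∈ N)) _ (by simp)]
  rw [← mul_assoc]
  congr 1
  rw [← N.card_mul_index, Nat.cast_mul,
    mul_inv, mul_assoc, inv_mul_cancel₀ (Nat.cast_ne_zero.2 Subgroup.index_ne_zero_of_finite),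
    mul_one]

/-- A linear map extending functions on `N` by zero. -/
noncomputable def ext0 (N : Subgroup G) : (N → ℂ) →ₗ[ℂ] (G → ℂ) where
  toFun f := extendByZero N f
  map_add' f g := by
    funext x
    by_cases hx : x ∈ N
    · simp [H13.extendByZero_mem _ _ hx]
    · simp [H13.extendByZero_notMem _ _ hx]
  map_smul' c f := by
    funext x
    by_cases hx : x ∈ N
    · simp [H13.extendByZero_mem _ _ hx]
    · simp [H13.extendByZero_notMem _ _ hx]

theorem ext0_injective (N : Subgroup G) : Function.Injective (ext0 N) := fun f g h => by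
  funext n
  have := congrFun h (n : G)
  simpa [ext0, H13.extendByZero_mem _ _ n.2] using this

end H11.AbCover
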