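import Cfsg.Agent.H22.Subsections
import Cfsg.Agent.H21.BrauerInduced
import Cfsg.Agent.H23.Pairs
import Cfsg.Agent.H12.Transport

/-!
The alternating sum of `k - l` over chains of `p`-subgroups.
-/

set_option autoImplicit false
set_option linter.style.haveILetI false
set_option linter.unusedSectionVars false

open Cfsg

namespace H11.Chain

universe u

variable {G : Type u} [Group G] [Fintype G] {p : ℕ} [Fact p.Prime] {M : Ideal AlgInt}
  [hMp : M.IsPrime]

variable (M) in
open Classical in
/-- The pullback of a class sum along a homomorphism. -/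
noncomputable def pull {A : Type u} [Group A] [Fintype A] (j : A →* G) (g : G) :
    MonoidAlgebra (H20.k M) A :=
  H20.ofFun fun a : A => (H20.clSum (H20.k M) g).coeff (j a)

variable (M) in
/-- The irreducible characters of `A` whose pushed forward central character is that of `χ₀`. -/
def ov (χ₀ : IrrCharacter G) {A : Type u} [Group A] [Fintype A] (j : A →* G) :
    Set (IrrCharacter A) :=
  {ψ | ∀ g : G, H20.lam M ψ (pull M j g) = H20.lam M χ₀ (H20.clSum (H20.k M) g)}

variable {χ₀ : IrrCharacter G}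

theorem over_of_sameBlock {A : Type u} [Group A] [Fintype A] (j : A →* G) {ψ φ : IrrCharacter A}
    (h : SameBlock M (ψ : A → ℂ) (φ : A → ℂ)) (hψ : ψ ∈ ov M χ₀ j) : φ ∈ ov M χ₀ j :=
  fun g => by rw [← H20.lam_eq_of_sameBlock h]; exact hψ g

/-- The set over `χ₀` is the union of the blocks inducing the block of `χ₀`. -/
theorem over_subtype (H : Subgroup G) [Fintype H] {b : Set (IrrCharacter G)} (hb : IsPBlock M b)
    (hχ₀ : χ₀ ∈ b) :
    ov M χ₀ H.subtype =
      {ψ : IrrCharacter H | ∃ β : Set (IrrCharacter H), ψ ∈ β ∧ IsInducedBlock M H β b} := by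
  ext ψ
  have hpull : ∀ g : G, pull M H.subtype g = H21.resSub H (H20.clSum (H20.k M) g) := fun g => by
    ext a
    simp [pull, H21.coeff_resSub]
  constructor
  · intro h
    refine ⟨blockOf M (ψ : H → ℂ), H20.mem_blockOf_self ψ,
      (H21.isInducedBlock_iff (H20.isPBlock_blockOf ψ) hb (H20.mem_blockOf_self ψ) hχ₀).2
        fun a ha => H21.indLam_eq_lam_of_clSum H ψ χ₀ (fun g => ?_) ha⟩
    rw [H21.indLam, ← hpull]
    exact h g
  · rintro ⟨β, hψ, hind⟩ g
    rw [hpull]
    exact (H21.isInducedBlock_iff hind.1 hb hψ hχ₀).1 hind _ (H20.isCl_clSum _ g)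

theorem lam_pull_congr {A A' : Type u} [Group A] [Fintype A] [Group A'] [Fintype A']
    (j : A →* G) (j' : A' →* G) (e : A ≃* A') (hj : ∀ a, IsConj (j a) (j' (e a)))
    (ψ : IrrCharacter A') (g : G) :
    H20.lam M (H12.irrCongr e ψ) (pull M j g) = H20.lam M ψ (pull M j' g) := by
  classical
  let b : MonoidAlgebra (H20.O M) A := H20.ofFun fun a => (H20.clSum (H20.O M) g).coeff (j a)
  let b' : MonoidAlgebra (H20.O M) A' := H20.ofFun fun a => (H20.clSum (H20.O M) g).coeff (j' a)
  have hcl : ∀ {B : Type u} [Group B] [Fintype B] (i : B →* G),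
      H20.IsCl (H20.ofFun fun a : B => (H20.clSum (H20.O M) g).coeff (i a)) := fun i x y => by
    simp only [H20.coeff_ofFun, map_mul, map_inv]
    exact (H20.isCl_clSum _ g) (i x) (i y)
  have h1 : H20.rd b = pull M j g := by
    ext a; simp [b, pull, H20.coeff_clSum, apply_ite (H20.red M)]
  have h2 : H20.rd b' = pull M j' g := by
    ext a; simp [b', pull, H20.coeff_clSum, apply_ite (H20.red M)]
  rw [← h1, ← h2, H20.lam_rd _ (hcl j), H20.lam_rd _ (hcl j'), H20.omega, H20.omega,
    H12.irrCongr_apply, map_one]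
  congr 2
  refine Fintype.sum_equiv e.toEquiv _ _ fun a => ?_
  have : (H20.clSum (H20.O M) g).coeff (j a) = (H20.clSum (H20.O M) g).coeff (j' (e a)) := by
    rw [H20.coeff_clSum, H20.coeff_clSum]
    by_cases h : IsConj g (j a)
    · rw [if_pos h, if_pos (h.trans (hj a))]
    · rw [if_neg h, if_neg fun h' => h (h'.trans (hj a).symm)]
  simp [this, H12.irrCongr_apply]

theorem mem_over_congr {A A' : Type u} [Group A] [Fintype A] [Group A'] [Fintype A']
    (j : A →* G) (j' : A' →* G) (e : A ≃* A') (hj : ∀ a, IsConj (j a) (j' (e a)))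
    (ψ : IrrCharacter A') : H12.irrCongr e ψ ∈ ov M χ₀ j ↔ ψ ∈ ov M χ₀ j' :=
  forall_congr' fun g => by rw [lam_pull_congr j j' e hj]

theorem card_over_congr {A A' : Type u} [Group A] [Fintype A] [Group A'] [Fintype A']
    (j : A →* G) (j' : A' →* G) (e : A ≃* A') (hj : ∀ a, IsConj (j a) (j' (e a))) :
    Nat.card (ov M χ₀ j) = Nat.card (ov M χ₀ j') :=
  Nat.card_congr ((H12.irrCongr e).subtypeEquiv fun ψ => (mem_over_congr j j' e hj ψ).symm).symm

theorem blockRank_over_congr {A A' : Type u} [Group A] [Fintype A] [Group A'] [Fintype A']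
    (j : A →* G) (j' : A' →* G) (e : A ≃* A') (hj : ∀ a, IsConj (j a) (j' (e a))) :
    blockRank p (ov M χ₀ j) = blockRank p (ov M χ₀ j') := by
  classical
  let L : (A' → ℂ) ≃ₗ[ℂ] (A → ℂ) := LinearEquiv.funCongrLeft ℂ ℂ e.toEquiv
  have hreg : ∀ χ : IrrCharacter A',
      L (pRegularPart p (χ : A' → ℂ)) = pRegularPart p (H12.irrCongr e χ : A → ℂ) := fun χ => by
    funext k
    show pRegularPart p (χ : A' → ℂ) (e k) = _
    simp only [H22.pRegularPart_apply, H12.irrCongr_apply]
    exact if_congr (by rw [e.orderOf_eq]) rfl rfl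
  have himg : (fun χ : IrrCharacter A => pRegularPart p (χ : A → ℂ)) '' ov M χ₀ j =
      L '' ((fun χ : IrrCharacter A' => pRegularPart p (χ : A' → ℂ)) '' ov M χ₀ j') := by
    rw [Set.image_image]
    ext f
    constructor
    · rintro ⟨φ, hφ, rfl⟩
      obtain ⟨χ, rfl⟩ := (H12.irrCongr e).surjective φ
      exact ⟨χ, (mem_over_congr j j' e hj χ).1 hφ, hreg χ⟩
    · rintro ⟨χ, hχ, rfl⟩
      exact ⟨_, (mem_over_congr j j' e hj χ).2 hχ, (hreg χ).symm⟩
  rw [blockRank, blockRank, himg,
    show (L : (A' → ℂ) → (A → ℂ)) = (L.toLinearMap : _ → _) from rfl, ← Submodule.map_span]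
  exact LinearEquiv.finrank_map_eq L _

open Classical in
/-- The rank of a union of blocks is the sum of their ranks. -/
theorem blockRank_union {A : Type u} [Group A] [Fintype A] (hM : IsPModular p M)
    (U : Set (IrrCharacter A)) (s : Finset (Set (IrrCharacter A)))
    (hs : ∀ β, β ∈ s ↔ IsPBlock M β ∧ β ⊆ U)
    (hU : ∀ ψ ∈ U, blockOf M (ψ : A → ℂ) ⊆ U) :
    blockRank p U = ∑ β ∈ s, blockRank p β ∧ Nat.card U = ∑ β ∈ s, Nat.card β := by
  classical
  constructor
  · let Ψ₀ : ∀ β : s, H22.Sub.regSpan p U →ₗ[ℂ] H22.Sub.regSpan p (β : Set (IrrCharacter A)) :=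
      fun β => LinearMap.codRestrict _
        ((H22.Sub.regMap p).comp ((H22.Sub.partMap (β : Set (IrrCharacter A))).comp
          (H22.Sub.regSpan p U).subtype))
        fun f => H22.Sub.regMap_blockPart_mem _ _
    let Ψ : H22.Sub.regSpan p U →ₗ[ℂ] ∀ β : s, H22.Sub.regSpan p (β : Set (IrrCharacter A)) :=
      LinearMap.pi Ψ₀
    have hle : ∀ β : s, H22.Sub.regSpan p (β : Set (IrrCharacter A)) ≤ H22.Sub.regSpan p U :=
      fun β => Submodule.span_mono (Set.image_mono ((hs _).1 β.2).2)
    -- the value of the components on a generator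
    have hgen : ∀ (β : s) (χ : IrrCharacter A) (hχ : χ ∈ U), (Ψ₀ β ⟨pRegularPart p (χ : A → ℂ),
        Submodule.subset_span ⟨χ, hχ, rfl⟩⟩ : A → ℂ) =
          if χ ∈ (β : Set (IrrCharacter A)) then pRegularPart p (χ : A → ℂ) else 0 := by
      intro β χ hχ
      show pRegularPart p (blockPart (β : Set (IrrCharacter A)) (pRegularPart p (χ : A → ℂ))) = _
      have hmem : pRegularPart p (χ : A → ℂ) ∈ H22.Sub.regSpan p (blockOf M (χ : A → ℂ)) :=
        Submodule.subset_span ⟨χ, H20.mem_blockOf_self χ, rfl⟩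
      have hirr := H22.Sub.regSpan_le_irrSpan hM (H20.isPBlock_blockOf χ) hmem
      split_ifs with hχβ
      · rw [H20.block_eq_blockOf ((hs _).1 β.2).1 hχβ, H22.Sub.blockPart_of_mem_irrSpan hirr]
        exact H22.Sub.pRegularPart_of_mem_regSpan hmem
      · rw [H22.Sub.blockPart_of_mem_irrSpan_ne ((hs _).1 β.2).1 (H20.isPBlock_blockOf χ)
          (fun h => hχβ (h ▸ H20.mem_blockOf_self χ)) hirr]
        exact map_zero (H22.Sub.regMap p)
    have hsum : ∀ f : H22.Sub.regSpan p U, ∑ β : s, (Ψ f β : A → ℂ) = f := by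
      rintro ⟨f, hf⟩
      induction hf using Submodule.span_induction with
      | mem x hx =>
        obtain ⟨χ, hχ, rfl⟩ := hx
        show ∑ β : s, (Ψ₀ β ⟨pRegularPart p (χ : A → ℂ), Submodule.subset_span ⟨χ, hχ, rfl⟩⟩ : A → ℂ) = pRegularPart p (χ : A → ℂ)
        rw [Finset.sum_congr rfl fun β _ => hgen β χ hχ,
          Finset.sum_eq_single (⟨blockOf M (χ : A → ℂ), (hs _).2 ⟨H20.isPBlock_blockOf χ, hU χ hχ⟩⟩ : s)]
        · rw [if_pos (H20.mem_blockOf_self χ)]
        · intro β _ hne
          rw [if_neg]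
          exact fun h => hne (Subtype.ext (H20.block_eq_blockOf ((hs _).1 β.2).1 h))
        · simp
      | zero =>
        show ∑ β : s, (Ψ 0 β : A → ℂ) = 0
        simp [map_zero]
      | add x y hx hy ihx ihy =>
        show ∑ β : s, (Ψ (⟨x, hx⟩ + ⟨y, hy⟩) β : A → ℂ) = _
        simp only [map_add, Pi.add_apply, Submodule.coe_add, Finset.sum_add_distrib, ihx, ihy]
      | smul c x hx ihx =>
        show ∑ β : s, (Ψ (c • ⟨x, hx⟩) β : A → ℂ) = _
        simp only [map_smul, Pi.smul_apply, Submodule.coe_smul, ← Finset.smul_sum, ihx]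
    have hinj : Function.Injective Ψ := fun f f' h =>
      Subtype.ext (by rw [← hsum f, ← hsum f', h])
    have hsurj : Function.Surjective Ψ := by
      intro F
      refine ⟨∑ β : s, ⟨(F β : A → ℂ), hle β (F β).2⟩, ?_⟩
      funext γ
      apply Subtype.ext
      rw [map_sum]
      simp only [Finset.sum_apply, Submodule.coe_sum]
      funext y
      rw [Finset.sum_apply, Finset.sum_eq_single γ]
      · show pRegularPart p (blockPart (γ : Set (IrrCharacter A)) (F γ : A → ℂ)) y = _
        rw [H22.Sub.blockPart_of_mem_irrSpan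
          (H22.Sub.regSpan_le_irrSpan hM ((hs _).1 γ.2).1 (F γ).2),
          H22.Sub.pRegularPart_of_mem_regSpan (F γ).2]
      · intro β _ hne
        show pRegularPart p (blockPart (γ : Set (IrrCharacter A)) (F β : A → ℂ)) y = _
        rw [H22.Sub.blockPart_of_mem_irrSpan_ne ((hs _).1 γ.2).1 ((hs _).1 β.2).1
          (fun h => hne (Subtype.ext h))
          (H22.Sub.regSpan_le_irrSpan hM ((hs _).1 β.2).1 (F β).2)]
        exact congrFun (map_zero (H22.Sub.regMap p)) y
      · simp
    show Module.finrank ℂ (H22.Sub.regSpan p U) = _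
    rw [(LinearEquiv.ofBijective Ψ ⟨hinj, hsurj⟩).finrank_eq, Module.finrank_pi_fintype,
      ← Finset.sum_coe_sort s fun β => blockRank p β]
    rfl
  · have hU' : (U.toFinite.toFinset : Finset (IrrCharacter A)) =
        s.biUnion fun β => β.toFinite.toFinset := by
      ext ψ
      simp only [Set.Finite.mem_toFinset, Finset.mem_biUnion, hs]
      exact ⟨fun h => ⟨_, ⟨H20.isPBlock_blockOf ψ, hU ψ h⟩, H20.mem_blockOf_self ψ⟩,
        fun ⟨β, ⟨_, hβ⟩, h⟩ => hβ h⟩
    rw [Nat.card_eq_card_finite_toFinset U.toFinite, hU', Finset.card_biUnion]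
    · exact Finset.sum_congr rfl fun β _ => (Nat.card_eq_card_finite_toFinset β.toFinite).symm
    · intro β hβ γ hγ hne
      rw [Function.onFun, Finset.disjoint_left]
      intro ψ h1 h2
      rw [Set.Finite.mem_toFinset] at h1 h2
      exact hne (H20.block_eq_of_mem ((hs β).1 hβ).1 ((hs γ).1 hγ).1 h1 h2)

variable (M) (p) in
/-- The weight of a subgroup. -/
noncomputable def phi (χ₀ : IrrCharacter G) (D : Subgroup G) : ℤ :=
  haveI := Fintype.ofFinite D
  (Nat.card D : ℤ) * (blockRank p (ov M χ₀ D.subtype) : ℤ)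

/-- A nontrivial `p`-element. -/
def IsPEl (p : ℕ) {A : Type u} [Group A] (u : A) : Prop := u ≠ 1 ∧ ∃ k : ℕ, orderOf u = p ^ k

open Classical in
/-- `k - l` through the centralisers of the nontrivial `p`-elements. -/
theorem card_mul_diff (hM : IsPModular p M) (K : Subgroup G) [Fintype K] :
    (Nat.card K : ℤ) * ((Nat.card (ov M χ₀ K.subtype) : ℤ) -
        (blockRank p (ov M χ₀ K.subtype) : ℤ)) =
      ∑ u ∈ Finset.univ.filter (fun u : G => IsPEl p u ∧ u ∈ K),
        phi p M χ₀ (K ⊓ Subgroup.centralizer ({u} : Set G)) := by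
  classical
  haveI := Fintype.ofFinite (ConjClasses K)
  haveI : Fintype (Set (IrrCharacter K)) := Fintype.ofFinite _
  let U := ov M χ₀ K.subtype
  let s := Finset.univ.filter fun β : Set (IrrCharacter K) => IsPBlock M β ∧ β ⊆ U
  have hU : ∀ ψ ∈ U, blockOf M (ψ : K → ℂ) ⊆ U := fun ψ hψ φ hφ => over_of_sameBlock _ hφ hψ
  obtain ⟨hrank, hcard⟩ := blockRank_union hM U s (by simp [s]) hU
  -- representatives of the classes of `p`-elements
  let o : ConjClasses K → K := fun C => Quotient.out (s := IsConj.setoid K) C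
  let X : Finset K := (Finset.univ.filter fun C : ConjClasses K =>
    ∃ k : ℕ, orderOf (o C) = p ^ k).image o
  have hout : ∀ C : ConjClasses K, ConjClasses.mk (o C) = C := fun C => Quotient.out_eq (s := IsConj.setoid K) C
  have hmemX : ∀ {x : K}, x ∈ X ↔ ∃ C : ConjClasses K, (∃ k : ℕ, orderOf (o C) = p ^ k) ∧
      (o C) = x := fun {x} => Finset.mem_image.trans (exists_congr fun C => and_congr_left fun _ =>
      Finset.mem_filter.trans (and_iff_right (Finset.mem_univ _)))
  have hX : ∀ x ∈ X, ∃ k : ℕ, orderOf x = p ^ k := by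
    intro x hx
    obtain ⟨C, hC, rfl⟩ := hmemX.1 hx
    exact hC
  have hordconj : ∀ {x y : K}, IsConj x y → orderOf x = orderOf y := fun {x y} h => by
    obtain ⟨c, rfl⟩ := isConj_iff.1 h
    exact ((MulAut.conj c).orderOf_eq x).symm
  have hXrep : ∀ g : K, (∃ k : ℕ, orderOf g = p ^ k) → ∃! x, x ∈ X ∧ IsConj g x := by
    intro g hg
    have hgo : IsConj g (o (ConjClasses.mk g)) :=
      (ConjClasses.mk_eq_mk_iff_isConj.1 (hout (ConjClasses.mk g))).symm
    refine ⟨(o (ConjClasses.mk g)), ⟨?_, hgo⟩, ?_⟩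
    · exact hmemX.2 ⟨_, by rw [← hordconj hgo]; exact hg, rfl⟩
    · rintro y ⟨hy, hgy⟩
      obtain ⟨C, -, rfl⟩ := hmemX.1 hy
      congr 1
      rw [← hout C]
      exact (ConjClasses.mk_eq_mk_iff_isConj.2 hgy).symm
  -- the rank attached to an element
  let F : K → ℕ := fun x =>
    haveI := Fintype.ofFinite (Subgroup.centralizer ({x} : Set K))
    blockRank p (ov M χ₀ (K.subtype.comp (Subgroup.centralizer ({x} : Set K)).subtype))
  have hk : Nat.card U = ∑ x ∈ X, F x := by
    rw [hcard, Finset.sum_congr rfl fun β hβ =>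
      H22.Sub.card_block_eq_sum_ranks hM (Finset.mem_filter.1 hβ).2.1 X hX hXrep, Finset.sum_comm]
    refine Finset.sum_congr rfl fun x hx => ?_
    haveI := Fintype.ofFinite (Subgroup.centralizer ({x} : Set K))
    set C := Subgroup.centralizer ({x} : Set K) with hC
    haveI : Fintype (Set (IrrCharacter C)) := Fintype.ofFinite _
    set W := ov M χ₀ (K.subtype.comp C.subtype)
    let t := Finset.univ.filter fun e : Set (IrrCharacter C) => IsPBlock M e ∧ e ⊆ W
    obtain ⟨hW, -⟩ := blockRank_union hM W t (by simp [t])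
      (fun ψ hψ φ hφ => over_of_sameBlock _ hφ hψ)
    show _ = blockRank p W
    rw [hW]
    -- the transitivity of block induction
    have htr : ∀ {e : Set (IrrCharacter C)} {β : Set (IrrCharacter K)}, IsInducedBlock M C e β →
        (e ⊆ W ↔ β ⊆ U) := by
      intro e β hind
      obtain ⟨ξ, hξ⟩ := H20.block_nonempty hind.1
      obtain ⟨η, hη⟩ := H20.block_nonempty hind.2.1
      have hval : ∀ g : G, H20.lam M ξ (pull M (K.subtype.comp C.subtype) g) =
          H20.lam M η (pull M K.subtype g) := by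
        intro g
        have hcl : H20.IsCl (pull M K.subtype g) := fun a c => by
          simp only [pull, H20.coeff_ofFun, map_mul, map_inv]
          exact (H20.isCl_clSum _ g) (K.subtype a) (K.subtype c)
        rw [← (H21.isInducedBlock_iff hind.1 hind.2.1 hξ hη).1 hind _ hcl, H21.indLam]
        congr 1
      constructor
      · intro he φ hφ
        refine over_of_sameBlock _ (H20.sameBlock_of_mem hind.2.1 hη hφ) fun g => ?_
        rw [← hval]
        exact he hξ g
      · intro hβ φ hφ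
        refine over_of_sameBlock _ (H20.sameBlock_of_mem hind.1 hξ hφ) fun g => ?_
        rw [hval]
        exact hβ hη g
    have hfin : ∀ β : Set (IrrCharacter K), (∑ᶠ e ∈ {e : Set (IrrCharacter C) |
        IsInducedBlock M C e β}, blockRank p e) =
          ∑ e : Set (IrrCharacter C), if IsInducedBlock M C e β then blockRank p e else 0 :=
      fun β => by rw [H20.finsum_mem_eq_sum_ite]; rfl
    rw [Finset.sum_congr rfl fun β _ => hfin β, Finset.sum_comm, Finset.sum_filter]
    refine Finset.sum_congr rfl fun e _ => ?_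
    by_cases he : IsPBlock M e
    swap
    · rw [if_neg (fun h => he h.1)]
      exact Finset.sum_eq_zero fun β _ => if_neg fun h => he h.1
    obtain ⟨β₀, hβ₀⟩ := H20.exists_block_induced hM x (hX x hx) he
    by_cases hW' : e ⊆ W
    · rw [if_pos ⟨he, hW'⟩, Finset.sum_eq_single β₀]
      · rw [if_pos hβ₀]
      · intro β _ hne
        exact if_neg fun h => hne (H21.isInducedBlock_unique h hβ₀)
      · intro h
        exact absurd (Finset.mem_filter.2 ⟨Finset.mem_univ _, hβ₀.2.1, (htr hβ₀).1 hW'⟩) h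
    · rw [if_neg fun h => hW' h.2]
      exact Finset.sum_eq_zero fun β hβ => if_neg fun h => hW' ((htr h).2 (Finset.mem_filter.1 hβ).2.2)
  -- the identity contributes the rank
  have hone : (o (ConjClasses.mk (1 : K))) = 1 :=
    isConj_one_right.mp (ConjClasses.mk_eq_mk_iff_isConj.mp (hout (ConjClasses.mk (1 : K)))).symm
  have h1 : F 1 = blockRank p U := by
    have htop : Subgroup.centralizer ({(1 : K)} : Set K) = ⊤ := by
      ext g
      simp [Subgroup.mem_centralizer_singleton_iff]
    letI := Fintype.ofFinite (Subgroup.centralizer ({(1 : K)} : Set K))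
    exact blockRank_over_congr _ _ ((MulEquiv.subgroupCongr htop).trans Subgroup.topEquiv)
      fun a => IsConj.refl _
  -- all elements of one class contribute alike
  let Φ : K → ℤ := fun x => (Nat.card (Subgroup.centralizer ({x} : Set K)) : ℤ) * (F x : ℤ)
  have hΦ : ∀ x : K, Φ x = phi p M χ₀ (K ⊓ Subgroup.centralizer ({(x : G)} : Set G)) := by
    intro x
    have hmap : (Subgroup.centralizer ({x} : Set K)).map K.subtype =
        K ⊓ Subgroup.centralizer ({(x : G)} : Set G) := by
      ext g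
      constructor
      · rintro ⟨c, hc, rfl⟩
        exact ⟨c.2, Subgroup.mem_centralizer_singleton_iff.2
          (congrArg Subtype.val (Subgroup.mem_centralizer_singleton_iff.1 hc))⟩
      · rintro ⟨hg, hc⟩
        exact ⟨⟨g, hg⟩, Subgroup.mem_centralizer_singleton_iff.2
          (Subtype.ext (Subgroup.mem_centralizer_singleton_iff.1 hc :)), rfl⟩
    letI := Fintype.ofFinite (Subgroup.centralizer ({x} : Set K))
    letI := Fintype.ofFinite ↥(K ⊓ Subgroup.centralizer ({(x : G)} : Set G))
    let e := ((Subgroup.centralizer ({x} : Set K)).equivMapOfInjective K.subtype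
      K.subtype_injective).trans (MulEquiv.subgroupCongr hmap)
    show (Nat.card _ : ℤ) * _ = (Nat.card _ : ℤ) * _
    rw [Nat.card_congr e.toEquiv]
    congr 2
    exact blockRank_over_congr _ _ e fun a => IsConj.refl _
  have hΦconj : ∀ x c : K, Φ (c * x * c⁻¹) = Φ x := by
    intro x c
    letI := Fintype.ofFinite (Subgroup.centralizer ({x} : Set K))
    letI := Fintype.ofFinite (Subgroup.centralizer ({c * x * c⁻¹} : Set K))
    have hmap : (Subgroup.centralizer ({x} : Set K)).map (MulAut.conj c).toMonoidHom =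
        Subgroup.centralizer ({c * x * c⁻¹} : Set K) := by
      ext g
      rw [Subgroup.mem_map_equiv, Subgroup.mem_centralizer_singleton_iff,
        Subgroup.mem_centralizer_singleton_iff, MulAut.conj_symm_apply]
      constructor
      · intro h
        calc g * (c * x * c⁻¹) = c * ((c⁻¹ * g * c) * x) * c⁻¹ := by group
          _ = c * x * c⁻¹ * g := by rw [h]; group
      · intro h
        calc c⁻¹ * g * c * x = c⁻¹ * (g * (c * x * c⁻¹)) * c := by group
          _ = x * (c⁻¹ * g * c) := by rw [h]; group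
    let e := ((Subgroup.centralizer ({x} : Set K)).equivMapOfInjective
      (MulAut.conj c).toMonoidHom (MulAut.conj c).injective).trans (MulEquiv.subgroupCongr hmap)
    show (Nat.card _ : ℤ) * _ = (Nat.card _ : ℤ) * _
    rw [Nat.card_congr e.toEquiv]
    congr 2
    refine (blockRank_over_congr _ _ e fun a => isConj_iff.2 ⟨(c : G), ?_⟩).symm
    show (c : G) * ((a : K) : G) * (c : G)⁻¹ = ((MulAut.conj c (a : K) : K) : G)
    simp
  -- sum over the group through the classes
  have hsum : ∑ x ∈ Finset.univ.filter (fun x : K => IsPEl p x), Φ x =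
      (Nat.card K : ℤ) * ∑ x ∈ X.erase 1, (F x : ℤ) := by
    have himg : X.erase 1 = (Finset.univ.filter fun C : ConjClasses K => IsPEl p (o C)).image
        o := by
      ext y
      rw [Finset.mem_erase, hmemX]
      constructor
      · rintro ⟨hy, C, hC, rfl⟩
        exact Finset.mem_image.2 ⟨C, Finset.mem_filter.2 ⟨Finset.mem_univ _, hy, hC⟩, rfl⟩
      · intro h
        obtain ⟨C, hC, rfl⟩ := Finset.mem_image.1 h
        exact ⟨(Finset.mem_filter.1 hC).2.1, C, (Finset.mem_filter.1 hC).2.2, rfl⟩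
    rw [himg, Finset.sum_image (fun a _ b _ h => by rw [← hout a, ← hout b, h]), Finset.mul_sum,
      ← Finset.sum_fiberwise_of_maps_to (g := ConjClasses.mk)
        (t := Finset.univ.filter fun C : ConjClasses K => IsPEl p (o C))]
    · refine Finset.sum_congr rfl fun C hC => ?_
      have hfil : (Finset.univ.filter (fun x : K => IsPEl p x)).filter (fun x => ConjClasses.mk x = C) =
          ({x : K | IsConj (o C) x} : Finset K) := by
        ext x
        simp only [Finset.mem_filter, Finset.mem_univ, true_and]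
        constructor
        · rintro ⟨-, h⟩
          exact ConjClasses.mk_eq_mk_iff_isConj.1 (by rw [hout, h])
        · intro h
          refine ⟨?_, by rw [← hout C]; exact ConjClasses.mk_eq_mk_iff_isConj.2 h.symm⟩
          obtain ⟨h1, k, hk⟩ := (Finset.mem_filter.1 hC).2
          exact ⟨fun e => h1 (isConj_one_right.1 (e ▸ h).symm), k, hordconj h ▸ hk⟩
      have hall : ∀ x ∈ ({x : K | IsConj (o C) x} : Finset K), Φ x = Φ (o C) := fun x hx => by
        obtain ⟨c, rfl⟩ := isConj_iff.1 (Finset.mem_filter.1 hx).2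
        exact hΦconj (o C) c
      rw [hfil, Finset.sum_congr rfl hall, Finset.sum_const, nsmul_eq_mul]
      show _ * ((Nat.card (Subgroup.centralizer ({(o C)} : Set K)) : ℤ) * (F (o C) : ℤ)) = _
      rw [← mul_assoc, ← H12.card_conjClass_mul_card_centralizer (G := K) (o C)]
      push_cast
      congr 4
      ext y; simp
    · intro x hx
      simp only [Finset.mem_filter, Finset.mem_univ, true_and] at hx ⊢
      have hc : IsConj x (o (ConjClasses.mk x)) :=
        (ConjClasses.mk_eq_mk_iff_isConj.1 (hout (ConjClasses.mk x))).symm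
      obtain ⟨h1, k, hk⟩ := hx
      exact ⟨fun e => h1 (isConj_one_right.1 (e ▸ hc).symm |> fun h => h), k, hordconj hc ▸ hk⟩
  have h1X : (1 : K) ∈ X := by
    exact hmemX.2 ⟨_, ⟨0, by rw [hone, orderOf_one, pow_zero]⟩, hone⟩
  have hdiff : (Nat.card U : ℤ) - (blockRank p U : ℤ) = ∑ x ∈ X.erase 1, (F x : ℤ) := by
    rw [hk, ← h1, Nat.cast_sum, ← Finset.add_sum_erase _ _ h1X]
    ring
  show (Nat.card K : ℤ) * ((Nat.card U : ℤ) - (blockRank p U : ℤ)) = _
  rw [hdiff, ← hsum]
  refine Finset.sum_bij' (fun x _ => (x : G)) (fun u hu => ⟨u, (Finset.mem_filter.1 hu).2.2⟩)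
    (fun x hx => ?_) (fun u hu => ?_) (fun _ _ => rfl) (fun _ _ => rfl) fun x _ => hΦ x
  · obtain ⟨h1, k, hk⟩ := (Finset.mem_filter.1 hx).2
    exact Finset.mem_filter.2 ⟨Finset.mem_univ _, ⟨fun e => h1 (Subtype.ext e), k,
      by rw [Subgroup.orderOf_coe, hk]⟩, x.2⟩
  · obtain ⟨⟨h1, k, hk⟩, hmem⟩ := (Finset.mem_filter.1 hu).2
    exact Finset.mem_filter.2 ⟨Finset.mem_univ _, fun e => h1 (congrArg Subtype.val e), k,
      by rw [Subgroup.orderOf_mk, hk]⟩

/-! ### Chains -/

/-- A chain of nontrivial `p`-subgroups. -/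
def IsChainP (p : ℕ) (s : Finset (Subgroup G)) : Prop :=
  (∀ Q ∈ s, ∀ R ∈ s, Q ≤ R ∨ R ≤ Q) ∧ ∀ Q ∈ s, Q ≠ ⊥ ∧ IsPGroup p Q

/-- Every member is normal in the members above it. -/
def IsNormalChain (s : Finset (Subgroup G)) : Prop :=
  ∀ Q ∈ s, ∀ R ∈ s, Q ≤ R → R ≤ Subgroup.normalizer (Q : Set G)

/-- The stabiliser of a chain. -/
def stab (s : Finset (Subgroup G)) : Subgroup G := ⨅ Q ∈ s, Subgroup.normalizer (Q : Set G)

theorem mem_stab {s : Finset (Subgroup G)} {x : G} :
    x ∈ stab s ↔ ∀ Q ∈ s, x ∈ Subgroup.normalizer (Q : Set G) := by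
  simp only [stab, Subgroup.mem_iInf]

open Classical in
/-- Toggle a member. -/
noncomputable def toggle (s : Finset (Subgroup G)) (R : Subgroup G) : Finset (Subgroup G) :=
  if R ∈ s then s.erase R else insert R s

theorem toggle_toggle (s : Finset (Subgroup G)) (R : Subgroup G) :
    toggle (toggle s R) R = s := by
  classical
  by_cases h : R ∈ s
  · rw [toggle, toggle, if_pos h, if_neg (Finset.notMem_erase _ _), Finset.insert_erase h]
  · rw [toggle, toggle, if_neg h, if_pos (Finset.mem_insert_self _ _), Finset.erase_insert h]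

theorem mem_toggle {s : Finset (Subgroup G)} {R Q : Subgroup G} (hne : Q ≠ R) :
    Q ∈ toggle s R ↔ Q ∈ s := by
  classical
  rw [toggle]
  split_ifs <;> simp [hne]

theorem neg_one_pow_toggle (s : Finset (Subgroup G)) (R : Subgroup G) :
    (-1 : ℤ) ^ (toggle s R).card = -(-1 : ℤ) ^ s.card := by
  classical
  by_cases h : R ∈ s
  · rw [toggle, if_pos h, ← Finset.card_erase_add_one h, pow_succ]
    ring
  · rw [toggle, if_neg h, Finset.card_insert_of_notMem h, pow_succ]
    ring

theorem toggle_ne (s : Finset (Subgroup G)) (R : Subgroup G) : toggle s R ≠ s := by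
  intro h
  have := neg_one_pow_toggle s R
  rw [h] at this
  rcases neg_one_pow_eq_or ℤ s.card with h1 | h1 <;> rw [h1] at this <;> omega

theorem chain_toggle {s : Finset (Subgroup G)} {R : Subgroup G} (hs : IsChainP p s)
    (hR : R ≠ ⊥) (hRp : IsPGroup p R) (hcmp : ∀ Q ∈ s, Q ≤ R ∨ R ≤ Q) :
    IsChainP p (toggle s R) := by
  constructor
  · intro A hA B hB
    by_cases h1 : A = R
    · subst h1
      by_cases h2 : B = A
      · exact Or.inl h2.ge
      · exact (hcmp B ((mem_toggle h2).1 hB)).symm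
    · by_cases h2 : B = R
      · subst h2; exact hcmp A ((mem_toggle h1).1 hA)
      · exact hs.1 A ((mem_toggle h1).1 hA) B ((mem_toggle h2).1 hB)
  · intro A hA
    by_cases h1 : A = R
    · exact h1 ▸ ⟨hR, hRp⟩
    · exact hs.2 A ((mem_toggle h1).1 hA)

/-- Toggling keeps the stabiliser inside a set normalising the toggled subgroup. -/
theorem stab_toggle {s : Finset (Subgroup G)} {R D : Subgroup G}
    (h : ∀ x ∈ D, (∀ Q ∈ s, Q ≠ R → x ∈ Subgroup.normalizer (Q : Set G)) →
      x ∈ Subgroup.normalizer (R : Set G)) :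
    stab (toggle s R) ⊓ D = stab s ⊓ D := by
  ext x
  simp only [Subgroup.mem_inf, mem_stab]
  refine and_congr_left fun hx => ⟨fun hall Q hQ => ?_, fun hall Q hQ => ?_⟩
  · by_cases hne : Q = R
    · subst hne
      exact h x hx fun Q' hQ' hne' => hall Q' ((mem_toggle hne').2 hQ')
    · exact hall Q ((mem_toggle hne).2 hQ)
  · by_cases hne : Q = R
    · subst hne
      exact h x hx fun Q' hQ' _ => hall Q' hQ'
    · exact hall Q ((mem_toggle hne).1 hQ)

open Classical in
/-- The subgroup toggled for the element `u`. -/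
noncomputable def addU (s : Finset (Subgroup G)) (u : G) : Subgroup G :=
  (s.filter fun Q => u ∉ Q).sup id ⊔ Subgroup.zpowers u

theorem mem_addU (s : Finset (Subgroup G)) (u : G) : u ∈ addU s u :=
  Subgroup.mem_sup_right (Subgroup.mem_zpowers u)

theorem mem_normalizer_of {x : G} {R : Subgroup G} (h : H23.cjS x R = R) :
    x ∈ Subgroup.normalizer (R : Set G) := by
  rw [Subgroup.mem_normalizer_iff]
  intro q
  conv_rhs => rw [← h, H23.mem_cjS]
  simp [mul_assoc]

theorem addU_facts {s : Finset (Subgroup G)} {u : G} (hs : IsChainP p s) (hu : IsPEl p u)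
    (hus : u ∈ stab s) :
    IsChainP p (toggle s (addU s u)) ∧ addU (toggle s (addU s u)) u = addU s u ∧
      stab (toggle s (addU s u)) ⊓ Subgroup.centralizer ({u} : Set G) =
        stab s ⊓ Subgroup.centralizer ({u} : Set G) := by
  classical
  set T := s.filter fun Q => u ∉ Q with hT
  set P := T.sup id with hP
  have hPmem : P = ⊥ ∨ P ∈ T := by
    rcases T.eq_empty_or_nonempty with h | h
    · left; rw [hP, h, Finset.sup_empty]
    · right
      obtain ⟨Q, hQ, hmax⟩ := Finset.exists_max_image T (fun Q => Nat.card Q) h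
      have hPQ : P = Q := by
        refine le_antisymm (Finset.sup_le fun R hR => ?_) (Finset.le_sup (f := id) hQ)
        rcases hs.1 R (Finset.mem_filter.1 hR).1 Q (Finset.mem_filter.1 hQ).1 with h1 | h1
        · exact h1
        · exact (Subgroup.eq_of_le_of_card_ge h1 (hmax R hR)).ge
      exact hPQ ▸ hQ
  have huP : u ∈ Subgroup.normalizer (P : Set G) := by
    rcases hPmem with h | h
    · rw [h, Subgroup.normalizer_eq_top (⊥ : Subgroup G)]; trivial
    · exact mem_stab.1 hus P (Finset.mem_filter.1 h).1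
  obtain ⟨k, hk⟩ := hu.2
  have hZ : IsPGroup p (Subgroup.zpowers u) := IsPGroup.of_card (n := k) (by rw [Nat.card_zpowers, hk])
  have hPp : IsPGroup p P := by
    rcases hPmem with h | h
    · rw [h]; exact IsPGroup.of_bot
    · exact (hs.2 P (Finset.mem_filter.1 h).1).2
  have hRp : IsPGroup p (addU s u) :=
    IsPGroup.to_sup_of_normal_left' hPp hZ ((Subgroup.zpowers_le).2 huP)
  have hRne : addU s u ≠ ⊥ := fun h => hu.1 (Subgroup.mem_bot.1 (h ▸ mem_addU s u))
  have hcmp : ∀ Q ∈ s, Q ≤ addU s u ∨ addU s u ≤ Q := by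
    intro Q hQ
    by_cases huQ : u ∈ Q
    · right
      refine sup_le (Finset.sup_le fun R hR => ?_) ((Subgroup.zpowers_le).2 huQ)
      obtain ⟨hRs, huR⟩ := Finset.mem_filter.1 hR
      rcases hs.1 R hRs Q hQ with h | h
      · exact h
      · exact absurd (h huQ) huR
    · exact Or.inl ((Finset.le_sup (f := id) (Finset.mem_filter.2 ⟨hQ, huQ⟩)).trans le_sup_left)
  refine ⟨chain_toggle hs hRne hRp hcmp, ?_, stab_toggle fun x hx hall => ?_⟩
  · have hfil : (toggle s (addU s u)).filter (fun Q => u ∉ Q) = s.filter (fun Q => u ∉ Q) := by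
      ext Q
      simp only [Finset.mem_filter]
      refine ⟨fun ⟨h1, h2⟩ => ⟨(mem_toggle fun e => h2 (by rw [e]; exact mem_addU s u)).1 h1, h2⟩,
        fun ⟨h1, h2⟩ => ⟨(mem_toggle fun e => h2 (by rw [e]; exact mem_addU s u)).2 h1, h2⟩⟩
    rw [addU, hfil]
    rfl
  · have hxP : x ∈ Subgroup.normalizer (P : Set G) := by
      rcases hPmem with h | h
      · rw [h, Subgroup.normalizer_eq_top (⊥ : Subgroup G)]; trivial
      · obtain ⟨h1, h2⟩ := Finset.mem_filter.1 h
        exact hall P h1 fun e => h2 (by rw [e]; exact mem_addU s u)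
    have hxu : H23.cjS x (Subgroup.zpowers u) = Subgroup.zpowers u := by
      rw [H23.cjS, MonoidHom.map_zpowers]
      congr 1
      show x * u * x⁻¹ = u
      rw [Subgroup.mem_centralizer_singleton_iff.1 hx, mul_inv_cancel_right]
    have key : H23.cjS x (addU s u) = addU s u := by
      show H23.cjS x (P ⊔ Subgroup.zpowers u) = P ⊔ Subgroup.zpowers u
      rw [H23.cjS, Subgroup.map_sup]
      exact congrArg₂ (· ⊔ ·) (H23.cjS_eq_self hxP) hxu
    exact mem_normalizer_of key

/-- A member below which normality fails. -/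
def IsBad (s : Finset (Subgroup G)) (B : Subgroup G) : Prop :=
  B ∈ s ∧ ∃ Q ∈ s, Q ≤ B ∧ ¬ B ≤ Subgroup.normalizer (Q : Set G)

open Classical in
/-- The subgroup toggled at the least bad member. -/
noncomputable def cutAt (s : Finset (Subgroup G)) (B : Subgroup G) : Subgroup G :=
  B ⊓ ⨅ Q ∈ s.filter (fun Q => Q < B), Subgroup.normalizer (Q : Set G)

theorem mem_cutAt {s : Finset (Subgroup G)} {B : Subgroup G} {x : G} :
    x ∈ cutAt s B ↔ x ∈ B ∧ ∀ Q ∈ s, Q < B → x ∈ Subgroup.normalizer (Q : Set G) := by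
  classical
  simp [cutAt, Subgroup.mem_iInf]

/-- The pairing of the chains which are not normal. -/
theorem exists_pairing {s : Finset (Subgroup G)} (hs : IsChainP p s) (hn : ¬ IsNormalChain s) :
    ∃ B, IsBad s B ∧ (∀ B', IsBad s B' → B ≤ B') ∧
      IsChainP p (toggle s (cutAt s B)) ∧ IsBad (toggle s (cutAt s B)) B ∧
      (∀ B', IsBad (toggle s (cutAt s B)) B' → B ≤ B') ∧
      cutAt (toggle s (cutAt s B)) B = cutAt s B ∧
      stab (toggle s (cutAt s B)) = stab s := by
  classical
  have hbad : ∃ B, IsBad s B := by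
    unfold IsNormalChain at hn
    push Not at hn
    obtain ⟨Q, hQ, B, hB, hle, hno⟩ := hn
    exact ⟨B, hB, Q, hQ, hle, hno⟩
  obtain ⟨B, hB, hBmin⟩ := Finset.exists_min_image (s.filter (IsBad s)) (fun B => Nat.card B)
    (by obtain ⟨B, hB⟩ := hbad; exact ⟨B, Finset.mem_filter.2 ⟨hB.1, hB⟩⟩)
  have hB' := (Finset.mem_filter.1 hB).2
  have hleast : ∀ B', IsBad s B' → B ≤ B' := fun B' hb => by
    rcases hs.1 B hB'.1 B' hb.1 with h | h
    · exact h
    · exact (Subgroup.eq_of_le_of_card_ge h (hBmin B' (Finset.mem_filter.2 ⟨hb.1, hb⟩))).ge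
  obtain ⟨hBs, Q₀, hQ₀, hQ₀B, hQ₀n⟩ := hB'
  have hQ₀lt : Q₀ < B := lt_of_le_of_ne hQ₀B fun e => hQ₀n (e ▸ Subgroup.le_normalizer)
  set R := cutAt s B with hR
  -- members below `B` lie in `R`, members from `B` on contain it
  have hlow : ∀ Q ∈ s, Q < B → Q ≤ R := by
    intro Q hQ hQB x hx
    rw [hR, mem_cutAt]
    refine ⟨hQB.le hx, fun Q' hQ' hQ'B => ?_⟩
    rcases hs.1 Q hQ Q' hQ' with h | h
    · exact Subgroup.le_normalizer (h hx)
    · by_contra hno
      have hbadQ : IsBad s Q := ⟨hQ, Q', hQ', h, fun hle => hno (hle hx)⟩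
      exact (lt_of_lt_of_le hQB (hleast Q hbadQ)).false
  have hRB : R < B := by
    refine lt_of_le_of_ne (fun x hx => (mem_cutAt.1 hx).1) fun e => hQ₀n fun x hx => ?_
    exact (mem_cutAt.1 (show x ∈ R from e ▸ hx)).2 Q₀ hQ₀ hQ₀lt
  have hcmp : ∀ Q ∈ s, Q ≤ R ∨ R ≤ Q := by
    intro Q hQ
    rcases hs.1 Q hQ B hBs with h | h
    · rcases h.lt_or_eq with h' | h'
      · exact Or.inl (hlow Q hQ h')
      · exact Or.inr (h' ▸ hRB.le)
    · exact Or.inr (hRB.le.trans h)
  have hRne : R ≠ ⊥ := fun e => (hs.2 Q₀ hQ₀).1 (eq_bot_iff.2 (e ▸ hlow Q₀ hQ₀ hQ₀lt))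
  have hRp : IsPGroup p R := (hs.2 B hBs).2.to_le hRB.le
  set X : Subgroup G := B ⊓ ⨅ Q ∈ (s.erase R).filter (fun Q => Q < B),
    Subgroup.normalizer (Q : Set G) with hX
  have hmemX : ∀ x, x ∈ X ↔ x ∈ B ∧ ∀ Q ∈ s, Q ≠ R → Q < B → x ∈ Subgroup.normalizer (Q : Set G) := by
    intro x
    simp only [hX, Subgroup.mem_inf, Subgroup.mem_iInf, Finset.mem_filter, Finset.mem_erase]
    exact and_congr_right fun _ => ⟨fun h Q h1 h2 h3 => h Q ⟨⟨h2, h1⟩, h3⟩,
      fun h Q ⟨⟨h2, h1⟩, h3⟩ => h Q h1 h2 h3⟩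
  -- the intersection does not see `R`
  have hXR : X = R := by
    have hRX : R ≤ X := fun x hx => (hmemX x).2
      ⟨(mem_cutAt.1 hx).1, fun Q hQ _ hQB => (mem_cutAt.1 hx).2 Q hQ hQB⟩
    by_contra hne
    have hlt : R < X := lt_of_le_of_ne hRX (Ne.symm hne)
    have hlt' := H23.lt_inf_normalizer ((hs.2 B hBs).2.to_le inf_le_left : IsPGroup p X) hlt
    refine hlt'.not_ge fun x hx => ?_
    obtain ⟨hxX, hxN⟩ := Subgroup.mem_inf.1 hx
    rw [hR, mem_cutAt]
    refine ⟨((hmemX x).1 hxX).1, fun Q hQ hQB => ?_⟩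
    by_cases hQR : Q = R
    · rw [hQR]; exact hxN
    · exact ((hmemX x).1 hxX).2 Q hQ hQR hQB
  have hsame : ∀ Q, Q ≠ R → (Q ∈ toggle s R ↔ Q ∈ s) := fun Q h => mem_toggle h
  have hBt : B ∈ toggle s R := (hsame B hRB.ne').2 hBs
  -- `B` is still bad
  have hBbad : IsBad (toggle s R) B := by
    by_contra hno
    have hall : ∀ Q ∈ s, Q ≠ R → Q < B → B ≤ Subgroup.normalizer (Q : Set G) := fun Q hQ hne hlt =>
      by_contra fun h => hno ⟨hBt, Q, (hsame Q hne).2 hQ, hlt.le, h⟩
    have : B ≤ X := fun x hx => (hmemX x).2 ⟨hx, fun Q hQ hne hlt => hall Q hQ hne hlt hx⟩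
    exact hRB.not_ge (hXR ▸ this)
  have hleast' : ∀ B', IsBad (toggle s R) B' → B ≤ B' := by
    rintro B' ⟨hB'1, Q, hQ, hQB', hno⟩
    by_contra hcon
    have hB'lt : B' < B := by
      by_cases e : B' = R
      · exact e ▸ hRB
      · rcases hs.1 B hBs B' ((hsame B' e).1 hB'1) with h | h
        · exact absurd h hcon
        · exact lt_of_le_of_ne h fun e' => hcon e'.ge
    have hQlt : Q < B := lt_of_le_of_lt hQB' hB'lt
    by_cases e : B' = R
    · by_cases e2 : Q = R
      · exact hno (e.symm ▸ e2.symm ▸ Subgroup.le_normalizer)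
      · refine hno fun x hx => ?_
        rw [e] at hx
        exact (mem_cutAt.1 hx).2 Q ((hsame Q e2).1 hQ) hQlt
    · have hB's := (hsame B' e).1 hB'1
      by_cases e2 : Q = R
      · exact e ((le_antisymm (hlow B' hB's hB'lt) (e2 ▸ hQB')))
      · exact hcon (hleast B' ⟨hB's, Q, (hsame Q e2).1 hQ, hQB', hno⟩)
  have hcut : cutAt (toggle s R) B = R := by
    ext x
    rw [mem_cutAt]
    constructor
    · rintro ⟨hx, hall⟩
      rw [← hXR, hmemX]
      exact ⟨hx, fun Q hQ hne hlt => hall Q ((hsame Q hne).2 hQ) hlt⟩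
    · intro hx
      refine ⟨(mem_cutAt.1 hx).1, fun Q hQ hlt => ?_⟩
      by_cases hne : Q = R
      · rw [hne]; exact Subgroup.le_normalizer hx
      · exact (mem_cutAt.1 hx).2 Q ((hsame Q hne).1 hQ) hlt
  refine ⟨B, ⟨hBs, Q₀, hQ₀, hQ₀B, hQ₀n⟩, hleast, chain_toggle hs hRne hRp hcmp, hBbad, hleast', hcut, ?_⟩
  have h := stab_toggle (s := s) (R := R) (D := ⊤) fun x _ hall => by
    rw [← hXR, Subgroup.mem_normalizer_iff]
    intro q
    have hcongr : ∀ Q : Subgroup G, x ∈ Subgroup.normalizer (Q : Set G) →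
        (q ∈ Subgroup.normalizer (Q : Set G) ↔ x * q * x⁻¹ ∈ Subgroup.normalizer (Q : Set G)) :=
      fun Q hx => ⟨fun h => mul_mem (mul_mem hx h) (inv_mem hx),
        fun h => by simpa [mul_assoc] using mul_mem (mul_mem (inv_mem hx) h) hx⟩
    rw [hmemX, hmemX]
    exact and_congr (Subgroup.mem_normalizer_iff.1 (hall B hBs hRB.ne') q)
      ⟨fun hq Q hQ hne hlt => (hcongr Q (hall Q hQ hne)).1 (hq Q hQ hne hlt),
        fun hq Q hQ hne hlt => (hcongr Q (hall Q hQ hne)).2 (hq Q hQ hne hlt)⟩
  simpa using h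

open Classical in
/-- The alternating sum over normal chains fixed by `u` vanishes. -/
theorem sum_normal_chains_eq_zero {u : G} (hu : IsPEl p u) (f : Subgroup G → ℤ)
    [Fintype (Subgroup G)] :
    ∑ s ∈ (Finset.univ : Finset (Finset (Subgroup G))).filter
        (fun s => IsChainP p s ∧ IsNormalChain s ∧ u ∈ stab s),
      (-1 : ℤ) ^ s.card * f (stab s ⊓ Subgroup.centralizer ({u} : Set G)) = 0 := by
  classical
  set A := (Finset.univ : Finset (Finset (Subgroup G))).filter
    (fun s => IsChainP p s ∧ u ∈ stab s) with hA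
  let val : Finset (Subgroup G) → ℤ := fun s =>
    (-1 : ℤ) ^ s.card * f (stab s ⊓ Subgroup.centralizer ({u} : Set G))
  have hall : ∑ s ∈ A, val s = 0 := by
    refine Finset.sum_involution (fun s _ => toggle s (addU s u)) (fun s hs => ?_)
      (fun s _ _ => toggle_ne _ _) (fun s hs => ?_) (fun s hs => ?_)
    all_goals
      obtain ⟨hch, hus⟩ := (Finset.mem_filter.1 hs).2
      obtain ⟨h1, h2, h3⟩ := addU_facts hch hu hus
    · simp only [val, h3, neg_one_pow_toggle]; ring
    · refine Finset.mem_filter.2 ⟨Finset.mem_univ _, h1, ?_⟩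
      have : u ∈ stab (toggle s (addU s u)) ⊓ Subgroup.centralizer ({u} : Set G) := by
        rw [h3]; exact ⟨hus, Subgroup.mem_centralizer_singleton_iff.2 rfl⟩
      exact this.1
    · simp only [h2, toggle_toggle]
  have hbad : ∑ s ∈ A.filter (fun s => ¬ IsNormalChain s), val s = 0 := by
    have hex : ∀ s ∈ A.filter (fun s => ¬ IsNormalChain s), _ := fun s hs =>
      exists_pairing (p := p) (Finset.mem_filter.1 (Finset.mem_filter.1 hs).1).2.1
        (Finset.mem_filter.1 hs).2
    choose Bf hBf using hex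
    refine Finset.sum_involution (fun s hs => toggle s (cutAt s (Bf s hs))) (fun s hs => ?_)
      (fun s _ _ => toggle_ne _ _) (fun s hs => ?_) (fun s hs => ?_)
    all_goals obtain ⟨-, -, hch, hbad', hmin', hcut, hst⟩ := hBf s hs
    · simp only [val, hst, neg_one_pow_toggle]; ring
    · refine Finset.mem_filter.2 ⟨Finset.mem_filter.2 ⟨Finset.mem_univ _, hch, ?_⟩, ?_⟩
      · rw [hst]; exact (Finset.mem_filter.1 (Finset.mem_filter.1 hs).1).2.2
      · intro hn
        obtain ⟨hB, Q, hQ, hle, hno⟩ := hbad'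
        exact hno (hn Q hQ _ hB hle)
    · set t := toggle s (cutAt s (Bf s hs)) with ht
      have hts : ∀ h : t ∈ A.filter (fun s => ¬ IsNormalChain s), Bf t h = Bf s hs := fun h =>
        le_antisymm ((hBf t h).2.1 _ hbad') (hmin' _ (hBf t h).1)
      show toggle t (cutAt t (Bf t _)) = s
      rw [hts, ht, hcut, toggle_toggle]
  have hsplit := Finset.sum_filter_add_sum_filter_not A (fun s => IsNormalChain s) val
  rw [hall, hbad, add_zero] at hsplit
  rw [← hsplit, hA, Finset.filter_filter]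
  refine Finset.sum_congr (Finset.filter_congr fun s _ => by tauto) fun s _ => rfl

end H11.Chain
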