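import Cfsg.Agent.H20.BlockApps
import Cfsg.Agent.H20.Orth
import Cfsg.Agent.H20.PPart
import Cfsg.Agent.H12.Transport

/-!
Principal block columns at an involution which inverts nothing in a set of `2`-elements.
-/

set_option autoImplicit false
set_option linter.style.haveILetI false

open Cfsg
open scoped ComplexConjugate

namespace H11

universe u

variable {G : Type u} [Group G] [Fintype G] {M : Ideal AlgInt}

/-- The coefficient `a_χ`. -/
noncomputable def colCoeff (P : Subgroup G) (θ : ↥P → ℂ) (χ : IrrCharacter G) : ℂ :=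
  (Nat.card ↥P : ℂ)⁻¹ * ∑ᶠ y : ↥P, (χ : G → ℂ) (y : G) * θ y⁻¹

theorem colCoeff_int (P : Subgroup G) {θ : ↥P → ℂ} (hθ : IsGeneralizedCharacter ↥P θ)
    (χ : IrrCharacter G) : ∃ z : ℤ, colCoeff P θ χ = (z : ℂ) := by
  classical
  haveI : Fintype ↥P := Fintype.ofFinite _
  obtain ⟨α, β, hα, hβ, rfl⟩ := hθ
  have hres : IsCharacter ↥P (fun y : ↥P => (χ : G → ℂ) y) :=
    H12.IsCharacter.res (H12.isCharacter_irr χ) P
  obtain ⟨a, ha⟩ := H12.IsCharacter.classInner_nat hres hα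
  obtain ⟨b, hb⟩ := H12.IsCharacter.classInner_nat hres hβ
  refine ⟨(a : ℤ) - b, ?_⟩
  have e : colCoeff P (α - β) χ = classInner (fun y : ↥P => (χ : G → ℂ) y) α -
      classInner (fun y : ↥P => (χ : G → ℂ) y) β := by
    rw [colCoeff, finsum_eq_sum_of_fintype, H12.classInner_def, H12.classInner_def, ← mul_sub,
      ← Finset.sum_sub_distrib]
    congr 1
    refine Finset.sum_congr rfl fun y _ => ?_
    rw [Pi.sub_apply, H12.IsCharacter.inv hα, H12.IsCharacter.inv hβ]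
    ring
  rw [e, ha, hb]
  push_cast
  ring

theorem sum_colCoeff_mul (B : Set (IrrCharacter G)) (P : Subgroup G) (θ : ↥P → ℂ)
    (f : IrrCharacter G → ℂ) (h : ∀ y : ↥P, θ y⁻¹ ≠ 0 →
      ∑ᶠ χ ∈ B, (χ : G → ℂ) (y : G) * f χ = 0) :
    ∑ᶠ χ ∈ B, colCoeff P θ χ * f χ = 0 := by
  classical
  haveI : Fintype ↥P := Fintype.ofFinite _
  rw [H20.finsum_mem_eq_sum_ite B]
  have : ∀ χ : IrrCharacter G, (if χ ∈ B then colCoeff P θ χ * f χ else 0) =
      (Nat.card ↥P : ℂ)⁻¹ * ∑ y : ↥P, θ y⁻¹ *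
        (if χ ∈ B then (χ : G → ℂ) (y : G) * f χ else 0) := by
    intro χ
    rw [colCoeff, finsum_eq_sum_of_fintype]
    split_ifs
    · rw [mul_assoc, Finset.sum_mul]
      congr 1
      exact Finset.sum_congr rfl fun y _ => by ring
    · simp
  rw [Finset.sum_congr rfl fun χ _ => this χ, ← Finset.mul_sum, Finset.sum_comm]
  refine mul_eq_zero_of_right _ (Finset.sum_eq_zero fun y _ => ?_)
  rw [← Finset.mul_sum, ← H20.finsum_mem_eq_sum_ite B]
  by_cases hy : θ y⁻¹ = 0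
  · rw [hy, zero_mul]
  · rw [h y hy, mul_zero]

theorem column_zero [M.IsPrime] (hM : IsPModular 2 M) {U : Set G} {t : G} (ht : orderOf t = 2)
    (hinv : ∀ u ∈ U, ∀ g : G, (g * t * g⁻¹) * u * (g * t * g⁻¹)⁻¹ ≠ u⁻¹) {y : G}
    (hy : ∃ k : ℕ, orderOf y = 2 ^ k) (hyU : y⁻¹ ∈ U) (a : G) :
    ∑ᶠ χ ∈ principalBlock M G, (χ : G → ℂ) y *
      ((χ : G → ℂ) (t * (a * t * a⁻¹))) = 0 := by
  haveI : Fact (Nat.Prime 2) := ⟨hM.1⟩
  set w := t * (a * t * a⁻¹) with hw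
  have h := H20.block_orthogonality (g := y) (h := w⁻¹) hM ?_ (H20.isPBlock_principalBlock (M := M))
  · simpa using h
  intro hconj
  rw [H20.pPart_eq_self hy] at hconj
  obtain ⟨g, hg⟩ := isConj_iff.mp hconj.symm
  have ht2 : t * t = 1 := by
    have := pow_orderOf_eq_one t
    rwa [ht, pow_two] at this
  have hti : t⁻¹ = t := inv_eq_of_mul_eq_one_right ht2
  have hinvw : t * w⁻¹ * t⁻¹ = (w⁻¹)⁻¹ := by
    rw [hw]
    simp only [mul_inv_rev, inv_inv, hti, mul_assoc, ht2, mul_one]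
  have hz : t * H20.pPart 2 w⁻¹ * t⁻¹ = (H20.pPart 2 w⁻¹)⁻¹ := by
    rw [← H20.pPart_conj, hinvw, H20.pPart_inv]
  have hz' : H20.pPart 2 w⁻¹ = g⁻¹ * y * g := by rw [← hg]; group
  rw [hz'] at hz
  have hy' : (g * t * g⁻¹) * y * (g * t * g⁻¹)⁻¹ = y⁻¹ := by
    calc (g * t * g⁻¹) * y * (g * t * g⁻¹)⁻¹ = g * (t * (g⁻¹ * y * g) * t⁻¹) * g⁻¹ := by group
      _ = g * (g⁻¹ * y * g)⁻¹ * g⁻¹ := by rw [hz]
      _ = y⁻¹ := by group
  apply hinv _ hyU g
  calc (g * t * g⁻¹) * y⁻¹ * (g * t * g⁻¹)⁻¹ = ((g * t * g⁻¹) * y * (g * t * g⁻¹)⁻¹)⁻¹ := by group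
    _ = (y⁻¹)⁻¹ := by rw [hy']

theorem not_both_sides {ι : Type*} (s : Finset ι) (c : ι → ℝ) (d r : ι → ℝ) (i₀ : ι) (hi₀ : i₀ ∈ s)
    (hd : ∀ i ∈ s, 0 < d i) (hone : ∀ i ∈ s, i ≠ i₀ → c i ≤ 0)
    (h1 : ∑ i ∈ s, c i * d i = 0) (h2 : ∑ i ∈ s, c i * r i = 0)
    (h3 : ∑ i ∈ s, c i * (r i ^ 2 / d i) = 0) :
    ∀ i ∈ s, c i ≠ 0 → r i = r i₀ / d i₀ * d i := by
  classical
  set l := r i₀ / d i₀ with hl
  have hsum : ∑ i ∈ s, c i * ((r i - l * d i) ^ 2 / d i) = 0 := by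
    have : ∀ i ∈ s, c i * ((r i - l * d i) ^ 2 / d i) =
        c i * (r i ^ 2 / d i) - 2 * l * (c i * r i) + l ^ 2 * (c i * d i) := by
      intro i hi
      have := (hd i hi).ne'
      field_simp
      ring
    rw [Finset.sum_congr rfl this, Finset.sum_add_distrib, Finset.sum_sub_distrib, ← Finset.mul_sum,
      ← Finset.mul_sum, h1, h2, h3]
    ring
  have h0 : (r i₀ - l * d i₀) = 0 := by
    rw [hl, div_mul_cancel₀ _ (hd i₀ hi₀).ne', sub_self]
  have hterm : ∀ i ∈ s, c i * ((r i - l * d i) ^ 2 / d i) ≤ 0 := by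
    intro i hi
    by_cases h : i = i₀
    · subst h; simp [h0]
    · exact mul_nonpos_of_nonpos_of_nonneg (hone i hi h)
        (div_nonneg (sq_nonneg _) (hd i hi).le)
  intro i hi hci
  have := (Finset.sum_eq_zero_iff_of_nonpos hterm).mp hsum i hi
  rcases mul_eq_zero.mp this with h | h
  · exact absurd h hci
  · rcases div_eq_zero_iff.mp h with h | h
    · exact sub_eq_zero.mp (eq_zero_of_pow_eq_zero h)
    · exact absurd h (hd i hi).ne'

theorem exists_kernel [M.IsPrime] (hM : IsPModular 2 M) {t : G}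
    {χ : IrrCharacter G} (hχ : χ ∈ principalBlock M G) (hne : χ ≠ H12.oneIrr G)
    (ht : (χ : G → ℂ) t = (χ : G → ℂ) 1) :
    ∃ K : Subgroup G, K.Normal ∧ K ≠ ⊤ ∧ pPrimeCore 2 G ≤ K ∧ t ∈ K := by
  refine ⟨H12.charKer _ (H12.isCharacter_irr χ), H12.charKer_normal _, fun h => ?_,
    fun n hn => (H12.mem_charKer _).mpr (H20.principal_pPrimeCore_ker hM hχ hn),
    (H12.mem_charKer _).mpr ht⟩
  have hall : ∀ g : G, (χ : G → ℂ) g = (χ : G → ℂ) 1 := fun g =>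
    (H12.mem_charKer (H12.isCharacter_irr χ)).mp (h ▸ Subgroup.mem_top g)
  have h0 := H12.classInner_irr_ne hne
  rw [H12.classInner_def] at h0
  simp only [hall, H12.oneIrr_apply, map_one, mul_one, Finset.sum_const, Finset.card_univ,
    nsmul_eq_mul] at h0
  rw [← Nat.card_eq_fintype_card, ← mul_assoc, inv_mul_cancel₀ H12.card_ne_zero', one_mul] at h0
  exact H12.irr_apply_one_ne_zero χ h0

theorem involution_columns [M.IsPrime] (hM : IsPModular 2 M) (P : Subgroup G) (hP : IsPGroup 2 P)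
    (U : Set G) (t : G) (ht : orderOf t = 2)
    (hinv : ∀ u ∈ U, ∀ g : G, (g * t * g⁻¹) * u * (g * t * g⁻¹)⁻¹ ≠ u⁻¹)
    (θ : ↥P → ℂ) (hθ : IsGeneralizedCharacter ↥P θ) (hθU : ∀ y : ↥P, (y : G) ∉ U → θ y = 0) :
    (∑ᶠ χ ∈ principalBlock M G, colCoeff P θ χ * (χ : G → ℂ) t ^ 2 / (χ : G → ℂ) 1 = 0) ∧
    (∑ᶠ χ ∈ principalBlock M G, colCoeff P θ χ * (χ : G → ℂ) 1 = 0) ∧
    (∑ᶠ χ ∈ principalBlock M G, colCoeff P θ χ * (χ : G → ℂ) t = 0) ∧
    ((Nat.card ↥P : ℂ)⁻¹ * ∑ᶠ y : ↥P, θ y ≠ 0 →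
      (2 ≤ Nat.card {χ : IrrCharacter G // χ ∈ principalBlock M G ∧ 0 < (colCoeff P θ χ).re} ∧
        2 ≤ Nat.card {χ : IrrCharacter G // χ ∈ principalBlock M G ∧ (colCoeff P θ χ).re < 0}) ∨
      ∃ K : Subgroup G, K.Normal ∧ K ≠ ⊤ ∧ pPrimeCore 2 G ≤ K ∧ t ∈ K) := by
  classical
  haveI : Fact (Nat.Prime 2) := ⟨hM.1⟩
  have hyU : ∀ y : ↥P, θ y⁻¹ ≠ 0 → ((y : G)⁻¹ ∈ U ∧ ∃ k : ℕ, orderOf (y : G) = 2 ^ k) := by
    intro y hy
    refine ⟨?_, ?_⟩
    · by_contra h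
      exact hy (hθU y⁻¹ (by simpa using h))
    · obtain ⟨k, hk⟩ := IsPGroup.iff_orderOf.mp hP y
      exact ⟨k, by rw [Subgroup.orderOf_coe]; exact hk⟩
  have hwk : ∀ (s : G), (s = 1 ∨ s = t) →
      ∑ᶠ χ ∈ principalBlock M G, colCoeff P θ χ * (χ : G → ℂ) s = 0 := by
    intro s hs
    refine sum_colCoeff_mul _ P θ _ fun y hy => ?_
    obtain ⟨hu, hk⟩ := hyU y hy
    have h := H20.block_orthogonality (g := (y : G)) (h := s⁻¹) hM ?_
      (H20.isPBlock_principalBlock (M := M))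
    · simpa using h
    intro hconj
    rw [H20.pPart_eq_self hk] at hconj
    rcases hs with rfl | rfl
    · rw [inv_one, H20.pPart_eq_one_iff.mpr (by simp), isConj_one_left] at hconj
      apply hinv _ hu 1
      rw [hconj]
      simp
    · have hs2 : s⁻¹ = s := inv_eq_of_mul_eq_one_right (by
        have := pow_orderOf_eq_one s
        rwa [ht, pow_two] at this)
      rw [hs2, H20.pPart_eq_self ⟨1, by rw [ht, pow_one]⟩] at hconj
      obtain ⟨g, hg⟩ := isConj_iff.mp hconj.symm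
      apply hinv _ hu g
      rw [hg]
      group
      rw [zpow_neg_one, ← hg]
      simp [mul_assoc, hs2]
  have h1 := hwk 1 (Or.inl rfl)
  have h2 := hwk t (Or.inr rfl)
  have h3 : ∑ᶠ χ ∈ principalBlock M G, colCoeff P θ χ * ((χ : G → ℂ) t ^ 2 / (χ : G → ℂ) 1) = 0 := by
    refine sum_colCoeff_mul _ P θ _ fun y hy => ?_
    obtain ⟨hu, hk⟩ := hyU y hy
    have hterm : ∀ χ : IrrCharacter G, (χ : G → ℂ) (y : G) * ((χ : G → ℂ) t ^ 2 / (χ : G → ℂ) 1) =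
        (Nat.card G : ℂ)⁻¹ * ∑ a : G, (χ : G → ℂ) (y : G) * (χ : G → ℂ) (t * (a * t * a⁻¹)) := by
      intro χ
      rw [← Finset.mul_sum, ← mul_assoc, mul_comm ((Nat.card G : ℂ)⁻¹), mul_assoc]
      congr 1
      rw [pow_two, ← inv_mul_cancel_left₀ (H12.card_ne_zero' (G := G))
        ((χ : G → ℂ) t * (χ : G → ℂ) t / (χ : G → ℂ) 1), ← H20.sum_irr_conj_mul χ t t]
      congr 1
      refine Finset.sum_congr rfl fun a _ => ?_
      rw [show t * (a * t * a⁻¹) = t * ((a * t * a⁻¹) * t) * t⁻¹ by group]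
      exact (H12.irr_isClassFunction χ _ t).symm
    rw [H20.finsum_mem_eq_sum_ite]
    simp only [hterm, Finset.mul_sum, ← Finset.sum_filter]
    rw [Finset.sum_comm]
    refine Finset.sum_eq_zero fun a _ => ?_
    rw [← Finset.mul_sum]
    refine mul_eq_zero_of_right _ ?_
    rw [Finset.sum_filter, ← H20.finsum_mem_eq_sum_ite]
    exact column_zero hM ht hinv hk hu a
  refine ⟨?_, h1, h2, fun hmean => ?_⟩
  · simpa [mul_div_assoc] using h3
  have ha1 : colCoeff P θ (H12.oneIrr G) = (Nat.card ↥P : ℂ)⁻¹ * ∑ᶠ y : ↥P, θ y := by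
    haveI : Fintype ↥P := Fintype.ofFinite _
    rw [colCoeff, finsum_eq_sum_of_fintype, finsum_eq_sum_of_fintype]
    congr 1
    exact Fintype.sum_equiv (Equiv.inv ↥P) _ _ (fun y => by simp [H12.oneIrr_apply])
  have hreal : ∀ χ : IrrCharacter G, ∃ r : ℤ, (χ : G → ℂ) t = (r : ℂ) := fun χ => by
    obtain ⟨r, hr, -⟩ := H20.irr_involution χ ht
    exact ⟨r, hr⟩
  choose z hz using colCoeff_int P hθ
  choose r hr using hreal
  set s : Finset (IrrCharacter G) := Finset.univ.filter (fun χ => χ ∈ principalBlock M G) with hs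
  have hmem : ∀ χ, χ ∈ s ↔ χ ∈ principalBlock M G := fun χ => by simp [hs]
  have hone : H12.oneIrr G ∈ s := by
    rw [hmem]
    exact H20.mem_blockOf_self (H12.oneIrr G)
  have hz1 : z (H12.oneIrr G) ≠ 0 := by
    intro h
    apply hmean
    rw [← ha1, hz, h, Int.cast_zero]
  have conv1 : ∀ f : IrrCharacter G → ℝ,
      ∑ᶠ χ ∈ principalBlock M G, colCoeff P θ χ * (f χ : ℂ) = 0 →
      ∑ χ ∈ s, (z χ : ℝ) * f χ = 0 := by
    intro f hf
    rw [H20.finsum_mem_eq_sum_ite, ← Finset.sum_filter, ← hs] at hf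
    apply Complex.ofReal_injective
    rw [Complex.ofReal_sum, Complex.ofReal_zero, ← hf]
    refine Finset.sum_congr rfl fun χ _ => ?_
    rw [hz]
    push_cast
    ring
  set d : IrrCharacter G → ℝ := fun χ => (H12.degree (χ : G → ℂ) : ℝ) with hd
  have hdc : ∀ χ : IrrCharacter G, (χ : G → ℂ) 1 = (d χ : ℂ) := fun χ => by
    rw [H12.irr_apply_one]; simp [hd]
  have e1 : ∑ χ ∈ s, (z χ : ℝ) * d χ = 0 := conv1 d (by simpa only [← hdc] using h1)
  have e2 : ∑ χ ∈ s, (z χ : ℝ) * (r χ : ℝ) = 0 := conv1 _ (by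
    simp only [Complex.ofReal_intCast, ← hr]
    exact h2)
  have e3 : ∑ χ ∈ s, (z χ : ℝ) * ((r χ : ℝ) ^ 2 / d χ) = 0 := conv1 _ (by
    simp only [Complex.ofReal_div, Complex.ofReal_pow, Complex.ofReal_intCast, ← hr, ← hdc]
    exact h3)
  by_cases hboth : 2 ≤ Nat.card {χ : IrrCharacter G // χ ∈ principalBlock M G ∧ 0 < (colCoeff P θ χ).re}
      ∧ 2 ≤ Nat.card {χ : IrrCharacter G // χ ∈ principalBlock M G ∧ (colCoeff P θ χ).re < 0}
  · exact Or.inl hboth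
  right
  -- one of the signs occurs at most once
  have hsign : ∃ ε : ℤ, (ε = 1 ∨ ε = -1) ∧
      (s.filter fun χ => 0 < ε * z χ).card ≤ 1 := by
    have hre : ∀ χ, (colCoeff P θ χ).re = (z χ : ℝ) := fun χ => by rw [hz]; simp
    rw [not_and_or, not_le, not_le] at hboth
    rcases hboth with h | h
    · refine ⟨1, Or.inl rfl, ?_⟩
      rw [Nat.card_eq_fintype_card, Fintype.card_subtype] at h
      refine le_trans (le_of_eq ?_) (Nat.lt_succ_iff.mp h)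
      congr 1
      ext χ
      simp [hs, hre]
    · refine ⟨-1, Or.inr rfl, ?_⟩
      rw [Nat.card_eq_fintype_card, Fintype.card_subtype] at h
      refine le_trans (le_of_eq ?_) (Nat.lt_succ_iff.mp h)
      congr 1
      ext χ
      simp [hs, hre]
  obtain ⟨ε, hε, hcard⟩ := hsign
  have hε0 : ε ≠ 0 := by rcases hε with h | h <;> omega
  have hdpos : ∀ χ ∈ s, 0 < d χ := fun χ _ => by
    simpa [hd] using H12.irr_degree_pos χ
  have hscale : ∀ f : IrrCharacter G → ℝ, ∑ χ ∈ s, (z χ : ℝ) * f χ = 0 →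
      ∑ χ ∈ s, ((ε * z χ : ℤ) : ℝ) * f χ = 0 := by
    intro f hf
    simp only [Int.cast_mul, mul_assoc, ← Finset.mul_sum, hf, mul_zero]
  obtain ⟨χ₀, hχ₀, hpos⟩ : ∃ χ₀ ∈ s, 0 < ε * z χ₀ := by
    by_contra hcon
    push Not at hcon
    have := (Finset.sum_eq_zero_iff_of_nonpos (fun χ hχ => mul_nonpos_of_nonpos_of_nonneg
      (by exact_mod_cast hcon χ hχ) (hdpos χ hχ).le)).mp (hscale d e1) _ hone
    rcases mul_eq_zero.mp this with h | h
    · rw [Int.cast_eq_zero] at h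
      exact (mul_ne_zero hε0 hz1) h
    · exact (hdpos _ hone).ne' h
  have hrest : ∀ χ ∈ s, χ ≠ χ₀ → ((ε * z χ : ℤ) : ℝ) ≤ 0 := by
    intro χ hχ hne
    by_contra h
    rw [not_le, Int.cast_pos] at h
    exact hne (Finset.card_le_one.mp hcard χ (Finset.mem_filter.mpr ⟨hχ, h⟩) χ₀
      (Finset.mem_filter.mpr ⟨hχ₀, hpos⟩))
  have hcs := not_both_sides s (fun χ => ((ε * z χ : ℤ) : ℝ)) d (fun χ => (r χ : ℝ)) χ₀ hχ₀ hdpos
    hrest (hscale d e1) (hscale _ e2) (hscale _ e3)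
  have hnz : ∀ χ, z χ ≠ 0 → ((ε * z χ : ℤ) : ℝ) ≠ 0 := fun χ h =>
    Int.cast_ne_zero.mpr (mul_ne_zero hε0 h)
  have hd1 : d (H12.oneIrr G) = 1 := by
    apply Complex.ofReal_injective
    rw [← hdc, H12.oneIrr_apply, Complex.ofReal_one]
  have hr1 : (r (H12.oneIrr G) : ℝ) = 1 := by
    have := hr (H12.oneIrr G)
    rw [H12.oneIrr_apply] at this
    exact_mod_cast this.symm
  have hlam : (r χ₀ : ℝ) / d χ₀ = 1 := by
    have := hcs _ hone (hnz _ hz1)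
    rw [hd1, hr1, mul_one] at this
    exact this.symm
  obtain ⟨χ, hχ, hne, hzχ⟩ : ∃ χ ∈ s, χ ≠ H12.oneIrr G ∧ z χ ≠ 0 := by
    by_contra hcon
    push Not at hcon
    rw [Finset.sum_eq_single_of_mem _ hone (fun χ hχ hne => by rw [hcon χ hχ hne]; simp), hd1,
      mul_one, Int.cast_eq_zero] at e1
    exact hz1 e1
  refine exists_kernel hM ((hmem χ).mp hχ) hne ?_
  have := hcs χ hχ (hnz χ hzχ)
  rw [hlam, one_mul] at this
  rw [hr, hdc, ← this]
  simp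

end H11
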