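import Cfsg.Agent.H20.PrincipalColumn
import Cfsg.Agent.H20.PPart

/-!
Inner products of principal block columns over a set with controlled fusion.
-/

set_option autoImplicit false
set_option linter.style.haveILetI false
set_option linter.unusedSectionVars false

open Cfsg
open scoped ComplexConjugate

namespace H11

universe u

variable {G : Type u} [Group G] [Fintype G] {M : Ideal AlgInt} [M.IsPrime] {p : ℕ}

/-- The degree of a character is its value at one. -/
theorem irr_one_eq_charDegree {H : Type*} [Group H] (χ : IrrCharacter H) :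
    (χ : H → ℂ) 1 = (charDegree (χ : H → ℂ) : ℂ) := by
  rw [charDegree, H12.irr_apply_one]
  simp

theorem column_pair (hM : IsPModular p M) {u v : G} (hu : ∃ k : ℕ, orderOf u = p ^ k)
    (hv : ∃ k : ℕ, orderOf v = p ^ k) [Decidable (IsConj u v)] :
    ∑ᶠ χ ∈ principalBlock M G, (χ : G → ℂ) v * conj ((χ : G → ℂ) u) =
      if IsConj u v then
        (((∑ᶠ ψ ∈ principalBlock M ↥(Subgroup.centralizer ({u} : Set G)),
          charDegree (ψ : ↥(Subgroup.centralizer ({u} : Set G)) → ℂ) ^ 2 : ℕ)) : ℂ)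
      else 0 := by
  classical
  haveI : Fact p.Prime := ⟨hM.1⟩
  split_ifs with h
  · haveI : Fintype ↥(Subgroup.centralizer ({u} : Set G)) := Fintype.ofFinite _
    have hcol := H20.principal_column (y₁ := 1) (y := 1) hM hu (by simp [hM.1.ne_one])
      (by simp [hM.1.ne_one])
    simp only [OneMemClass.coe_one, mul_one] at hcol
    rw [H20.finsum_mem_eq_sum_ite, H20.finsum_mem_eq_sum_ite] at hcol
    rw [H20.finsum_mem_eq_sum_ite, finsum_mem_eq_finite_toFinset_sum _ (Set.toFinite _),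
      Nat.cast_sum]
    rw [Finset.sum_congr rfl fun χ _ => by
      rw [← H12.IsClassFunction.of_isConj (H12.irr_isClassFunction χ) h], hcol, ← Finset.sum_filter]
    refine Finset.sum_congr (by ext; simp) fun ψ _ => ?_
    rw [irr_one_eq_charDegree, Complex.conj_natCast, Nat.cast_pow, pow_two]
  · have hne : ¬ IsConj (H20.pPart p v) (H20.pPart p u) := by
      rw [H20.pPart_eq_self hu, H20.pPart_eq_self hv]
      exact fun h' => h h'.symm
    have := H20.block_orthogonality hM hne (H20.isPBlock_principalBlock (M := M))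
    rw [H20.finsum_mem_eq_sum_ite] at this ⊢
    refine Eq.trans (Finset.sum_congr rfl fun χ _ => ?_) this
    rw [H12.irr_inv]

theorem card_conj_to (N : Subgroup G) [Fintype N] [DecidableEq G] (u v : G)
    (h : ∃ n ∈ N, n * u * n⁻¹ = v) :
    (Finset.univ.filter fun x : N => (x : G) * u * (x : G)⁻¹ = v).card =
      Nat.card ↥(N ⊓ Subgroup.centralizer ({u} : Set G)) := by
  obtain ⟨n, hn, hnv⟩ := h
  rw [← Fintype.card_subtype, ← Nat.card_eq_fintype_card]
  refine Nat.card_congr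
    { toFun := fun x => ⟨n⁻¹ * (x.1 : G), N.mul_mem (N.inv_mem hn) x.1.2,
        Subgroup.mem_centralizer_singleton_iff.mpr ?_⟩
      invFun := fun c => ⟨⟨n * (c : G), mul_mem hn c.2.1⟩, ?_⟩
      left_inv := fun x => Subtype.ext (Subtype.ext (mul_inv_cancel_left _ _))
      right_inv := fun c => Subtype.ext (inv_mul_cancel_left _ _) }
  · have h1 : (x.1 : G) * u * (x.1 : G)⁻¹ = n * u * n⁻¹ := x.2.trans hnv.symm
    have h2 := congrArg (fun t => n⁻¹ * t * (x.1 : G)) h1
    simp only [mul_assoc, inv_mul_cancel, mul_one, inv_mul_cancel_left] at h2 ⊢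
    exact h2
  · have hc : (c : G) * u = u * (c : G) := Subgroup.mem_centralizer_singleton_iff.mp c.2.2
    rw [← hnv, mul_inv_rev, mul_assoc n (c : G) u, hc]
    simp [mul_assoc]

theorem column_inner (hM : IsPModular p M) (P : Subgroup G) (hP : IsPGroup p P) (N : Subgroup G)
    (hPN : P ≤ N) (hNN : N ≤ Subgroup.normalizer (P : Set G)) (U : Set G)
    (hfus : ∀ u ∈ U, ∀ g : G, g * u * g⁻¹ ∈ (P : Set G) → ∃ n ∈ N, n * u * n⁻¹ = g * u * g⁻¹)
    (w : ℚ) (hw : ∀ y ∈ U, ((∑ᶠ ψ ∈ principalBlock M ↥(Subgroup.centralizer ({y} : Set G)),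
        charDegree (ψ : ↥(Subgroup.centralizer ({y} : Set G)) → ℂ) ^ 2) : ℚ) =
      w * Nat.card ↥(N ⊓ Subgroup.centralizer ({y} : Set G)))
    (θ η : ↥P → ℂ) (hθU : ∀ y : ↥P, (y : G) ∉ U → θ y = 0) :
    ∑ᶠ χ ∈ principalBlock M G,
      ((Nat.card ↥P : ℂ)⁻¹ * ∑ᶠ y : ↥P, (χ : G → ℂ) (y : G) * θ y⁻¹) *
        conj ((Nat.card ↥P : ℂ)⁻¹ * ∑ᶠ y : ↥P, (χ : G → ℂ) (y : G) * η y⁻¹) =
      ((w : ℂ) / ((Nat.card ↥P : ℂ) ^ 2)) *
        ∑ᶠ y : ↥P, θ y * conj (∑ᶠ x : ↥N, extendByZero P η ((x : G) * (y : G) * (x : G)⁻¹)) := by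
  classical
  haveI : Fintype ↥P := Fintype.ofFinite _
  haveI : Fintype ↥N := Fintype.ofFinite _
  have hord : ∀ u : ↥P, ∃ k : ℕ, orderOf (u : G) = p ^ k := fun u => by
    haveI : Fact p.Prime := ⟨hM.1⟩
    obtain ⟨k, hk⟩ := IsPGroup.iff_orderOf.mp hP u
    exact ⟨k, by rw [Subgroup.orderOf_coe]; exact hk⟩
  set c : ℂ := (Nat.card ↥P : ℂ)⁻¹ with hc
  have hflip : ∀ (χ : IrrCharacter G) (f : ↥P → ℂ),
      ∑ᶠ y : ↥P, (χ : G → ℂ) (y : G) * f y⁻¹ = ∑ y : ↥P, conj ((χ : G → ℂ) (y : G)) * f y := by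
    intro χ f
    rw [finsum_eq_sum_of_fintype]
    refine Fintype.sum_equiv (Equiv.inv ↥P) _ _ fun y => ?_
    simp [H12.irr_inv]
  simp only [hflip]
  rw [H20.finsum_mem_eq_sum_ite, finsum_eq_sum_of_fintype (fun y : ↥P => θ y *
    conj (∑ᶠ x : ↥N, extendByZero P η ((x : G) * (y : G) * (x : G)⁻¹)))]
  have hterm : ∀ χ : IrrCharacter G,
      (if χ ∈ principalBlock M G then (c * ∑ y : ↥P, conj ((χ : G → ℂ) (y : G)) * θ y) *
          conj (c * ∑ y : ↥P, conj ((χ : G → ℂ) (y : G)) * η y) else 0) =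
      c * c * ∑ u : ↥P, θ u * ∑ v : ↥P, conj (η v) *
        (if χ ∈ principalBlock M G then (χ : G → ℂ) (v : G) * conj ((χ : G → ℂ) (u : G)) else 0) := by
    intro χ
    split_ifs
    · simp only [map_mul, map_sum, Complex.conj_conj, hc, map_inv₀, Complex.conj_natCast]
      rw [Finset.mul_sum, Finset.mul_sum, Finset.sum_mul, Finset.mul_sum]
      refine Finset.sum_congr rfl fun u _ => ?_
      simp only [Finset.mul_sum]
      refine Finset.sum_congr rfl fun v _ => ?_
      ring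
    · simp
  rw [Finset.sum_congr rfl fun χ _ => hterm χ, ← Finset.mul_sum, Finset.sum_comm, hc,
    div_eq_mul_inv, pow_two, mul_inv, mul_comm (w : ℂ), mul_assoc _ (w : ℂ), Finset.mul_sum (a := (w : ℂ))]
  congr 1
  refine Finset.sum_congr rfl fun u _ => ?_
  rw [← Finset.mul_sum, ← mul_assoc (w : ℂ), mul_comm (w : ℂ) (θ u), mul_assoc]
  by_cases hθ0 : θ u = 0
  · simp [hθ0]
  have huU : (u : G) ∈ U := by
    by_contra h
    exact hθ0 (hθU u h)
  congr 1
  rw [Finset.sum_comm, finsum_eq_sum_of_fintype, map_sum]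
  simp only [← Finset.mul_sum, ← H20.finsum_mem_eq_sum_ite (principalBlock M G)]
  set L := N ⊓ Subgroup.centralizer ({(u : G)} : Set G) with hL
  have hK : (((∑ᶠ ψ ∈ principalBlock M ↥(Subgroup.centralizer ({(u : G)} : Set G)),
          charDegree (ψ : ↥(Subgroup.centralizer ({(u : G)} : Set G)) → ℂ) ^ 2 : ℕ)) : ℂ) =
      (w : ℂ) * (Nat.card ↥L : ℂ) := by
    have h' := hw u huU
    rw [finsum_mem_eq_finite_toFinset_sum _ (Set.toFinite _)] at h' ⊢
    have h'' := congrArg (fun q : ℚ => (q : ℂ)) h'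
    push_cast at h'' ⊢
    exact h''
  have hx : ∀ x : ↥N, conj (extendByZero P η ((x : G) * (u : G) * (x : G)⁻¹)) =
      ∑ v : ↥P, conj (η v) * (if (x : G) * (u : G) * (x : G)⁻¹ = (v : G) then 1 else 0) := by
    intro x
    have hmem : (x : G) * (u : G) * (x : G)⁻¹ ∈ P :=
      ((Subgroup.mem_normalizer_iff.mp (hNN x.2)) (u : G)).mp u.2
    rw [Finset.sum_eq_single (⟨_, hmem⟩ : ↥P)]
    · rw [if_pos rfl, mul_one]
      exact congrArg conj (Subtype.val_injective.extend_apply η 0 (⟨_, hmem⟩ : ↥P))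
    · intro v _ hv
      rw [if_neg fun h => hv (Subtype.ext h.symm), mul_zero]
    · simp
  simp only [hx, Finset.mul_sum]
  rw [Finset.sum_comm (s := (Finset.univ : Finset ↥N))]
  refine Finset.sum_congr rfl fun v _ => ?_
  rw [column_pair hM (hord u) (hord v), ← Finset.mul_sum, ← Finset.mul_sum, Finset.sum_boole]
  by_cases hconj : IsConj (u : G) (v : G)
  · rw [if_pos hconj, hK]
    have : ∃ n ∈ N, n * (u : G) * n⁻¹ = (v : G) := by
      obtain ⟨g, hg⟩ := isConj_iff.mp hconj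
      obtain ⟨n, hn, hnv⟩ := hfus u huU g (by rw [hg]; exact v.2)
      exact ⟨n, hn, hnv.trans hg⟩
    rw [card_conj_to N _ _ this, hL]
    ring
  · rw [if_neg hconj]
    have : (Finset.univ.filter fun x : ↥N => (x : G) * (u : G) * (x : G)⁻¹ = (v : G)).card = 0 := by
      rw [Finset.card_eq_zero, Finset.filter_eq_empty_iff]
      exact fun x _ h => hconj (isConj_iff.mpr ⟨x, h⟩)
    rw [this]
    simp

end H11
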