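import Cfsg.Agent.H30.CyclicNormal
import Cfsg.Agent.H9.NormalE2

/-!
Groups of prime power order with a cyclic maximal subgroup.
-/

set_option autoImplicit false

namespace H11

open Subgroup

variable {G : Type*} [Group G] [Finite G] {p : ℕ} [hp : Fact p.Prime]

/-- A non-abelian group of order `p ^ n` with a cyclic subgroup of index `p`. -/
theorem cyclicMaximal_setup {n : ℕ} (hG : Nat.card G = p ^ n) (C : Subgroup G) (hC : IsCyclic C)
    (hCi : C.index = p) (hna : ∃ x y : G, x * y ≠ y * x) :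
    ∃ u : G, orderOf u = p ^ (n - 1) ∧ (zpowers u).Normal ∧ (zpowers u).index = p ∧
      centralizer (zpowers u : Set G) = zpowers u := by
  obtain ⟨u, hu⟩ := C.isCyclic_iff_exists_zpowers_eq_top.1 hC
  subst hu
  have hcard : Nat.card (zpowers u) * p = p ^ n := by
    rw [← hG, ← (zpowers u).card_mul_index, hCi]
  have hn : n ≠ 0 := by
    rintro rfl
    rw [pow_zero] at hcard
    exact hp.out.one_lt.ne' (Nat.eq_one_of_mul_eq_one_left hcard)
  have hN : (zpowers u).Normal := by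
    refine normal_of_index_eq_minFac_card ?_
    rw [hCi, hG, hp.out.pow_minFac hn]
  refine ⟨u, ?_, hN, hCi, ?_⟩
  · rw [← Nat.card_zpowers]
    apply Nat.eq_of_mul_eq_mul_right hp.out.pos
    rw [hcard, ← pow_succ, Nat.sub_add_cancel (Nat.one_le_iff_ne_zero.2 hn)]
  · by_contra hne
    have hle : zpowers u ≤ centralizer (zpowers u : Set G) := by
      intro y hy
      rw [mem_centralizer_iff]
      intro z hz
      obtain ⟨i, rfl⟩ := mem_zpowers_iff.1 hy
      obtain ⟨j, rfl⟩ := mem_zpowers_iff.1 hz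
      exact (Commute.refl u).zpow_zpow j i
    obtain ⟨g, hgc, hg⟩ := SetLike.exists_of_lt (lt_of_le_of_ne hle (Ne.symm hne))
    have htop : zpowers u ⊔ zpowers g = ⊤ := by
      have h1 : (zpowers u ⊔ zpowers g).index ∣ p := hCi ▸ index_dvd_of_le le_sup_left
      rcases (Nat.dvd_prime hp.out).1 h1 with h | h
      · exact index_eq_one.1 h
      · exfalso
        apply hg
        have := Subgroup.eq_of_le_of_card_ge (le_sup_left : zpowers u ≤ zpowers u ⊔ zpowers g) (le_of_eq (by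
          apply Nat.eq_of_mul_eq_mul_right hp.out.pos
          conv_lhs => rw [← h]
          conv_rhs => rw [← hCi]
          rw [card_mul_index, card_mul_index]))
        rw [this]
        exact mem_sup_right (mem_zpowers g)
    have hcomm : ∀ y ∈ ({u, g} : Set G), ∀ z ∈ ({u, g} : Set G), Commute y z := by
      have hug : Commute u g := mem_centralizer_iff.1 hgc u (mem_zpowers u)
      intro y hy z hz
      rcases hy with rfl | rfl <;> rcases hz with rfl | rfl
      · rfl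
      · exact hug
      · exact hug.symm
      · rfl
    obtain ⟨x, y, hxy⟩ := hna
    have hcl : zpowers u ⊔ zpowers g = closure ({u, g} : Set G) := by
      rw [Set.insert_eq, Subgroup.closure_union, zpowers_eq_closure, zpowers_eq_closure]
    letI : IsMulCommutative (closure ({u, g} : Set G)) :=
      Subgroup.isMulCommutative_closure fun y hy z hz => hcomm y hy z hz
    have hmem : ∀ z : G, z ∈ closure ({u, g} : Set G) := fun z => by
      rw [← hcl, htop]; exact mem_top z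
    exact hxy (congrArg Subtype.val
      (IsMulCommutative.is_comm.comm (⟨x, hmem x⟩ : closure ({u, g} : Set G)) ⟨y, hmem y⟩))

omit hp in
theorem pow_conj_exponent {u b : G} {r m : ℕ} (hb : b * u * b⁻¹ = u ^ r)
    (hd : ((m : ℕ) : ℤ) ∣ ((r : ℤ) - 1) * ((r : ℤ) - 1)) (j : ℕ) :
    b ^ j * u * (b ^ j)⁻¹ = u ^ r ^ j ∧ ((m : ℕ) : ℤ) ∣ (r : ℤ) ^ j - (1 + j * ((r : ℤ) - 1)) := by
  refine ⟨H30.conj_iterate hb j, ?_⟩
  induction j with
  | zero => simp
  | succ k ih =>
    have he : (r : ℤ) ^ (k + 1) - (1 + ((k + 1 : ℕ) : ℤ) * ((r : ℤ) - 1)) =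
        (r : ℤ) * ((r : ℤ) ^ k - (1 + k * ((r : ℤ) - 1))) + k * (((r : ℤ) - 1) * ((r : ℤ) - 1)) := by
      push_cast; ring
    rw [he]
    exact dvd_add (ih.mul_left _) (hd.mul_left _)

/-- In the good case there is an element of order `p` outside acting as the power `1 + p ^ n`. -/
theorem exists_modular_generator {u x : G} {n : ℕ} (hU : (zpowers u).Normal)
    (hC : centralizer (zpowers u : Set G) = zpowers u) (hn : orderOf u = p ^ (n + 1)) (hn1 : 1 ≤ n)
    (h2 : p = 2 → 2 ≤ n) (hx : H30.IsGood p u x) :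
    ∃ b : G, b ∉ zpowers u ∧ orderOf b = p ∧ b * u * b⁻¹ = u ^ (1 + p ^ n) := by
  obtain ⟨x', hx', hxp⟩ := H30.exists_order_p hU hC hn hn1 h2 hx
  obtain ⟨r, hr⟩ := H30.exists_conj_pow hU x'
  obtain ⟨k, hk⟩ := (H30.commute_pow_iff hn hp.out.ne_zero hr).1 hx'.2
  have hpk : ¬ (p : ℤ) ∣ k := by
    rintro ⟨k', rfl⟩
    apply hx'.1
    refine H30.mem_of_commute hC ?_
    rw [commute_iff_eq, ← mul_inv_eq_iff_eq_mul, hr]
    conv_rhs => rw [← pow_one u]
    rw [H30.pow_eq_pow_iff_int, hn, Nat.cast_one, hk]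
    exact ⟨k', by push_cast; ring⟩
  obtain ⟨s, t, hst⟩ : IsCoprime (p : ℤ) k := (Nat.prime_iff_prime_int.1 hp.out).coprime_iff_not_dvd.2 hpk
  set j := (t % (p : ℤ)).toNat with hj
  have hjt : (j : ℤ) = t - p * (t / p) := by
    rw [hj, Int.toNat_of_nonneg (Int.emod_nonneg _ (by exact_mod_cast hp.out.ne_zero)), Int.emod_def]
  have hsq : ((p ^ (n + 1) : ℕ) : ℤ) ∣ ((r : ℤ) - 1) * ((r : ℤ) - 1) :=
    (Int.natCast_dvd_natCast.2 (pow_dvd_pow p (by omega : n + 1 ≤ n + n))).trans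
      ⟨k * k, by rw [hk]; push_cast; ring⟩
  obtain ⟨hconj, hlin⟩ := pow_conj_exponent hr hsq j
  have hexp : x' ^ j * u * (x' ^ j)⁻¹ = u ^ (1 + p ^ n) := by
    rw [hconj, H30.pow_eq_pow_iff_int, hn]
    obtain ⟨c, hc⟩ := hlin
    refine ⟨c + (-s - k * (t / p)), ?_⟩
    rw [hk] at hc
    push_cast at hc ⊢
    linear_combination hc + ((p : ℤ) ^ n * k) * hjt + (p : ℤ) ^ n * hst
  have hnot : x' ^ j ∉ zpowers u := by
    intro hmem
    have hfix : x' ^ j * u * (x' ^ j)⁻¹ = u := by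
      obtain ⟨i, hi⟩ := mem_zpowers_iff.1 hmem
      rw [← hi, ((Commute.refl u).zpow_left i).eq, mul_inv_cancel_right]
    rw [hexp] at hfix
    conv_rhs at hfix => rw [← pow_one u]
    rw [H30.pow_eq_pow_iff_int, hn] at hfix
    push_cast at hfix
    rw [add_sub_cancel_left, pow_succ] at hfix
    have h0 : (p : ℤ) ^ n ≠ 0 := pow_ne_zero _ (by exact_mod_cast hp.out.ne_zero)
    have h1 : (p : ℤ) ∣ 1 := by
      apply Int.dvd_of_mul_dvd_mul_left h0
      rwa [mul_one]
    exact hp.out.ne_one (by exact_mod_cast Int.eq_one_of_dvd_one (by positivity) h1)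
  refine ⟨x' ^ j, hnot, ?_, hexp⟩
  refine orderOf_eq_prime (by rw [← pow_mul, mul_comm, pow_mul, hxp, one_pow]) fun h => hnot ?_
  rw [h]
  exact one_mem _

omit hp in
/-- The four non-abelian 2-groups with a cyclic subgroup of index 2. -/
theorem two_group_cases {u : G} {M : ℕ} (hM : orderOf u = 2 ^ (M + 2)) (hU : (zpowers u).Normal)
    (hi : (zpowers u).index = 2) (hC : centralizer (zpowers u : Set G) = zpowers u) :
    ∃ b : G, b ∉ zpowers u ∧
      ((b ^ 2 = 1 ∧ b * u * b⁻¹ = u⁻¹) ∨ (b ^ 2 = u ^ 2 ^ (M + 1) ∧ b * u * b⁻¹ = u⁻¹) ∨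
        (1 ≤ M ∧ b ^ 2 = 1 ∧ b * u * b⁻¹ = u ^ (1 + 2 ^ (M + 1))) ∨
        (1 ≤ M ∧ b ^ 2 = 1 ∧ b * u * b⁻¹ = u ^ (2 ^ (M + 1) - 1))) := by
  haveI : Fact (Nat.Prime 2) := ⟨Nat.prime_two⟩
  obtain ⟨x, hx⟩ : ∃ x, x ∉ zpowers u := by
    by_contra h
    push Not at h
    rw [(eq_top_iff' _).2 h, index_top] at hi
    norm_num at hi
  have hx2 : x ^ 2 ∈ zpowers u := sq_mem_of_index_two hi x
  obtain ⟨r, hr⟩ := H30.exists_conj_pow hU x
  obtain ⟨k, hk⟩ : ∃ k : ℕ, u ^ k = x ^ 2 := by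
    rwa [← mem_powers_iff_mem_zpowers, Submonoid.mem_powers_iff] at hx2
  have hr2 : ((2 : ℤ) ^ (M + 2)) ∣ (r : ℤ) ^ 2 - 1 := by
    have h := H30.conj_iterate hr 2
    rw [← hk, ((Commute.refl u).pow_left k).eq, mul_inv_cancel_right] at h
    conv_lhs at h => rw [← pow_one u]
    rw [eq_comm, H30.pow_eq_pow_iff_int, hM] at h
    exact_mod_cast h
  have hfix : ((2 : ℤ) ^ (M + 2)) ∣ ((r : ℤ) - 1) * k := by
    have h : x * u ^ k * x⁻¹ = u ^ k := by
      rw [hk, (Commute.self_pow x 2).eq, mul_inv_cancel_right]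
    rw [← conj_pow, hr, ← pow_mul, H30.pow_eq_pow_iff_int, hM] at h
    push_cast at h
    rwa [sub_mul, one_mul]
  have hinv : ∀ {e : ℕ}, ((2 : ℤ) ^ (M + 2)) ∣ (e : ℤ) + 1 → u ^ e = u⁻¹ := by
    intro e he
    refine eq_inv_of_mul_eq_one_left ?_
    rw [← pow_succ, ← orderOf_dvd_iff_pow_eq_one, hM]
    exact_mod_cast he
  have hd := Cfsg.Agent.H9.two_pow_unit_cases (n := M) hr2
  rcases hd with hgood | hbad
  · -- `r ≡ 1` modulo `2 ^ (M + 1)`
    rcases Nat.eq_zero_or_pos M with hM0 | hM0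
    · -- then `r ≡ -1` modulo `4`
      subst hM0
      have hr1 : ¬ ((4 : ℤ) ∣ (r : ℤ) - 1) := by
        intro h4
        apply hx
        refine H30.mem_of_commute hC ?_
        rw [commute_iff_eq, ← mul_inv_eq_iff_eq_mul, hr]
        conv_rhs => rw [← pow_one u]
        rw [H30.pow_eq_pow_iff_int, hM]
        exact_mod_cast h4
      norm_num at hgood hfix hM hinv ⊢
      have h4 : (4 : ℤ) ∣ (r : ℤ) + 1 := by omega
      have hk2 : (2 : ℤ) ∣ k := by
        by_contra hodd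
        apply hr1
        have hco : IsCoprime (4 : ℤ) (k : ℤ) := by
          rw [show (4 : ℤ) = 2 ^ 2 by norm_num]
          exact (Int.prime_two.coprime_iff_not_dvd.2 hodd).pow_left
        exact hco.dvd_of_dvd_mul_right hfix
      refine ⟨x, hx, ?_⟩
      rw [hr, hinv h4]
      by_cases hk4 : 4 ∣ k
      · refine Or.inl ⟨?_, rfl⟩
        rw [← hk, ← orderOf_dvd_iff_pow_eq_one, hM]; exact hk4
      · refine Or.inr ⟨?_, rfl⟩
        rw [← hk, H30.pow_eq_pow_iff_int, hM]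
        push_cast; omega
    · have hg : H30.IsGood 2 u x := by
        refine ⟨hx, (H30.commute_pow_iff (n := M + 1) hM (by norm_num) hr).2 ?_⟩
        exact_mod_cast hgood
      obtain ⟨b, hb, hb2, hbu⟩ := exists_modular_generator hU hC hM (by omega) (fun _ => by omega) hg
      refine ⟨b, hb, Or.inr (Or.inr (Or.inl ⟨hM0, ?_, hbu⟩))⟩
      rw [← hb2, pow_orderOf_eq_one]
  · -- `r ≡ -1` modulo `2 ^ (M + 1)`
    obtain ⟨c, hc⟩ := hbad
    rcases Int.even_or_odd c with ⟨c', rfl⟩ | ⟨c', rfl⟩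
    · have hru : ((2 : ℤ) ^ (M + 2)) ∣ (r : ℤ) + 1 := ⟨c', by rw [hc]; ring⟩
      have hk2 : ((2 : ℤ) ^ (M + 1)) ∣ k := by
        have h2 : ((2 : ℤ) ^ (M + 2)) ∣ 2 * (k : ℤ) := by
          have := dvd_sub (hru.mul_right (k : ℤ)) hfix
          rwa [← sub_mul, show (r : ℤ) + 1 - ((r : ℤ) - 1) = 2 by ring] at this
        rw [pow_succ' (2 : ℤ) (M + 1)] at h2
        exact Int.dvd_of_mul_dvd_mul_left (by norm_num) h2
      obtain ⟨d, hd⟩ := hk2
      refine ⟨x, hx, ?_⟩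
      rw [hr, hinv hru]
      rcases Int.even_or_odd d with ⟨d', rfl⟩ | ⟨d', rfl⟩
      · refine Or.inl ⟨?_, rfl⟩
        rw [← hk, ← orderOf_dvd_iff_pow_eq_one, hM]
        refine Int.natCast_dvd_natCast.1 ⟨d', ?_⟩
        rw [hd]; push_cast; ring
      · refine Or.inr (Or.inl ⟨?_, rfl⟩)
        rw [← hk, H30.pow_eq_pow_iff_int, hM]
        refine ⟨d', ?_⟩
        rw [hd]; push_cast; ring
    · rcases Nat.eq_zero_or_pos M with hM0 | hM0
      · -- modulo `4` this is the centralizing case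
        subst hM0
        exfalso
        apply hx
        refine H30.mem_of_commute hC ?_
        rw [commute_iff_eq, ← mul_inv_eq_iff_eq_mul, hr]
        conv_rhs => rw [← pow_one u]
        rw [H30.pow_eq_pow_iff_int, hM]
        norm_num at hc ⊢
        omega
      obtain ⟨m, rfl⟩ : ∃ m, M = m + 1 := ⟨M - 1, by omega⟩
      have hr' : ∀ e : ℕ, ((e : ℤ) + 1 = (2 : ℤ) ^ (m + 1 + 1)) →
          x * u * x⁻¹ = u ^ e := by
        intro e he
        rw [hr, H30.pow_eq_pow_iff_int, hM]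
        refine ⟨c', ?_⟩
        push_cast
        linear_combination hc - he
      have hpos : 1 ≤ 2 ^ (m + 1 + 1) := Nat.one_le_two_pow
      have hxu := hr' (2 ^ (m + 1 + 1) - 1) (by push_cast [Nat.cast_sub hpos]; ring)
      have hk2 : ((2 : ℤ) ^ (m + 1 + 1)) ∣ k := by
        have h2 : ((2 : ℤ) ^ (m + 1 + 1 + 1)) ∣ 2 * ((k : ℤ) * ((2 ^ (m + 1) : ℤ) - 1)) := by
          have h3 : ((2 : ℤ) ^ (m + 1 + 1 + 1)) ∣ ((r : ℤ) + 1 - 2 ^ (m + 1 + 1)) * k :=
            Dvd.dvd.mul_right ⟨c', by rw [hc]; ring⟩ _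
          have := dvd_sub hfix h3
          rw [show ((r : ℤ) - 1) * k - ((r : ℤ) + 1 - 2 ^ (m + 1 + 1)) * k =
            2 * ((k : ℤ) * ((2 ^ (m + 1) : ℤ) - 1)) by ring] at this
          exact this
        rw [pow_succ' (2 : ℤ) (m + 1 + 1)] at h2
        have hco : IsCoprime ((2 : ℤ) ^ (m + 1 + 1)) ((2 ^ (m + 1) : ℤ) - 1) :=
          IsCoprime.pow_left ⟨2 ^ m, -1, by ring⟩
        exact hco.dvd_of_dvd_mul_right (Int.dvd_of_mul_dvd_mul_left (by norm_num) h2)
      obtain ⟨d, hd⟩ := hk2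
      rcases Int.even_or_odd d with ⟨d', rfl⟩ | ⟨d', rfl⟩
      · refine ⟨x, hx, Or.inr (Or.inr (Or.inr ⟨by omega, ?_, hxu⟩))⟩
        rw [← hk, ← orderOf_dvd_iff_pow_eq_one, hM]
        refine Int.natCast_dvd_natCast.1 ⟨d', ?_⟩
        rw [hd]; push_cast; ring
      · refine ⟨u * x, fun h => hx ?_, Or.inr (Or.inr (Or.inr ⟨by omega, ?_, ?_⟩))⟩
        · have := mul_mem (inv_mem (mem_zpowers u)) h
          rwa [inv_mul_cancel_left] at this
        · calc (u * x) ^ 2 = u * (x * u * x⁻¹) * x ^ 2 := by rw [sq, sq]; group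
            _ = u ^ (2 ^ (m + 1 + 1) - 1 + 1 + k) := by
              rw [hxu, ← hk, ← pow_succ', ← pow_add]
            _ = 1 := by
              rw [← orderOf_dvd_iff_pow_eq_one, hM]
              refine Int.natCast_dvd_natCast.1 ⟨d' + 1, ?_⟩
              push_cast [Nat.cast_sub hpos]
              rw [hd]; ring
        · calc u * x * u * (u * x)⁻¹ = u * (x * u * x⁻¹) * u⁻¹ := by group
            _ = _ := by rw [hxu, ← pow_succ', pow_succ, mul_inv_cancel_right]

end H11
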