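import Cfsg.Agent.H12.Orth

/-!
Landau: the order of a finite group is bounded in terms of the number of its conjugacy classes.
-/

set_option autoImplicit false
set_option linter.style.haveILetI false
set_option linter.unusedSectionVars false

open Cfsg

namespace H11

universe u

theorem egyptian_bound : ∀ (k : ℕ) (q : ℚ), ∃ B : ℕ, ∀ s : Multiset ℕ, (∀ n ∈ s, 0 < n) →
    Multiset.card s ≤ k → (s.map fun n : ℕ => (n : ℚ)⁻¹).sum = q → ∀ n ∈ s, n ≤ B := by
  classical
  intro k
  induction k with
  | zero =>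
    intro q
    refine ⟨0, fun s _ hs _ n hn => ?_⟩
    rw [Multiset.card_eq_zero.mp (Nat.le_zero.mp hs)] at hn
    simp at hn
  | succ k ih =>
    intro q
    choose f hf using fun n : ℕ => ih (q - (n : ℚ)⁻¹)
    set L := ⌈((k + 1 : ℕ) : ℚ) / q⌉₊ with hL
    refine ⟨L + (Finset.range (L + 1)).sup f, fun s hpos hs hsum n hn => ?_⟩
    -- the smallest member
    obtain ⟨m, hm, hmin⟩ := Finset.exists_min_image s.toFinset id ⟨n, Multiset.mem_toFinset.mpr hn⟩
    rw [Multiset.mem_toFinset] at hm
    simp only [Multiset.mem_toFinset, id] at hmin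
    have hmq : (m : ℚ)⁻¹ ≤ q := by
      rw [← hsum]
      refine Multiset.single_le_sum (fun x hx => ?_) _ (Multiset.mem_map_of_mem _ hm)
      obtain ⟨a, -, rfl⟩ := Multiset.mem_map.mp hx
      positivity
    have hm0 : (0 : ℚ) < m := by exact_mod_cast hpos m hm
    have hq0 : 0 < q := lt_of_lt_of_le (by positivity) hmq
    have hle : q ≤ ((k + 1 : ℕ) : ℚ) * (m : ℚ)⁻¹ := by
      rw [← hsum]
      refine (Multiset.sum_le_card_nsmul _ ((m : ℚ)⁻¹) fun x hx => ?_).trans ?_
      · obtain ⟨a, ha, rfl⟩ := Multiset.mem_map.mp hx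
        exact inv_anti₀ hm0 (by exact_mod_cast hmin a ha)
      · rw [Multiset.card_map, nsmul_eq_mul]
        exact mul_le_mul_of_nonneg_right (by exact_mod_cast hs) (by positivity)
    have hmL : m ≤ L := by
      have h1 : (m : ℚ) ≤ ((k + 1 : ℕ) : ℚ) / q := by
        rw [le_div_iff₀ hq0]
        have := mul_le_mul_of_nonneg_left hle hm0.le
        rwa [mul_left_comm, mul_inv_cancel₀ hm0.ne', mul_one] at this
      exact_mod_cast h1.trans (Nat.le_ceil _)
    rw [← Multiset.cons_erase hm] at hn hsum
    rcases Multiset.mem_cons.mp hn with rfl | hn'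
    · omega
    rw [Multiset.map_cons, Multiset.sum_cons] at hsum
    have := hf m (s.erase m) (fun a ha => hpos a (Multiset.mem_of_mem_erase ha))
      (by rw [Multiset.card_erase_of_mem hm]; exact Nat.sub_le_of_le_add hs) (by linarith) n hn'
    have h2 : f m ≤ (Finset.range (L + 1)).sup f :=
      Finset.le_sup (f := f) (Finset.mem_range.mpr (Nat.lt_succ_of_le hmL))
    omega

/-- **Landau**: bounded class number implies bounded order. -/
theorem exists_card_le_of_classes (k : ℕ) : ∃ N : ℕ, ∀ (G : Type u) [Group G] [Finite G],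
    Nat.card (ConjClasses G) ≤ k → Nat.card G ≤ N := by
  obtain ⟨B, hB⟩ := egyptian_bound k 1
  refine ⟨B, fun G _ _ hk => ?_⟩
  classical
  haveI := Fintype.ofFinite G
  haveI := Fintype.ofFinite (ConjClasses G)
  set s : Multiset ℕ := (Finset.univ : Finset (ConjClasses G)).val.map
    fun C => Nat.card (Subgroup.centralizer ({C.out} : Set G)) with hs
  have hG0 : (Nat.card G : ℚ) ≠ 0 := by exact_mod_cast Nat.card_pos.ne'
  refine hB s ?_ ?_ ?_ (Nat.card G) ?_
  · intro n hn
    obtain ⟨C, -, rfl⟩ := Multiset.mem_map.mp hn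
    exact Nat.card_pos
  · rwa [hs, Multiset.card_map, ← Finset.card_def, Finset.card_univ, ← Nat.card_eq_fintype_card]
  · rw [hs, Multiset.map_map]
    show ∑ C : ConjClasses G, ((Nat.card (Subgroup.centralizer ({C.out} : Set G)) : ℕ) : ℚ)⁻¹ = 1
    have h1 : ∀ C : ConjClasses G, ((Nat.card (Subgroup.centralizer ({C.out} : Set G)) : ℕ) : ℚ)⁻¹ =
        ((Finset.univ.filter fun x : G => ConjClasses.mk x = C).card : ℚ) / (Nat.card G : ℚ) := by
      intro C
      have hset : (Finset.univ.filter fun x : G => ConjClasses.mk x = C) =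
          ({x : G | IsConj C.out x} : Finset G) := by
        ext x
        simp only [Finset.mem_filter, Finset.mem_univ, true_and]
        have hC : ConjClasses.mk C.out = C := Quotient.out_eq C
        rw [← ConjClasses.mk_eq_mk_iff_isConj, hC, eq_comm]
      have h := H12.card_conjClass_mul_card_centralizer (G := G) C.out
      rw [← hset] at h
      have hne : ((Nat.card (Subgroup.centralizer ({C.out} : Set G)) : ℕ) : ℚ) ≠ 0 := by
        exact_mod_cast Nat.card_pos.ne'
      rw [eq_div_iff hG0, ← h]
      push_cast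
      field_simp
    rw [Finset.sum_congr rfl fun C _ => h1 C, ← Finset.sum_div, ← Nat.cast_sum,
      ← Finset.card_eq_sum_card_fiberwise (fun x _ => Finset.mem_univ _), Finset.card_univ,
      ← Nat.card_eq_fintype_card, div_self hG0]
  · refine Multiset.mem_map.mpr ⟨ConjClasses.mk 1, Finset.mem_univ_val _, ?_⟩
    have hC : ConjClasses.mk (ConjClasses.mk (1 : G)).out = ConjClasses.mk (1 : G) :=
      Quotient.out_eq (ConjClasses.mk (1 : G))
    have h1 : (ConjClasses.mk (1 : G)).out = 1 :=
      isConj_one_right.mp (ConjClasses.mk_eq_mk_iff_isConj.mp hC).symm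
    rw [h1]
    have htop : Subgroup.centralizer ({(1 : G)} : Set G) = ⊤ :=
      eq_top_iff.mpr fun g _ => Subgroup.mem_centralizer_singleton_iff.mpr (by simp)
    rw [htop, Subgroup.card_top]

end H11
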