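import Cfsg.Agent.H11.FourBound
import Cfsg.Agent.H11.Landau
import Cfsg.Agent.H22.DeltaInt
import Cfsg.Agent.H22.BlockClasses
import Cfsg.Agent.H20.BlockApps

/-!
Groups with an elementary abelian `2`-subgroup of order `2 ^ (r + 1)` and no nonprincipal
`2`-block of defect at least `r` have bounded order.
-/

set_option autoImplicit false
set_option linter.style.haveILetI false
set_option linter.unusedSectionVars false

open Cfsg

namespace H11

universe u

variable {G : Type u} [Group G] [Finite G]

/-- Order of the image in a quotient. -/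
theorem card_map_mk_mul (Z : Subgroup G) [Z.Normal] {D : Subgroup G} (h : Z ≤ D) :
    Nat.card (D.map (QuotientGroup.mk' Z)) * Nat.card Z = Nat.card D := by
  have hi : (D.map (QuotientGroup.mk' Z)).index = D.index :=
    Subgroup.index_map_eq D (QuotientGroup.mk'_surjective Z) (by rwa [QuotientGroup.ker_mk'])
  refine Nat.eq_of_mul_eq_mul_right
    (Nat.pos_of_ne_zero (Subgroup.index_ne_zero_of_finite (H := D))) ?_
  rw [mul_right_comm, Subgroup.card_mul_index]
  nth_rw 1 [← hi]
  rw [Subgroup.card_mul_index, ← Subgroup.index_eq_card Z, mul_comm, Subgroup.card_mul_index]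

/-- The defects of the nonprincipal blocks of `C(x)/⟨x⟩` are one less than those allowed in `G`. -/
theorem nonprincipal_defect_quot {M : Ideal AlgInt} (hM : IsPModular 2 M) {r : ℕ}
    (hdef : ∀ B : Set (IrrCharacter G), IsPBlock M B → B ≠ principalBlock M G →
      blockDefect 2 B < r + 1)
    {x : G} (hx : orderOf x = 2)
    (z : Subgroup.centralizer ({x} : Set G)) (hz : (z : G) = x) [(Subgroup.zpowers z).Normal]
    (bq : Set (IrrCharacter (Subgroup.centralizer ({x} : Set G) ⧸ Subgroup.zpowers z)))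
    (hbq : IsPBlock M bq)
    (hne : bq ≠ principalBlock M (Subgroup.centralizer ({x} : Set G) ⧸ Subgroup.zpowers z)) :
    blockDefect 2 bq < r := by
  haveI : Fact (Nat.Prime 2) := ⟨Nat.prime_two⟩
  haveI : M.IsPrime := hM.2.1.isPrime
  haveI := Fintype.ofFinite G
  haveI := Fintype.ofFinite (Subgroup.centralizer ({x} : Set G))
  haveI := Fintype.ofFinite (Subgroup.centralizer ({x} : Set G) ⧸ Subgroup.zpowers z)
  have hzord : orderOf z = 2 := by rw [← Subgroup.orderOf_coe, hz, hx]
  have hZcard : Nat.card (Subgroup.zpowers z) = 2 := by rw [Nat.card_zpowers, hzord]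
  have hZp : IsPGroup 2 (Subgroup.zpowers z) := IsPGroup.of_card (n := 1) (by rw [hZcard, pow_one])
  have hZC : ∃ k : ℕ, (Subgroup.centralizer ((Subgroup.zpowers z) : Set (Subgroup.centralizer ({x} : Set G)))).index = 2 ^ k := by
    refine ⟨0, ?_⟩
    rw [pow_zero, Subgroup.index_eq_one, eq_top_iff]
    intro c _ w hw
    obtain ⟨i, rfl⟩ := Subgroup.mem_zpowers_iff.mp hw
    have hcz : Commute c z := Subtype.ext (by
      rw [Subgroup.coe_mul, Subgroup.coe_mul, hz]
      exact Subgroup.mem_centralizer_singleton_iff.mp c.2)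
    exact (hcz.zpow_right i).eq.symm
  obtain ⟨χ, hχ⟩ := H20.block_nonempty hbq
  set B := blockOf M ((H21.inflate (Subgroup.zpowers z) χ : IrrCharacter (Subgroup.centralizer ({x} : Set G))) : (Subgroup.centralizer ({x} : Set G)) → ℂ) with hBdef
  have hB : IsPBlock M B := H20.isPBlock_blockOf _
  -- `B` is not the principal block
  have hBne : B ≠ principalBlock M (Subgroup.centralizer ({x} : Set G)) := by
    intro h
    apply hne
    have h1 : H21.inflate (Subgroup.zpowers z) χ ∈ principalBlock M (Subgroup.centralizer ({x} : Set G)) := h ▸ H20.mem_blockOf_self _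
    have h2 : χ ∈ principalBlock M ((Subgroup.centralizer ({x} : Set G)) ⧸ (Subgroup.zpowers z)) :=
      (H20.inflation_blocks hM (Subgroup.zpowers z) hZp hZC (H12.oneIrr ((Subgroup.centralizer ({x} : Set G)) ⧸ (Subgroup.zpowers z))) χ).mpr h1
    exact H20.block_eq_of_mem hbq ⟨H12.oneIrr _, rfl⟩ hχ h2
  obtain ⟨bbar, hbbar, hinfl, hDD⟩ := H21.exists_quotient_block (Subgroup.zpowers z) hM hZp hB
  have hbb : bbar = bq := by
    obtain ⟨ψ, hψ⟩ := H20.block_nonempty hbbar
    have h1 : SameBlock M (H21.inflate (Subgroup.zpowers z) χ : (Subgroup.centralizer ({x} : Set G)) → ℂ) (H21.inflate (Subgroup.zpowers z) ψ : (Subgroup.centralizer ({x} : Set G)) → ℂ) := hinfl ψ hψ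
    have h2 : ψ ∈ blockOf M (χ : (Subgroup.centralizer ({x} : Set G)) ⧸ (Subgroup.zpowers z) → ℂ) :=
      (H20.inflation_blocks hM (Subgroup.zpowers z) hZp hZC χ ψ).mpr h1
    rw [← H20.block_eq_blockOf hbq hχ] at h2
    exact H20.block_eq_of_mem hbbar hbq hψ h2
  subst hbb
  -- the induced block
  obtain ⟨B', hB'⟩ := H20.exists_block_induced hM x ⟨1, by rw [hx, pow_one]⟩ hB
  have hB'ne : B' ≠ principalBlock M G := by
    intro h
    exact hBne ((H20.third_main hM (Subgroup.centralizer ({x} : Set G)) ⟨B', hB'⟩).mp (h ▸ hB'))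
  have hlt := hdef B' hB'.2.1 hB'ne
  obtain ⟨D, hD⟩ := H20.exists_defectGroup hM hB
  obtain ⟨E, hE, hDE⟩ := H20.inducedBlock_defectGroup_le hM (Subgroup.centralizer ({x} : Set G)) hB' hD
  have hDcard := H22.card_isDefectGroup hM hB hD
  have h1 : blockDefect 2 B ≤ blockDefect 2 B' := by
    have h := Subgroup.card_le_of_le hDE
    rw [Subgroup.card_map_of_injective (Subgroup.centralizer ({x} : Set G)).subtype_injective, hDcard,
      H22.card_isDefectGroup hM hB'.2.1 hE] at h
    exact (Nat.pow_le_pow_iff_right (by norm_num)).mp h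
  have hZD : (Subgroup.zpowers z) ≤ D := H20.normal_le_defectGroup hM hB hZp hD
  have hDbar := (hDD (D.map (QuotientGroup.mk' (Subgroup.zpowers z)))).mpr ⟨D, hD, rfl⟩
  have h2 : Nat.card (D.map (QuotientGroup.mk' (Subgroup.zpowers z))) * 2 = Nat.card D := by
    rw [← hZcard]; exact card_map_mk_mul (Subgroup.zpowers z) hZD
  rw [H22.card_isDefectGroup hM hbbar hDbar, hDcard] at h2
  have h3 : blockDefect 2 bbar + 1 = blockDefect 2 B :=
    Nat.pow_right_injective le_rfl ((pow_succ 2 _).trans h2)
  omega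

/-- Bound on the order by induction on the defect. -/
theorem exists_bound (r : ℕ) : ∀ a : ℕ, ∃ N : ℕ, ∀ (G : Type u) [Group G] [Finite G]
    (M : Ideal AlgInt), IsPModular 2 M → (Nat.card G).factorization 2 ≤ a →
    (∀ B : Set (IrrCharacter G), IsPBlock M B → B ≠ principalBlock M G → blockDefect 2 B < r) →
    (∃ E : Subgroup G, IsMulCommutative E ∧ (∀ x ∈ E, x * x = 1) ∧ Nat.card E = 2 ^ (r + 1)) →
    Nat.card G ≤ N := by
  induction r with
  | zero =>
    intro a
    obtain ⟨N, hN⟩ := exists_card_le_of_classes.{u} (2 ^ (2 * a) + 4)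
    refine ⟨N, fun G _ _ M hM ha hdef _ => hN G ?_⟩
    haveI : Fact (Nat.Prime 2) := ⟨Nat.prime_two⟩
    haveI := Fintype.ofFinite G
    haveI : M.IsPrime := hM.2.1.isPrime
    have hall : ∀ χ : IrrCharacter G, χ ∈ principalBlock M G := fun χ => by
      by_contra h
      exact Nat.not_lt_zero _ (hdef _ ⟨χ, rfl⟩ fun e => h (e ▸ H20.mem_blockOf_self χ))
    have h := H22.four_mul_card_le hM (B := principalBlock M G) ⟨H12.oneIrr G, rfl⟩
    rw [H22.blockDefect_principalBlock,
      Nat.card_congr (Equiv.subtypeUnivEquiv hall : _ ≃ IrrCharacter G), H12.card_irrCharacter] at h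
    have := Nat.pow_le_pow_right (show 0 < 2 by norm_num) (Nat.mul_le_mul_left 2 ha)
    omega
  | succ r ih =>
    intro a
    obtain ⟨N', hN'⟩ := ih a
    obtain ⟨N, hN⟩ := exists_card_le_of_four.{u} (2 * N') a
    refine ⟨N, fun G _ _ M hM ha hdef ⟨E, hEc, hE2, hEcard⟩ => hN G ?_⟩
    classical
    have hcomm : ∀ u v : G, u ∈ E → v ∈ E → Commute u v := fun u v hu hv =>
      congrArg Subtype.val (hEc.is_comm.comm ⟨u, hu⟩ ⟨v, hv⟩)
    have hcent : ∀ x ∈ E, x ≠ 1 →
        Nat.card (Subgroup.centralizer ({x} : Set G)) ≤ 2 * N' := by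
      intro x hx hx1
      have hxo : orderOf x = 2 := orderOf_eq_prime (by rw [pow_two, hE2 x hx]) hx1
      set C := Subgroup.centralizer ({x} : Set G) with hC
      have hEC : E ≤ C := fun e he => Subgroup.mem_centralizer_singleton_iff.mpr (hcomm e x he hx).eq
      set z : C := ⟨x, hEC hx⟩ with hz
      haveI : (Subgroup.zpowers z).Normal := by
        refine ⟨fun w hw c => ?_⟩
        obtain ⟨i, rfl⟩ := Subgroup.mem_zpowers_iff.mp hw
        have hcz : Commute c z :=
          Subtype.ext (Subgroup.mem_centralizer_singleton_iff.mp c.2)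
        rw [(hcz.zpow_right i).eq, mul_inv_cancel_right]
        exact Subgroup.zpow_mem_zpowers z i
      have hzc : Nat.card (Subgroup.zpowers z) = 2 := by
        rw [Nat.card_zpowers, ← Subgroup.orderOf_coe]; exact hxo
      have hQ : Nat.card (C ⧸ Subgroup.zpowers z) ≤ N' := by
        refine hN' _ M hM ?_ (fun b hb hbne => nonprincipal_defect_quot hM hdef hxo z rfl b hb hbne) ?_
        · refine le_trans ?_ ha
          exact (Nat.factorization_le_iff_dvd Nat.card_pos.ne' Nat.card_pos.ne').mpr
            ((Subgroup.card_quotient_dvd_card _).trans C.card_subgroup_dvd_card) 2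
        · refine ⟨(E.subgroupOf C).map (QuotientGroup.mk' (Subgroup.zpowers z)), ⟨⟨?_⟩⟩, ?_, ?_⟩
          · rintro ⟨_, u, hu, rfl⟩ ⟨_, v, hv, rfl⟩
            apply Subtype.ext
            show _ * _ = _ * _
            rw [← map_mul, ← map_mul]
            exact congrArg _ (Subtype.ext (hcomm _ _ hu hv).eq)
          · rintro _ ⟨u, hu, rfl⟩
            rw [← map_mul, show u * u = 1 from Subtype.ext (hE2 _ hu), map_one]
          · have hzE : Subgroup.zpowers z ≤ E.subgroupOf C := Subgroup.zpowers_le.mpr hx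
            have h := card_map_mk_mul _ hzE
            rw [hzc, Nat.card_congr (Subgroup.subgroupOfEquivOfLe hEC).toEquiv, hEcard,
              pow_succ 2 (r + 1)] at h
            exact Nat.eq_of_mul_eq_mul_right two_pos h
      rw [← (Subgroup.zpowers z).card_mul_index, hzc, Subgroup.index_eq_card]
      exact Nat.mul_le_mul_left 2 hQ
    -- a four group inside `E`
    haveI := Fintype.ofFinite E
    have h4 : 4 ≤ Nat.card E := by
      rw [hEcard]
      exact le_trans (by norm_num) (Nat.pow_le_pow_right (show 0 < 2 by norm_num)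
        (show 2 ≤ r + 1 + 1 by omega))
    obtain ⟨u, hu1, hu⟩ : ∃ u : E, u ≠ 1 ∧ True := by
      haveI : Nontrivial E := Finite.one_lt_card_iff_nontrivial.mp (by omega)
      obtain ⟨u, hu⟩ := exists_ne (1 : E)
      exact ⟨u, hu, trivial⟩
    obtain ⟨v, hv1, hv⟩ : ∃ v : E, v ≠ 1 ∧ v ≠ u := by
      by_contra h
      push Not at h
      have : Finset.univ ⊆ ({1, u} : Finset E) := fun w _ => by
        by_cases hw : w = 1
        · simp [hw]
        · simp [h w hw]
      have := (Finset.card_le_card this).trans Finset.card_le_two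
      rw [Finset.card_univ, ← Nat.card_eq_fintype_card] at this
      omega
    have hu1' : (u : G) ≠ 1 := fun e => hu1 (Subtype.ext e)
    have hv1' : (v : G) ≠ 1 := fun e => hv1 (Subtype.ext e)
    have huv : (u : G) * v ≠ 1 := fun e => hv (Subtype.ext
      ((eq_inv_of_mul_eq_one_right e).trans (inv_eq_of_mul_eq_one_right (hE2 _ u.2))))
    refine ⟨⟨u, v, hE2 _ u.2, hE2 _ v.2, hcomm _ _ u.2 v.2, hu1', hv1',
      fun e => hv (Subtype.ext e.symm), fun e he => ?_⟩, ha⟩
    simp only [Set.mem_insert_iff, Set.mem_singleton_iff] at he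
    rcases he with rfl | rfl | rfl
    · exact hcent _ u.2 hu1'
    · exact hcent _ v.2 hv1'
    · exact hcent _ (E.mul_mem u.2 v.2) huv

end H11
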