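import Mathlib

/-!
A finite group with a four group is bounded in terms of its three involution centralisers and
the exponent of two in its order.
-/

set_option autoImplicit false
set_option linter.style.haveILetI false
set_option linter.unusedSectionVars false

namespace H11

universe u

variable {G : Type u} [Group G] [Finite G]

/-- The centraliser of an image in `G ⧸ R` is no larger than that of the element. -/
theorem card_centralizer_mk_le (R : Subgroup G) [R.Normal] (x : G) :
    Nat.card (Subgroup.centralizer ({QuotientGroup.mk' R x} : Set (G ⧸ R))) ≤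
      Nat.card (Subgroup.centralizer ({x} : Set G)) := by
  classical
  set S : Subgroup G :=
    (Subgroup.centralizer ({QuotientGroup.mk' R x} : Set (G ⧸ R))).comap (QuotientGroup.mk' R) with hS
  have hRS : R ≤ S := by
    intro r hr
    rw [hS, Subgroup.mem_comap, Subgroup.mem_centralizer_singleton_iff]
    have : QuotientGroup.mk' R r = 1 := (QuotientGroup.eq_one_iff r).mpr hr
    rw [this, one_mul, mul_one]
  have hcard : Nat.card S = Nat.card R *
      Nat.card (Subgroup.centralizer ({QuotientGroup.mk' R x} : Set (G ⧸ R))) := by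
    have h1 := Subgroup.index_comap_of_surjective
      (Subgroup.centralizer ({QuotientGroup.mk' R x} : Set (G ⧸ R)))
      (f := QuotientGroup.mk' R) (QuotientGroup.mk'_surjective R)
    have h2 := S.card_mul_index
    have h3 := (Subgroup.centralizer ({QuotientGroup.mk' R x} : Set (G ⧸ R))).card_mul_index
    have h4 := R.card_mul_index
    rw [hS] at h2 ⊢
    rw [h1, ← h4, Subgroup.index_eq_card R, ← h3, ← mul_assoc] at h2
    exact Nat.eq_of_mul_eq_mul_right (Nat.pos_of_ne_zero Subgroup.index_ne_zero_of_finite) h2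
  have hle : Nat.card S ≤ Nat.card R * Nat.card (Subgroup.centralizer ({x} : Set G)) := by
    -- send `g` to `x⁻¹ g⁻¹ x g ∈ R`; the fibres are cosets of the centraliser
    have hmem : ∀ g : S, x⁻¹ * ((g : G)⁻¹ * x * g) ∈ R := by
      intro g
      have hg : QuotientGroup.mk' R (g : G) ∈
          Subgroup.centralizer ({QuotientGroup.mk' R x} : Set (G ⧸ R)) := g.2
      rw [Subgroup.mem_centralizer_singleton_iff] at hg
      rw [← QuotientGroup.eq_one_iff, QuotientGroup.mk_mul, QuotientGroup.mk_mul,
        QuotientGroup.mk_mul, QuotientGroup.mk_inv, QuotientGroup.mk_inv]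
      simp only [QuotientGroup.mk'_apply] at hg
      rw [mul_assoc _ (x : G ⧸ R), ← hg]
      group
    let φ : S → R := fun g => ⟨_, hmem g⟩
    choose! sec hsec using fun (r : R) (h : ∃ g, φ g = r) => h
    let ψ : S → R × Subgroup.centralizer ({x} : Set G) := fun g =>
      (φ g, ⟨(g : G) * (sec (φ g) : G)⁻¹, by
        have h := congrArg (Subtype.val) (hsec (φ g) ⟨g, rfl⟩)
        simp only [φ] at h
        have h' := mul_left_cancel h
        rw [Subgroup.mem_centralizer_singleton_iff]
        simp only [φ]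
        calc (g : G) * (sec (φ g) : G)⁻¹ * x
            = (g : G) * ((sec (φ g) : G)⁻¹ * x * sec (φ g)) * (sec (φ g) : G)⁻¹ := by group
          _ = (g : G) * ((g : G)⁻¹ * x * g) * (sec (φ g) : G)⁻¹ := by rw [h']
          _ = x * ((g : G) * (sec (φ g) : G)⁻¹) := by group⟩)
    have hψ : Function.Injective ψ := by
      intro g g' h
      have h1 := congrArg Prod.fst h
      have h2 := congrArg (fun p : R × Subgroup.centralizer ({x} : Set G) => (p.2 : G)) h
      simp only [ψ] at h1 h2
      rw [h1] at h2
      exact Subtype.ext (mul_right_cancel h2)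
    calc Nat.card S ≤ Nat.card (R × Subgroup.centralizer ({x} : Set G)) :=
          Nat.card_le_card_of_injective ψ hψ
      _ = _ := Nat.card_prod _ _
  rw [hcard] at hle
  exact Nat.le_of_mul_le_mul_left hle Nat.card_pos

/-- An involution in the coset of an involution modulo an odd-order normal subgroup is conjugate
to it under that subgroup. -/
theorem exists_conj_of_coset_involution (O : Subgroup G) (hodd : Odd (Nat.card O)) {c o : G}
    (ho : o ∈ O) (hc : c * c = 1) (hco : (c * o) * (c * o) = 1) :
    ∃ h ∈ O, h⁻¹ * c * h = c * o := by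
  obtain ⟨m, hm⟩ : Odd (orderOf o) := by
    refine hodd.of_dvd_nat ?_
    rw [← Subgroup.orderOf_mk o ho]
    exact orderOf_dvd_natCard _
  have hinv : c * o * c⁻¹ = o⁻¹ := by
    rw [inv_eq_of_mul_eq_one_right hc]
    exact eq_inv_of_mul_eq_one_left (by simpa [mul_assoc] using hco)
  refine ⟨o ^ (m + 1), O.pow_mem ho _, ?_⟩
  have h1 : c * o ^ (m + 1) * c⁻¹ = (o ^ (m + 1))⁻¹ := by
    rw [← conj_pow, hinv, inv_pow]
  have h2 : o ^ (m + 1) * o ^ (m + 1) = o := by
    rw [← pow_add, show m + 1 + (m + 1) = orderOf o + 1 by omega, pow_succ, pow_orderOf_eq_one,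
      one_mul]
  calc (o ^ (m + 1))⁻¹ * c * o ^ (m + 1)
      = c * (o ^ (m + 1) * o ^ (m + 1)) := by rw [← h1]; group
    _ = c * o := by rw [h2]

/-- A four group acting on a normal subgroup of odd order. -/
theorem card_odd_le_mul (O : Subgroup G) [O.Normal] (hodd : Odd (Nat.card O)) {a b : G}
    (ha : a * a = 1) (hb : b * b = 1) (hab : Commute a b) :
    Nat.card O ≤ Nat.card (Subgroup.centralizer ({a} : Set G)) *
      Nat.card (Subgroup.centralizer ({b} : Set G)) *
        (Nat.card (Subgroup.centralizer ({a * b} : Set G)) *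
          Nat.card (Subgroup.centralizer ({a * b} : Set G))) := by
  classical
  set c := a * b with hcdef
  have hac : Commute a c := (Commute.refl a).mul_right hab
  have hbc : Commute b c := hab.symm.mul_right (Commute.refl b)
  have hc : c * c = 1 := by
    rw [hcdef, hab.symm.mul_mul_mul_comm, ha, hb, one_mul]
  -- conjugation orbits under `O`
  let K : G → Set G := fun x => (fun o : G => o⁻¹ * x * o) '' (O : Set G)
  have hK : ∀ x : G, Nat.card O ≤
      Nat.card (K x) * Nat.card (Subgroup.centralizer ({x} : Set G)) := by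
    intro x
    let f : O → K x := fun o => ⟨(o : G)⁻¹ * x * o, Set.mem_image_of_mem _ o.2⟩
    choose! sec hsec using fun (y : K x) (h : ∃ o, f o = y) => h
    let ψ : O → K x × Subgroup.centralizer ({x} : Set G) := fun o =>
      (f o, ⟨(o : G) * (sec (f o) : G)⁻¹, by
        have h : ((sec (f o) : G)⁻¹ * x * sec (f o)) = (o : G)⁻¹ * x * o :=
          congrArg Subtype.val (hsec (f o) ⟨o, rfl⟩)
        rw [Subgroup.mem_centralizer_singleton_iff]
        calc (o : G) * (sec (f o) : G)⁻¹ * x
            = (o : G) * ((sec (f o) : G)⁻¹ * x * sec (f o)) * (sec (f o) : G)⁻¹ := by group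
          _ = (o : G) * ((o : G)⁻¹ * x * o) * (sec (f o) : G)⁻¹ := by rw [h]
          _ = x * ((o : G) * (sec (f o) : G)⁻¹) := by group⟩)
    have hψ : Function.Injective ψ := by
      intro o o' h
      have h1 := congrArg Prod.fst h
      have h2 := congrArg (fun p : K x × Subgroup.centralizer ({x} : Set G) => (p.2 : G)) h
      simp only [ψ] at h1 h2
      rw [h1] at h2
      exact Subtype.ext (mul_right_cancel h2)
    calc Nat.card O ≤ Nat.card (K x × Subgroup.centralizer ({x} : Set G)) :=
          Nat.card_le_card_of_injective ψ hψ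
      _ = _ := Nat.card_prod _ _
  have hKmem : ∀ {x y : G}, y ∈ K x → x⁻¹ * y ∈ O ∧ (x * x = 1 → y * y = 1) := by
    rintro x y ⟨o, ho, rfl⟩
    refine ⟨?_, fun h => ?_⟩
    · have := O.mul_mem (Subgroup.Normal.conj_mem inferInstance _ (O.inv_mem ho) x⁻¹) ho
      simpa [mul_assoc] using this
    · calc o⁻¹ * x * o * (o⁻¹ * x * o) = o⁻¹ * (x * x) * o := by group
        _ = 1 := by rw [h]; group
  set Cc := Subgroup.centralizer ({c} : Set G) with hCc
  -- the pairs are controlled by a conjugate of `c` commuting with both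
  have key : ∀ p : K a × K b, ∃ y : K c, Commute (p.1 : G) y ∧ Commute (p.2 : G) y := by
    rintro ⟨⟨a', ha'K⟩, ⟨b', hb'K⟩⟩
    obtain ⟨haO, ha'⟩ := hKmem ha'K
    obtain ⟨hbO, hb'⟩ := hKmem hb'K
    replace ha' := ha' ha
    replace hb' := hb' hb
    set z := a' * b' with hz
    have hz1 : (z : G ⧸ O) = (c : G ⧸ O) := by
      rw [hz, hcdef, QuotientGroup.mk_mul, QuotientGroup.mk_mul,
        (QuotientGroup.eq.mpr haO).symm, (QuotientGroup.eq.mpr hbO).symm]
    have hzz : z * z ∈ O := by
      rw [← QuotientGroup.eq_one_iff, QuotientGroup.mk_mul, hz1, ← QuotientGroup.mk_mul, hc,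
        QuotientGroup.mk_one]
    obtain ⟨m, hm⟩ : Odd (orderOf (z * z)) := by
      refine hodd.of_dvd_nat ?_
      rw [← Subgroup.orderOf_mk _ hzz]
      exact orderOf_dvd_natCard _
    set c' := z ^ orderOf (z * z) with hc'
    have hc'2 : c' * c' = 1 := by
      rw [hc', ← (Commute.refl z).mul_pow, pow_orderOf_eq_one]
    have hc'1 : (c' : G ⧸ O) = (c : G ⧸ O) := by
      rw [hc', hm, pow_succ, pow_mul, pow_two, QuotientGroup.mk_mul, QuotientGroup.mk_pow,
        (QuotientGroup.eq_one_iff _).mpr hzz, one_pow, one_mul, hz1]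
    have hzinv : ∀ t : G, t * t = 1 → t * z * t⁻¹ = z⁻¹ → Commute t c' := by
      intro t _ ht
      have h := conj_pow (a := t) (b := z) (i := orderOf (z * z))
      rw [ht, inv_pow, ← hc', inv_eq_of_mul_eq_one_right hc'2] at h
      exact mul_inv_eq_iff_eq_mul.mp h.symm
    have hcoma : Commute a' c' := hzinv a' ha' (by
      rw [hz, mul_inv_rev, inv_eq_of_mul_eq_one_right ha', inv_eq_of_mul_eq_one_right hb',
        ← mul_assoc a' a' b', ha', one_mul])
    have hcomb : Commute b' c' := hzinv b' hb' (by
      rw [hz, mul_inv_rev, inv_eq_of_mul_eq_one_right ha', inv_eq_of_mul_eq_one_right hb',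
        mul_assoc, mul_assoc a' b' b', hb', mul_one])
    obtain ⟨h, hhO, hh⟩ := exists_conj_of_coset_involution O hodd
      (c := c) (o := c⁻¹ * c') (QuotientGroup.eq.mp hc'1.symm) hc (by simpa using hc'2)
    rw [mul_inv_cancel_left] at hh
    exact ⟨⟨c', h, hhO, hh⟩, hcoma, hcomb⟩
  choose y hya hyb using key
  -- representatives
  have hrep : ∀ w : K c, ∃ h : G, h ∈ O ∧ h⁻¹ * c * h = (w : G) := fun w => w.2
  choose rep hrepO hrepc using hrep
  -- transport to the centraliser of `c`
  have hmem : ∀ (w : K c) (x t : G), Commute x c → x⁻¹ * t ∈ O → Commute t (w : G) →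
      x⁻¹ * (rep w * t * (rep w)⁻¹) ∈ Cc := by
    intro w x t hx _ ht
    refine Cc.mul_mem (Cc.inv_mem (Subgroup.mem_centralizer_singleton_iff.mpr hx.eq)) ?_
    rw [hCc, Subgroup.mem_centralizer_singleton_iff]
    have h2 : c = rep w * w * (rep w)⁻¹ := by rw [← hrepc w]; group
    rw [h2]
    calc rep w * t * (rep w)⁻¹ * (rep w * w * (rep w)⁻¹) = rep w * (t * w) * (rep w)⁻¹ := by group
      _ = rep w * (w * t) * (rep w)⁻¹ := by rw [ht.eq]
      _ = rep w * w * (rep w)⁻¹ * (rep w * t * (rep w)⁻¹) := by group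
  let Φ : K a × K b → K c × (Cc × Cc) := fun p =>
    (y p, ⟨_, hmem (y p) a p.1 hac (hKmem p.1.2).1 (hya p)⟩,
      ⟨_, hmem (y p) b p.2 hbc (hKmem p.2.2).1 (hyb p)⟩)
  have hinj : Function.Injective Φ := by
    intro p q hpq
    simp only [Φ, Prod.mk.injEq, Subtype.mk.injEq] at hpq
    obtain ⟨h1, h2, h3⟩ := hpq
    rw [h1] at h2 h3
    refine Prod.ext (Subtype.ext ?_) (Subtype.ext ?_)
    · exact mul_left_cancel (mul_right_cancel (mul_left_cancel h2))
    · exact mul_left_cancel (mul_right_cancel (mul_left_cancel h3))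
  have hcard : Nat.card (K a) * Nat.card (K b) ≤ Nat.card (K c) * (Nat.card Cc * Nat.card Cc) := by
    rw [← Nat.card_prod, ← Nat.card_prod, ← Nat.card_prod]
    exact Nat.card_le_card_of_injective Φ hinj
  -- combine with the orbit bounds
  have hcO : Nat.card (K c) ≤ Nat.card O :=
    Nat.card_le_card_of_surjective (fun o : O => (⟨_, Set.mem_image_of_mem _ o.2⟩ : K c))
      fun w => by obtain ⟨o, ho, h⟩ := w.2; exact ⟨⟨o, ho⟩, Subtype.ext h⟩
  refine Nat.le_of_mul_le_mul_left ?_ (Nat.card_pos (α := O))
  calc Nat.card O * Nat.card O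
      ≤ (Nat.card (K a) * Nat.card (Subgroup.centralizer ({a} : Set G))) *
          (Nat.card (K b) * Nat.card (Subgroup.centralizer ({b} : Set G))) :=
        Nat.mul_le_mul (hK a) (hK b)
    _ = Nat.card (K a) * Nat.card (K b) * (Nat.card (Subgroup.centralizer ({a} : Set G)) *
          Nat.card (Subgroup.centralizer ({b} : Set G))) := by ring
    _ ≤ Nat.card O * (Nat.card Cc * Nat.card Cc) * (Nat.card (Subgroup.centralizer ({a} : Set G)) *
          Nat.card (Subgroup.centralizer ({b} : Set G))) :=
        Nat.mul_le_mul_right _ (hcard.trans (Nat.mul_le_mul_right _ hcO))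
    _ = _ := by rw [hCc, hcdef]; ring

/-- An involution with small centraliser acting nontrivially on a normal subgroup yields a
nontrivial element of that subgroup with a small class. -/
theorem exists_large_centralizer (R : Subgroup G) [R.Normal] {a : G} (ha : a * a = 1) {c : ℕ}
    (hc : Nat.card (Subgroup.centralizer ({a} : Set G)) ≤ c) (hR : c < Nat.card R) :
    ∃ y : R, y ≠ 1 ∧ Nat.card R ≤
      2 * (c * c) * Nat.card (Subgroup.centralizer ({y} : Set R)) := by
  classical
  haveI := Fintype.ofFinite R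
  have hainv : a⁻¹ = a := inv_eq_of_mul_eq_one_right ha
  -- the inverted elements
  set I : Finset R := Finset.univ.filter fun u : R => a * (u : G) * a = (u : G)⁻¹ with hI
  have hmI : Nat.card R ≤ I.card * c := by
    let f : R → I := fun r => ⟨⟨(r : G)⁻¹ * (a * r * a),
      R.mul_mem (R.inv_mem r.2) (by simpa [hainv] using Subgroup.Normal.conj_mem inferInstance _ r.2 a)⟩,
      Finset.mem_filter.mpr ⟨Finset.mem_univ _, by
        show a * ((r : G)⁻¹ * (a * r * a)) * a = ((r : G)⁻¹ * (a * r * a))⁻¹
        simp only [mul_inv_rev, inv_inv, hainv, mul_assoc, ha, mul_one]⟩⟩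
    choose! sec hsec using fun (u : I) (h : ∃ r, f r = u) => h
    let ψ : R → I × Subgroup.centralizer ({a} : Set G) := fun r =>
      (f r, ⟨(r : G) * (sec (f r) : G)⁻¹, by
        have h : ((sec (f r) : G)⁻¹ * (a * sec (f r) * a)) = (r : G)⁻¹ * (a * r * a) :=
          congrArg (fun u : I => ((u : R) : G)) (hsec (f r) ⟨r, rfl⟩)
        rw [← mul_assoc, ← mul_assoc, ← mul_assoc, ← mul_assoc] at h
        have h := mul_right_cancel h
        rw [Subgroup.mem_centralizer_singleton_iff]
        calc (r : G) * (sec (f r) : G)⁻¹ * a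
            = (r : G) * ((sec (f r) : G)⁻¹ * a * sec (f r)) * (sec (f r) : G)⁻¹ := by group
          _ = (r : G) * ((r : G)⁻¹ * a * r) * (sec (f r) : G)⁻¹ := by rw [h]
          _ = a * ((r : G) * (sec (f r) : G)⁻¹) := by group⟩)
    have hψ : Function.Injective ψ := by
      intro r r' h
      have h1 := congrArg Prod.fst h
      have h2 := congrArg
        (fun p : I × Subgroup.centralizer ({a} : Set G) => (p.2 : G)) h
      simp only [ψ] at h1 h2
      rw [h1] at h2
      exact Subtype.ext (mul_right_cancel h2)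
    calc Nat.card R ≤ Nat.card (I × Subgroup.centralizer ({a} : Set G)) :=
          Nat.card_le_card_of_injective ψ hψ
      _ ≤ I.card * c := by
          rw [Nat.card_prod, Nat.card_eq_fintype_card, Fintype.card_coe]
          exact Nat.mul_le_mul_left _ hc
  have hI2 : 2 ≤ I.card := by
    by_contra h
    have : I.card * c ≤ 1 * c := Nat.mul_le_mul_right _ (by omega)
    omega
  by_contra hne
  push Not at hne
  -- pairs of inverted elements by their quotient
  set cy : R → ℕ := fun y => Nat.card (Subgroup.centralizer ({y} : Set R)) with hcy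
  have hfib : ∀ y : R, ((I ×ˢ I).filter fun p => p.1⁻¹ * p.2 = y).card ≤ cy y := by
    intro y
    rcases (((I ×ˢ I).filter fun p => p.1⁻¹ * p.2 = y)).eq_empty_or_nonempty with h | ⟨p₀, hp₀⟩
    · simp [h]
    have hrel : ∀ p ∈ (I ×ˢ I).filter (fun p => p.1⁻¹ * p.2 = y),
        p.2 = p.1 * y ∧ a * ((y : R) : G) * a = (p.1 : G) * (y : G)⁻¹ * (p.1 : G)⁻¹ := by
      intro p hp
      simp only [Finset.mem_filter, Finset.mem_product, hI, Finset.mem_univ, true_and] at hp
      obtain ⟨⟨h1, h2⟩, h3⟩ := hp
      subst h3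
      refine ⟨by group, ?_⟩
      have e : a * ((p.1 : G)⁻¹ * (p.2 : G)) * a =
          (a * (p.1 : G) * a)⁻¹ * (a * (p.2 : G) * a) := by
        simp only [mul_inv_rev, hainv, mul_assoc]
        rw [← mul_assoc a a, ha, one_mul]
      rw [Subgroup.coe_mul, Subgroup.coe_inv, e, h1, h2]
      group
    obtain ⟨-, he₀⟩ := hrel p₀ hp₀
    let f : {p // p ∈ (I ×ˢ I).filter (fun p => p.1⁻¹ * p.2 = y)} →
        Subgroup.centralizer ({y} : Set R) := fun p => ⟨p₀.1⁻¹ * p.1.1, by
      rw [Subgroup.mem_centralizer_singleton_iff]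
      have he := (hrel p.1 p.2).2
      rw [he₀] at he
      apply Subtype.ext
      apply inv_injective
      simp only [Subgroup.coe_mul, Subgroup.coe_inv, mul_inv_rev, inv_inv]
      calc (y : G)⁻¹ * ((p.1.1 : G)⁻¹ * (p₀.1 : G))
          = (p.1.1 : G)⁻¹ * ((p.1.1 : G) * (y : G)⁻¹ * (p.1.1 : G)⁻¹) * (p₀.1 : G) := by group
        _ = (p.1.1 : G)⁻¹ * ((p₀.1 : G) * (y : G)⁻¹ * (p₀.1 : G)⁻¹) * (p₀.1 : G) := by rw [he]
        _ = (p.1.1 : G)⁻¹ * (p₀.1 : G) * (y : G)⁻¹ := by group⟩
    have hf : Function.Injective f := by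
      intro p q h
      have h1 : p.1.1 = q.1.1 := mul_left_cancel (congrArg Subtype.val h)
      refine Subtype.ext (Prod.ext h1 ?_)
      rw [(hrel p.1 p.2).1, (hrel q.1 q.2).1, h1]
    have := Nat.card_le_card_of_injective f hf
    rwa [Nat.card_eq_fintype_card, Fintype.card_coe] at this
  have hsum : I.card * I.card ≤ I.card + ∑ y ∈ Finset.univ.erase (1 : R), cy y := by
    rw [← Finset.card_product, Finset.card_eq_sum_card_fiberwise
      (f := fun p : R × R => p.1⁻¹ * p.2) (t := Finset.univ) (fun p _ => Finset.mem_univ _),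
      ← Finset.add_sum_erase _ _ (Finset.mem_univ (1 : R))]
    refine Nat.add_le_add ?_ (Finset.sum_le_sum fun y _ => hfib y)
    refine Finset.card_le_card_of_injOn Prod.fst (fun p hp => ?_) ?_
    · simp only [Finset.mem_coe, Finset.mem_filter, Finset.mem_product] at hp
      exact hp.1.1
    · intro p hp q hq h
      simp only [Finset.mem_coe, Finset.mem_filter, Finset.mem_product, inv_mul_eq_one] at hp hq
      exact Prod.ext h (hp.2 ▸ hq.2 ▸ h)
  have hlt : ∑ y ∈ Finset.univ.erase (1 : R), 2 * (c * c) * cy y ≤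
      ∑ y ∈ Finset.univ.erase (1 : R), (Nat.card R - 1) :=
    Finset.sum_le_sum fun y hy => Nat.le_sub_one_of_lt (hne y (Finset.ne_of_mem_erase hy))
  rw [← Finset.mul_sum, Finset.sum_const, smul_eq_mul,
    Finset.card_erase_of_mem (Finset.mem_univ _), Finset.card_univ, ← Nat.card_eq_fintype_card] at hlt
  obtain ⟨n, hn⟩ : ∃ n, Nat.card R = n + 1 := ⟨Nat.card R - 1, by omega⟩
  rw [hn, Nat.add_sub_cancel] at hlt
  nlinarith [Nat.mul_le_mul hmI hmI, Nat.mul_le_mul_left (c * c) hsum,
    Nat.mul_le_mul_left I.card hI2]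

/-- `FourLe G c n`: a four group with centralisers of order at most `c`, and `2`-exponent of the
order at most `n`. -/
def FourLe (G : Type u) [Group G] (c n : ℕ) : Prop :=
  (∃ a b : G, a * a = 1 ∧ b * b = 1 ∧ Commute a b ∧ a ≠ 1 ∧ b ≠ 1 ∧ a ≠ b ∧
    ∀ e ∈ ({a, b, a * b} : Set G), Nat.card (Subgroup.centralizer ({e} : Set G)) ≤ c) ∧
  (Nat.card G).factorization 2 ≤ n

/-- Bound for a minimal normal subgroup when there is no normal subgroup of odd order. -/
theorem card_minimal_normal_le (R : Subgroup G) [R.Normal] (hne : R ≠ ⊥)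
    (hmin : ∀ S : Subgroup G, S.Normal → S ≤ R → S = ⊥ ∨ S = R)
    (hO : ∀ S : Subgroup G, S.Normal → Odd (Nat.card S) → S = ⊥) {a : G} (ha : a * a = 1) {c n : ℕ}
    (hc : Nat.card (Subgroup.centralizer ({a} : Set G)) ≤ c)
    (hn : (Nat.card G).factorization 2 ≤ n) :
    Nat.card R ≤ c + 2 ^ n + ((2 * (c * c)).factorial) ^ n := by
  classical
  by_cases hcR : Nat.card R ≤ c
  · exact hcR.trans ((Nat.le_add_right _ _).trans (Nat.le_add_right _ _))
  push Not at hcR
  obtain ⟨y, hy1, hy⟩ := exists_large_centralizer R ha hc hcR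
  have hRn : (Nat.card R).factorization 2 ≤ n :=
    le_trans ((Nat.factorization_le_iff_dvd Nat.card_pos.ne' Nat.card_pos.ne').mpr
      R.card_subgroup_dvd_card 2) hn
  by_cases hz : y ∈ Subgroup.center R
  · -- then `R` is abelian, hence a `2`-group
    have hZ : ∀ u v : R, u * v = v * u := by
      have hN : ((Subgroup.center R).map R.subtype).Normal :=
        ConjAct.normal_of_characteristic_of_normal
      rcases hmin _ hN (Subgroup.map_subtype_le _) with h | h
      · exfalso
        exact hy1 (Subtype.ext (Subgroup.mem_bot.mp (h ▸ Subgroup.mem_map_of_mem _ hz)))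
      · intro u v
        have hu : (u : G) ∈ (Subgroup.center R).map R.subtype := h.symm ▸ u.2
        obtain ⟨u', hu', huu⟩ := hu
        rw [Subtype.coe_injective huu] at hu'
        exact (Subgroup.mem_center_iff.mp hu' v).symm
    have h2 : IsPGroup 2 R := by
      intro g
      let A : Subgroup G :=
        { carrier := {g : G | g ∈ R ∧ Odd (orderOf g)}
          one_mem' := ⟨R.one_mem, by rw [orderOf_one]; exact odd_one⟩
          mul_mem' := fun {u v} hu hv => ⟨R.mul_mem hu.1 hv.1, by
            have hcomm : Commute u v := congrArg Subtype.val (hZ ⟨u, hu.1⟩ ⟨v, hv.1⟩)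
            exact (hu.2.mul hv.2).of_dvd_nat hcomm.orderOf_mul_dvd_mul_orderOf⟩
          inv_mem' := fun {u} hu => ⟨R.inv_mem hu.1, by rw [orderOf_inv]; exact hu.2⟩ }
      have hAn : A.Normal := ⟨fun u hu g => ⟨Subgroup.Normal.conj_mem inferInstance _ hu.1 g, by
        rw [show g * u * g⁻¹ = MulAut.conj g u from rfl, MulEquiv.orderOf_eq]
        exact hu.2⟩⟩
      have hAodd : Odd (Nat.card A) := by
        rw [← Nat.not_even_iff_odd, even_iff_two_dvd]
        intro h
        haveI := Fact.mk Nat.prime_two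
        obtain ⟨w, hw⟩ := exists_prime_orderOf_dvd_card' 2 h
        have := w.2.2
        rw [Subgroup.orderOf_coe, hw] at this
        exact absurd this (by decide)
      obtain ⟨k, m, hm, hord⟩ := Nat.exists_eq_pow_mul_and_not_dvd
        (orderOf_pos g).ne' 2 (by norm_num)
      refine ⟨k, ?_⟩
      have hmem : ((g ^ 2 ^ k : R) : G) ∈ A := ⟨(g ^ 2 ^ k).2, by
        rw [Subgroup.orderOf_coe]
        refine (Nat.not_even_iff_odd.mp (even_iff_two_dvd.not.mpr hm)).of_dvd_nat
          (orderOf_dvd_of_pow_eq_one ?_)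
        rw [← pow_mul, ← hord, pow_orderOf_eq_one]⟩
      rw [hO A hAn hAodd, Subgroup.mem_bot] at hmem
      exact Subtype.ext hmem
    haveI := Fact.mk Nat.prime_two
    obtain ⟨k, hk⟩ := h2.exists_card_eq
    rw [hk, Nat.prime_two.factorization_pow, Finsupp.single_eq_same] at hRn
    rw [hk]
    exact (Nat.pow_le_pow_right (by norm_num) hRn).trans
      ((Nat.le_add_left _ _).trans (Nat.le_add_right _ _))
  -- a maximal normal subgroup of small index
  set Cy : Subgroup R := Subgroup.centralizer ({y} : Set R) with hCy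
  have hCyi : Cy.index ≤ 2 * (c * c) := by
    refine Nat.le_of_mul_le_mul_right ?_ (Nat.card_pos (α := Cy))
    rw [mul_comm, Subgroup.card_mul_index]
    exact hy
  set D : Subgroup R := Cy.normalCore with hD
  have hDi : D.index ≤ (2 * (c * c)).factorial := by
    rw [hD, Cy.normalCore_eq_ker, Subgroup.index_ker]
    refine le_trans (Subgroup.card_le_card_group _) ?_
    rw [Nat.card_perm]
    exact Nat.factorial_le (by rwa [← Subgroup.index_eq_card])
  have hDt : D ≠ ⊤ := by
    intro h
    refine hz (Subgroup.mem_center_iff.mpr fun g => ?_)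
    have : g ∈ Cy := Cy.normalCore_le (show g ∈ D by rw [h]; exact Subgroup.mem_top g)
    exact Subgroup.mem_centralizer_singleton_iff.mp this
  haveI := Fintype.ofFinite (Subgroup R)
  obtain ⟨C, hC, hCmax⟩ := Finset.exists_max_image
    (Finset.univ.filter fun C : Subgroup R => C.Normal ∧ D ≤ C ∧ C ≠ ⊤) (fun C => Nat.card C)
    ⟨D, Finset.mem_filter.mpr ⟨Finset.mem_univ _, Cy.normalCore_normal, le_refl _, hDt⟩⟩
  simp only [Finset.mem_filter, Finset.mem_univ, true_and] at hC hCmax
  obtain ⟨hCn, hDC, hCt⟩ := hC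
  set q := C.index with hq
  have hqle : q ≤ (2 * (c * c)).factorial :=
    le_trans (Nat.le_of_dvd (Nat.pos_of_ne_zero Subgroup.index_ne_zero_of_finite)
      (Subgroup.index_dvd_of_le hDC)) hDi
  -- the conjugates of `C` under `G`
  let Cg : G → Subgroup R := fun g => C.map (MulAut.conjNormal g : MulAut R).toMonoidHom
  have hCgn : ∀ g, (Cg g).Normal := fun g =>
    hCn.map _ (MulAut.conjNormal g : MulAut R).surjective
  have hCgmax : ∀ g, ∀ K : Subgroup R, K.Normal → ¬ K ≤ Cg g → K ⊔ Cg g = ⊤ := by
    intro g K hK hKC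
    haveI := hCgn g
    haveI := hK
    by_contra hne
    set L := (K ⊔ Cg g).comap (MulAut.conjNormal g : MulAut R).toMonoidHom with hL
    have hLt : L ≠ ⊤ := by
      intro h
      apply hne
      rw [← Subgroup.map_comap_eq_self_of_surjective
        (f := (MulAut.conjNormal g : MulAut R).toMonoidHom)
        (MulAut.conjNormal g : MulAut R).surjective (K ⊔ Cg g), ← hL, h]
      exact Subgroup.map_top_of_surjective _ (MulAut.conjNormal g : MulAut R).surjective
    have hCL : C ≤ L := Subgroup.map_le_iff_le_comap.mp le_sup_right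
    have hle := hCmax L ⟨(inferInstance : (K ⊔ Cg g).Normal).comap _, hDC.trans hCL, hLt⟩
    have heq : C = L := Subgroup.eq_of_le_of_card_ge hCL hle
    apply hKC
    calc K ≤ K ⊔ Cg g := le_sup_left
      _ = Cg g := by
        rw [← Subgroup.map_comap_eq_self_of_surjective
          (f := (MulAut.conjNormal g : MulAut R).toMonoidHom)
          (MulAut.conjNormal g : MulAut R).surjective (K ⊔ Cg g), ← hL, ← heq]
  have hCgi : ∀ g, (Cg g).index = q := fun g =>
    Subgroup.index_map_of_bijective (MulAut.conjNormal g : MulAut R).bijective C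
  have hcap : ∀ K : Subgroup R, K ≠ ⊥ → ∃ g, ¬ K ≤ Cg g := by
    intro K hK
    by_contra h
    push Not at h
    apply hK
    set J : Subgroup G := (⨅ g, Cg g).map R.subtype with hJ
    have hJn : J.Normal := by
      refine ⟨fun u hu h' => ?_⟩
      obtain ⟨w, hw, rfl⟩ := hu
      refine ⟨MulAut.conjNormal h' w, ?_, MulAut.conjNormal_apply h' w⟩
      rw [SetLike.mem_coe, Subgroup.mem_iInf] at hw ⊢
      intro g
      obtain ⟨v, hv, hvw⟩ := hw (h'⁻¹ * g)
      refine ⟨v, hv, ?_⟩
      rw [← hvw]
      simp [map_mul, map_inv]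
    rcases hmin J hJn (Subgroup.map_subtype_le _) with h0 | h0
    · rw [hJ, Subgroup.map_eq_bot_iff_of_injective _ R.subtype_injective] at h0
      exact eq_bot_iff.mpr (h0 ▸ le_iInf h)
    · exfalso
      apply hCt
      rw [eq_top_iff]
      intro w _
      have hw : (w : G) ∈ J := h0.symm ▸ w.2
      obtain ⟨w', hw', hww⟩ := hw
      rw [Subtype.coe_injective hww] at hw'
      obtain ⟨v, hv, hvw⟩ := Subgroup.mem_iInf.mp hw' 1
      rw [MulEquiv.coe_toMonoidHom, map_one, MulAut.one_apply] at hvw
      exact hvw ▸ hv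
  have hpow : ∀ d : ℕ, ∀ K : Subgroup R, K.Normal → Nat.card K ≤ d →
      ∃ j, Nat.card K = q ^ j := by
    intro d
    induction d with
    | zero =>
      intro K _ h
      exact absurd h (by have := Nat.card_pos (α := K); omega)
    | succ d ih =>
      intro K hKn hKd
      by_cases hK : K = ⊥
      · exact ⟨0, by simp [hK]⟩
      obtain ⟨g, hg⟩ := hcap K hK
      haveI := hCgn g
      have hri : (Cg g).relIndex K = q := by
        rw [← Subgroup.relIndex_sup_right K (Cg g), hCgmax g K hKn hg, Subgroup.relIndex_top_right,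
          hCgi]
      have hmul : Nat.card (K ⊓ Cg g : Subgroup R) * q = Nat.card K := by
        rw [← hri, ← Subgroup.inf_relIndex_left]
        have := Subgroup.relIndex_mul_relIndex ⊥ (K ⊓ Cg g) K bot_le inf_le_left
        rwa [Subgroup.relIndex_bot_left, Subgroup.relIndex_bot_left] at this
      have hlt : Nat.card (K ⊓ Cg g : Subgroup R) < Nat.card K := by
        refine Nat.lt_of_le_of_ne (Subgroup.card_le_of_le inf_le_left) fun h => hg ?_
        rw [← Subgroup.eq_of_le_of_card_ge inf_le_left h.ge]
        exact inf_le_right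
      haveI := hKn
      obtain ⟨j, hj⟩ := ih (K ⊓ Cg g) inferInstance (by omega)
      exact ⟨j + 1, by rw [pow_succ, ← hj, hmul]⟩
  obtain ⟨j, hj⟩ := hpow _ (⊤ : Subgroup R) inferInstance le_rfl
  rw [Subgroup.card_top] at hj
  have hR2 : 2 ∣ Nat.card R := by
    rw [← even_iff_two_dvd, ← Nat.not_odd_iff_even]
    exact fun h => hne (hO R inferInstance h)
  have hq2 : 2 ∣ q := Nat.prime_two.dvd_of_dvd_pow (hj ▸ hR2)
  have hjn : j ≤ n := by
    have h1 : 2 ^ j ∣ Nat.card R := hj ▸ pow_dvd_pow_of_dvd hq2 j
    exact le_trans ((Nat.prime_two.pow_dvd_iff_le_factorization Nat.card_pos.ne').mp h1) hRn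
  rw [hj]
  exact ((Nat.pow_le_pow_left hqle j).trans
    (Nat.pow_le_pow_right (Nat.factorial_pos (2 * (c * c))) hjn)).trans (Nat.le_add_left _ _)

theorem FourLe.quotient {c n n' : ℕ} (R : Subgroup G) [R.Normal] {a b : G} (ha : a * a = 1)
    (hb : b * b = 1) (hab : Commute a b)
    (hc : ∀ e ∈ ({a, b, a * b} : Set G), Nat.card (Subgroup.centralizer ({e} : Set G)) ≤ c)
    (h : ∀ e ∈ ({a, b, a * b} : Set G), e ∉ R) (_hn : (Nat.card G).factorization 2 ≤ n)
    (hn' : (Nat.card (G ⧸ R)).factorization 2 ≤ n') :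
    FourLe (G ⧸ R) c n' := by
  refine ⟨⟨QuotientGroup.mk' R a, QuotientGroup.mk' R b, ?_, ?_, hab.map _, ?_, ?_, ?_, ?_⟩, hn'⟩
  · rw [← map_mul, ha, map_one]
  · rw [← map_mul, hb, map_one]
  · exact fun e => h a (by simp) ((QuotientGroup.eq_one_iff a).mp e)
  · exact fun e => h b (by simp) ((QuotientGroup.eq_one_iff b).mp e)
  · intro e
    refine h (a * b) (by simp) ((QuotientGroup.eq_one_iff _).mp ?_)
    have : QuotientGroup.mk' R (a * b) = 1 := by rw [map_mul, e, ← map_mul, hb, map_one]
    exact this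
  · intro e he
    simp only [Set.mem_insert_iff, Set.mem_singleton_iff] at he
    rcases he with rfl | rfl | rfl
    · exact le_trans (card_centralizer_mk_le R a) (hc a (by simp))
    · exact le_trans (card_centralizer_mk_le R b) (hc b (by simp))
    · rw [← map_mul]; exact le_trans (card_centralizer_mk_le R (a * b)) (hc _ (by simp))

/-- A finite group with a four group is bounded in terms of the involution centralisers of the
four group and the exponent of two. -/
theorem exists_card_le_of_four (c : ℕ) :
    ∀ n : ℕ, ∃ N : ℕ, ∀ (G : Type u) [Group G] [Finite G], FourLe G c n → Nat.card G ≤ N := by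
  classical
  intro n
  induction n with
  | zero =>
    refine ⟨0, fun G _ _ h => ?_⟩
    obtain ⟨⟨a, b, ha, -, -, ha1, -⟩, hn⟩ := h
    exfalso
    have h2 : 2 ∣ Nat.card G := by
      rw [← orderOf_eq_prime (p := 2) (by rw [pow_two, ha]) ha1]
      exact orderOf_dvd_natCard a
    have := Nat.prime_two.factorization_pos_of_dvd Nat.card_pos.ne' h2
    omega
  | succ n ih =>
    obtain ⟨N, hN⟩ := ih
    set B := c + 2 ^ (n + 1) + ((2 * (c * c)).factorial) ^ (n + 1) with hB
    refine ⟨c * c * (c * c) * (B * (c + N)), fun G _ _ h => ?_⟩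
    obtain ⟨⟨a, b, ha, hb, hab, ha1, hb1, hne, hc⟩, hn⟩ := h
    haveI := Fintype.ofFinite (Subgroup G)
    -- the largest normal subgroup of odd order
    obtain ⟨O, hO, hOmax⟩ := Finset.exists_max_image
      (Finset.univ.filter fun O : Subgroup G => O.Normal ∧ Odd (Nat.card O)) (fun O => Nat.card O)
      ⟨⊥, Finset.mem_filter.mpr ⟨Finset.mem_univ _, inferInstance, by
        rw [Subgroup.card_bot]; exact odd_one⟩⟩
    simp only [Finset.mem_filter, Finset.mem_univ, true_and] at hO hOmax
    obtain ⟨hOn, hOodd⟩ := hO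
    haveI := hOn
    have hOle : Nat.card O ≤ c * c * (c * c) :=
      le_trans (card_odd_le_mul O hOodd ha hb hab)
        (Nat.mul_le_mul (Nat.mul_le_mul (hc a (by simp)) (hc b (by simp)))
          (Nat.mul_le_mul (hc _ (by simp)) (hc _ (by simp))))
    have hnot : ∀ e ∈ ({a, b, a * b} : Set G), e ∉ O := by
      intro e he heO
      have he2 : orderOf e = 2 := by
        simp only [Set.mem_insert_iff, Set.mem_singleton_iff] at he
        rcases he with rfl | rfl | rfl
        · exact orderOf_eq_prime (by rw [pow_two, ha]) ha1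
        · exact orderOf_eq_prime (by rw [pow_two, hb]) hb1
        · refine orderOf_eq_prime (by rw [pow_two, hab.symm.mul_mul_mul_comm, ha, hb, one_mul]) ?_
          exact fun h => hne (by rw [mul_eq_one_iff_eq_inv.mp h, inv_eq_of_mul_eq_one_right hb])
      have := hOodd.of_dvd_nat (he2 ▸ (Subgroup.orderOf_mk e heO ▸ orderOf_dvd_natCard (⟨e, heO⟩ : O)))
      exact absurd this (by decide)
    have hn1 : (Nat.card (G ⧸ O)).factorization 2 ≤ n + 1 :=
      le_trans ((Nat.factorization_le_iff_dvd Nat.card_pos.ne' Nat.card_pos.ne').mpr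
        O.card_quotient_dvd_card 2) hn
    obtain ⟨⟨a', b', ha', hb', hab', ha1', hb1', hne', hc'⟩, hn'⟩ :=
      FourLe.quotient O ha hb hab hc hnot hn hn1
    -- no normal subgroup of odd order in the quotient
    have hQ : ∀ S : Subgroup (G ⧸ O), S.Normal → Odd (Nat.card S) → S = ⊥ := by
      intro S hS hSodd
      haveI := hS
      set S' := S.comap (QuotientGroup.mk' O) with hS'
      have hOS : O ≤ S' := fun o ho => by
        rw [hS', Subgroup.mem_comap, QuotientGroup.mk'_apply, (QuotientGroup.eq_one_iff o).mpr ho]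
        exact S.one_mem
      have hcard : Nat.card S' = Nat.card O * Nat.card S := by
        refine Nat.eq_of_mul_eq_mul_right (Nat.pos_of_ne_zero
          (Subgroup.index_ne_zero_of_finite (H := S'))) ?_
        rw [Subgroup.card_mul_index, hS', Subgroup.index_comap_of_surjective _
          (QuotientGroup.mk'_surjective O), mul_assoc, Subgroup.card_mul_index,
          ← Subgroup.index_eq_card, Subgroup.card_mul_index]
      have hle := hOmax S' ⟨hS.comap _, hcard ▸ hOodd.mul hSodd⟩
      have h1 : Nat.card S = 1 := by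
        have h2 : Nat.card O * Nat.card S ≤ Nat.card O * 1 := by rw [mul_one, ← hcard]; exact hle
        exact le_antisymm (Nat.le_of_mul_le_mul_left h2 Nat.card_pos) Nat.card_pos
      exact Subgroup.card_eq_one.mp h1
    suffices hmain : Nat.card (G ⧸ O) ≤ B * (c + N) by
      rw [← O.card_mul_index, Subgroup.index_eq_card]
      exact Nat.mul_le_mul hOle hmain
    haveI := Fintype.ofFinite (Subgroup (G ⧸ O))
    obtain ⟨R, hR, hRmin⟩ := Finset.exists_min_image
      (Finset.univ.filter fun R : Subgroup (G ⧸ O) => R.Normal ∧ R ≠ ⊥) (fun R => Nat.card R)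
      ⟨⊤, Finset.mem_filter.mpr ⟨Finset.mem_univ _, inferInstance, fun h => ha1'
        (Subgroup.mem_bot.mp (h ▸ Subgroup.mem_top a'))⟩⟩
    simp only [Finset.mem_filter, Finset.mem_univ, true_and] at hR hRmin
    obtain ⟨hRn, hRne⟩ := hR
    haveI := hRn
    have hRle : Nat.card R ≤ B := by
      refine card_minimal_normal_le R hRne (fun S hS hSR => ?_) hQ ha' (hc' a' (by simp)) hn'
      by_cases h : S = ⊥
      · exact Or.inl h
      · exact Or.inr (Subgroup.eq_of_le_of_card_ge hSR (hRmin S ⟨hS, h⟩))
    by_cases hmeet : ∀ e ∈ ({a', b', a' * b'} : Set (G ⧸ O)), e ∉ R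
    · -- recursion
      have hR2 : 2 ∣ Nat.card R := by
        rw [← even_iff_two_dvd, ← Nat.not_odd_iff_even]
        exact fun h => hRne (hQ R hRn h)
      have hfac : (Nat.card ((G ⧸ O) ⧸ R)).factorization 2 ≤ n := by
        have h1 := congrArg (fun m => m.factorization 2) R.card_mul_index
        simp only [Subgroup.index_eq_card] at h1
        rw [Nat.factorization_mul Nat.card_pos.ne' Nat.card_pos.ne', Finsupp.add_apply] at h1
        have := Nat.prime_two.factorization_pos_of_dvd Nat.card_pos.ne' hR2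
        omega
      have h2 := hN ((G ⧸ O) ⧸ R) (FourLe.quotient R ha' hb' hab' hc' hmeet hn' hfac)
      rw [← R.card_mul_index, Subgroup.index_eq_card]
      exact Nat.mul_le_mul hRle (le_trans h2 (Nat.le_add_left _ _))
    · push Not at hmeet
      obtain ⟨e, he, heR⟩ := hmeet
      have hclass : Nat.card (G ⧸ O) ≤
          Nat.card R * Nat.card (Subgroup.centralizer ({e} : Set (G ⧸ O))) := by
        set C := Subgroup.centralizer ({e} : Set (G ⧸ O)) with hC
        rw [← C.card_mul_index, mul_comm]
        refine Nat.mul_le_mul_right _ ?_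
        rw [Subgroup.index_eq_card]
        refine Nat.card_le_card_of_injective (fun q => Quotient.liftOn' q
          (fun g => (⟨g * e * g⁻¹, hRn.conj_mem e heR g⟩ : R)) ?_) ?_
        · intro g g' h
          rw [QuotientGroup.leftRel_apply, hC, Subgroup.mem_centralizer_singleton_iff] at h
          apply Subtype.ext
          calc g * e * g⁻¹ = g * (e * (g⁻¹ * g')) * g'⁻¹ := by group
            _ = g * ((g⁻¹ * g') * e) * g'⁻¹ := by rw [h]
            _ = g' * e * g'⁻¹ := by group
        · intro q q' h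
          induction q using Quotient.inductionOn' with
          | h g =>
            induction q' using Quotient.inductionOn' with
            | h g' =>
              apply Quotient.sound'
              rw [QuotientGroup.leftRel_apply, hC, Subgroup.mem_centralizer_singleton_iff]
              have h' : g * e * g⁻¹ = g' * e * g'⁻¹ := congrArg Subtype.val h
              calc g⁻¹ * g' * e = g⁻¹ * (g' * e * g'⁻¹) * g' := by group
                _ = g⁻¹ * (g * e * g⁻¹) * g' := by rw [h']
                _ = e * (g⁻¹ * g') := by group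
      exact le_trans hclass (Nat.mul_le_mul hRle (le_trans (hc' e he) (Nat.le_add_right _ _)))

end H11
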