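import Mathlib

/-!
Preliminaries for Theorem B of Hall and Higman: polynomial identities in characteristic `p`,
restriction of a representation to the stabiliser of a subspace and to the quotient.
-/

set_option autoImplicit false

namespace H11.HB

universe u v w

open Finset

theorem geom_sum_eq_sub_one_pow {K R : Type*} [Field K] [Ring R] [Algebra K R] (p : ℕ)
    [Fact p.Prime] [CharP K p] (a : R) (k : ℕ) :
    ∑ i ∈ range (p ^ k), a ^ i = (a - 1) ^ (p ^ k - 1) := by
  have hN : 1 ≤ p ^ k := Nat.one_le_pow _ _ (Fact.out : p.Prime).pos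
  have h : (∑ i ∈ range (p ^ k), (Polynomial.X : Polynomial K) ^ i) =
      (Polynomial.X - 1) ^ (p ^ k - 1) := by
    refine mul_right_cancel₀ (b := (Polynomial.X - 1 : Polynomial K)) ?_ ?_
    · simpa using Polynomial.X_sub_C_ne_zero (1 : K)
    · rw [geom_sum_mul, ← pow_succ, Nat.sub_add_cancel hN, sub_pow_char_pow, one_pow]
  simpa [map_sum] using congrArg (Polynomial.aeval a) h

theorem sub_one_pow_eq {K R : Type*} [Field K] [Ring R] [Algebra K R] (p : ℕ)
    [Fact p.Prime] [CharP K p] (a : R) (k : ℕ) : (a - 1) ^ (p ^ k) = a ^ (p ^ k) - 1 := by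
  have hN : 1 ≤ p ^ k := Nat.one_le_pow _ _ (Fact.out : p.Prime).pos
  rw [← geom_sum_mul, geom_sum_eq_sub_one_pow (K := K), ← pow_succ, Nat.sub_add_cancel hN]

theorem eq_one_of_sub_one_sq {K R : Type*} [Field K] [Ring R] [Algebra K R] {f : R} {k : ℕ}
    (hk : (k : K) ≠ 0) (hf : f ^ k = 1) (h2 : (f - 1) * (f - 1) = 0) : f = 1 := by
  have key : ∀ i : ℕ, f ^ i = 1 + (i : K) • (f - 1) := by
    intro i
    induction i with
    | zero => simp
    | succ i ih =>
      have hff : (f - 1) * f = f - 1 := by
        have : (f - 1) * (f - 1) = (f - 1) * f - (f - 1) := by rw [mul_sub, mul_one]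
        rw [h2] at this
        exact (sub_eq_zero.mp this.symm)
      rw [pow_succ, ih, add_mul, one_mul, smul_mul_assoc, hff, Nat.cast_succ, add_smul, one_smul]
      abel
  have h := key k
  rw [hf] at h
  have h0 : (k : K) • (f - 1) = 0 := by
    have := h.symm
    rwa [add_eq_left] at this
  exact sub_eq_zero.mp ((smul_eq_zero.mp h0).resolve_left hk)

variable {G : Type u} [Group G] {K : Type v} [Field K] {V : Type w} [AddCommGroup V] [Module K V]

theorem rep_inv_mem [Finite G] (ρ : G →* Module.End K V) {W : Submodule K V} {g : G}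
    (hg : ∀ v ∈ W, ρ g v ∈ W) : ∀ v ∈ W, ρ g⁻¹ v ∈ W := by
  have key : ∀ i : ℕ, ∀ v ∈ W, ρ (g ^ i) v ∈ W := by
    intro i
    induction i with
    | zero => intro v hv; simpa using hv
    | succ i ih => intro v hv; rw [pow_succ, map_mul]; exact ih _ (hg v hv)
  intro v hv
  have hord : g⁻¹ = g ^ (orderOf g - 1) := by
    rw [inv_eq_iff_mul_eq_one, ← pow_succ',
      Nat.sub_add_cancel (orderOf_pos g), pow_orderOf_eq_one]
  rw [hord]
  exact key _ v hv

/-- The stabiliser of a subspace. -/
def stab [Finite G] (ρ : G →* Module.End K V) (W : Submodule K V) : Subgroup G where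
  carrier := {g | ∀ v ∈ W, ρ g v ∈ W}
  one_mem' := by intro v hv; simpa using hv
  mul_mem' := by
    intro a b ha hb v hv
    rw [map_mul]
    exact ha _ (hb v hv)
  inv_mem' := by
    intro a ha
    exact rep_inv_mem ρ ha

theorem mem_stab [Finite G] {ρ : G →* Module.End K V} {W : Submodule K V} {g : G} :
    g ∈ stab ρ W ↔ ∀ v ∈ W, ρ g v ∈ W := Iff.rfl

/-- The representation of the stabiliser of `W` on `W`. -/
def restrictRep [Finite G] (ρ : G →* Module.End K V) (W : Submodule K V) :
    ↥(stab ρ W) →* Module.End K W where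
  toFun g := (ρ g.1).restrict g.2
  map_one' := by
    ext v
    simp
  map_mul' a b := by
    apply LinearMap.ext
    intro v
    apply Subtype.ext
    show ρ (a.1 * b.1) (v : V) = ρ a.1 (ρ b.1 (v : V))
    rw [map_mul]
    rfl

@[simp] theorem coe_restrictRep [Finite G] (ρ : G →* Module.End K V) (W : Submodule K V)
    (g : ↥(stab ρ W)) (v : W) : (restrictRep ρ W g v : V) = ρ g.1 v := rfl

/-- The representation of the stabiliser of `W` on the quotient by `W`. -/
def quotRep [Finite G] (ρ : G →* Module.End K V) (W : Submodule K V) :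
    ↥(stab ρ W) →* Module.End K (V ⧸ W) where
  toFun g := W.mapQ W (ρ g.1) g.2
  map_one' := by
    ext v
    simp
  map_mul' a b := by
    apply Submodule.linearMap_qext
    apply LinearMap.ext
    intro v
    show Submodule.Quotient.mk (ρ (a.1 * b.1) v) = Submodule.Quotient.mk (ρ a.1 (ρ b.1 v))
    rw [map_mul]
    rfl

@[simp] theorem quotRep_mk [Finite G] (ρ : G →* Module.End K V) (W : Submodule K V)
    (g : ↥(stab ρ W)) (v : V) :
    quotRep ρ W g (Submodule.Quotient.mk v) = Submodule.Quotient.mk (ρ g.1 v) := rfl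

theorem restrict_sub_one_pow [Finite G] (ρ : G →* Module.End K V) (W : Submodule K V)
    (g : ↥(stab ρ W)) (j : ℕ) (v : W) :
    (((restrictRep ρ W g - 1) ^ j) v : V) = ((ρ g.1 - 1) ^ j) (v : V) := by
  induction j generalizing v with
  | zero => simp
  | succ j ih =>
    rw [pow_succ, pow_succ, Module.End.mul_apply, Module.End.mul_apply, ih]
    simp

theorem quot_sub_one_pow [Finite G] (ρ : G →* Module.End K V) (W : Submodule K V)
    (g : ↥(stab ρ W)) (j : ℕ) (v : V) :
    ((quotRep ρ W g - 1) ^ j) (Submodule.Quotient.mk v) =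
      Submodule.Quotient.mk (((ρ g.1 - 1) ^ j) v) := by
  induction j generalizing v with
  | zero => simp
  | succ j ih =>
    rw [pow_succ, pow_succ, Module.End.mul_apply, Module.End.mul_apply]
    rw [show (quotRep ρ W g - 1) (Submodule.Quotient.mk v) =
      Submodule.Quotient.mk ((ρ g.1 - 1) v) by simp, ih]

end H11.HB
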