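import Cfsg.Agent.H11.HallHigmanStep

/-!
The absolutely irreducible case of Theorem B of Hall and Higman, and the induction.
-/

set_option autoImplicit false
set_option linter.style.haveILetI false

namespace H11.HB

universe u v w

open Finset
open scoped commutatorElement

variable {G : Type u} [Group G] {K : Type v} [Field K] {V : Type w} [AddCommGroup V] [Module K V]

theorem exists_left_factor {R : Type*} [Ring R] [Algebra K R] (p : ℕ) [Fact p.Prime] [CharP K p]
    {A A' : R} (hAA : A * A' = 1) (hA'A : A' * A = 1) (n r a : ℕ) (hra : r + a = p ^ n)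
    (hr : (A - 1) ^ r = 0) (f : R) :
    ∃ y, ∑ i ∈ range (p ^ n), A ^ i * f * A' ^ i = (A - 1) ^ a * y := by
  set M := p ^ n - 1 with hM
  have hcA : Commute A A' := hAA.trans hA'A.symm
  set T : Module.End K R := LinearMap.mulLeft K A * LinearMap.mulRight K A' with hT
  have hTi : ∀ i : ℕ, (T ^ i) f = A ^ i * f * A' ^ i := by
    intro i
    rw [hT, (LinearMap.commute_mulLeft_right A A').mul_pow, LinearMap.pow_mulLeft,
      LinearMap.pow_mulRight]
    simp [mul_assoc]
  set S : Module.End K R := (LinearMap.mulLeft K (A - 1) : Module.End K R) +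
    -(LinearMap.mulRight K (A - 1) : Module.End K R) with hS
  have hTS : T - 1 = S * LinearMap.mulRight K A' := by
    apply LinearMap.ext
    intro z
    simp [hT, hS, mul_sub, sub_mul, mul_assoc, hA'A]
  have hc1 : Commute S (LinearMap.mulRight K A') := by
    apply LinearMap.ext
    intro z
    simp only [hS, Module.End.mul_apply, LinearMap.mulRight_apply, LinearMap.add_apply,
      LinearMap.neg_apply, LinearMap.mulLeft_apply, mul_assoc, add_mul, neg_mul]
    rw [((hcA.sub_left (Commute.one_left A')).eq)]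
  have hsum : ∑ i ∈ range (p ^ n), A ^ i * f * A' ^ i = (S ^ M) (f * A' ^ M) := by
    simp only [← hTi]
    rw [← LinearMap.sum_apply, geom_sum_eq_sub_one_pow (K := K) p T n, hTS, hc1.mul_pow,
      Module.End.mul_apply, LinearMap.pow_mulRight]
    rfl
  have hmem : (S ^ M) (f * A' ^ M) ∈ LinearMap.range (LinearMap.mulLeft K ((A - 1) ^ a)) := by
    have hcl : Commute (LinearMap.mulLeft K (A - 1) : Module.End K R)
        (-(LinearMap.mulRight K (A - 1) : Module.End K R)) :=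
      Commute.neg_right (LinearMap.commute_mulLeft_right (R := K) (A - 1) (A - 1))
    rw [hS, hcl.add_pow, LinearMap.sum_apply]
    refine Submodule.sum_mem _ fun m hm => ?_
    rw [Module.End.mul_apply, Module.End.mul_apply, LinearMap.pow_mulLeft, LinearMap.mulLeft_apply]
    by_cases hj : a ≤ m
    · refine ⟨(A - 1) ^ (m - a) *
        ((-(LinearMap.mulRight K (A - 1) : Module.End K R)) ^ (M - m))
          ((M.choose m : Module.End K R) (f * A' ^ M)), ?_⟩
      rw [LinearMap.mulLeft_apply, ← mul_assoc, ← pow_add, Nat.add_sub_cancel' hj]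
    · have h0 : (A - 1) ^ (M - m) = 0 := pow_eq_zero_of_le (by omega) hr
      have hneg : -(LinearMap.mulRight K (A - 1) : Module.End K R) =
          LinearMap.mulRight K (-(A - 1)) := by
        apply LinearMap.ext
        intro z
        exact (mul_neg z (A - 1)).symm
      rw [hneg, LinearMap.pow_mulRight, neg_pow, h0]
      simp
  obtain ⟨y, hy⟩ := hmem
  exact ⟨y, hsum.trans hy.symm⟩

theorem dim_eq_of_left_factor [FiniteDimensional K V] (D : Module.End K V) (M : ℕ)
    (hM : (M : K) = -1) (hDM : D ^ M = 0) (hDM1 : D ^ (M - 1) ≠ 0)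
    (hg : ∀ g : Module.End K V, Commute g D → LinearMap.trace K V g = 0 → ∃ y, g = D * y) :
    Module.finrank K V = M := by
  have hMpos : 1 ≤ M := by
    rcases Nat.eq_zero_or_pos M with h | h
    · subst h; simp at hM
    · exact h
  obtain ⟨v, hv⟩ := DFunLike.ne_iff.mp hDM1
  rw [LinearMap.zero_apply] at hv
  obtain ⟨ℓ, hℓ⟩ := Module.Projective.exists_dual_ne_zero (R := K) hv
  let Φ : V →ₗ[K] (Fin M → K) := LinearMap.pi fun i : Fin M => ℓ ∘ₗ (D ^ (i : ℕ))
  let Ψ : (Fin M → K) →ₗ[K] V :=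
    ∑ j : Fin M, (LinearMap.proj j : (Fin M → K) →ₗ[K] K).smulRight ((D ^ (j : ℕ)) v)
  have hΨa : ∀ a, Ψ a = ∑ j : Fin M, a j • (D ^ (j : ℕ)) v := by
    intro a; simp [Ψ]
  have hΦD : ∀ u, ∀ i : Fin M, Φ u i = ℓ ((D ^ (i : ℕ)) u) := fun u i => rfl
  have hDbig : ∀ k, M ≤ k → ∀ u, (D ^ k) u = 0 := fun k hk u => by
    rw [pow_eq_zero_of_le hk hDM, LinearMap.zero_apply]
  have hinj : Function.Injective (Φ ∘ₗ Ψ) := by
    rw [← LinearMap.ker_eq_bot, LinearMap.ker_eq_bot']
    intro a ha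
    by_contra hne
    have hex : ∃ j : ℕ, ∃ h : j < M, a ⟨j, h⟩ ≠ 0 := by
      obtain ⟨j, hj⟩ := Function.ne_iff.mp hne
      exact ⟨j, j.2, hj⟩
    classical
    obtain ⟨hj, hne0⟩ := Nat.find_spec hex
    set j := Nat.find hex
    have := congrFun ha ⟨M - 1 - j, by omega⟩
    rw [LinearMap.comp_apply, hΦD, hΨa, map_sum, map_sum, Pi.zero_apply,
      Finset.sum_eq_single ⟨j, hj⟩] at this
    · simp only [map_smul, smul_eq_mul] at this
      rw [← Module.End.mul_apply, ← pow_add, show M - 1 - j + j = M - 1 by omega] at this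
      exact (mul_ne_zero hne0 hℓ) this
    · intro k _ hk
      simp only [map_smul, smul_eq_mul]
      by_cases hkj : (k : ℕ) < j
      · have := Nat.find_min hex hkj
        push Not at this
        rw [this k.2, zero_mul]
      · have hkj' : j < (k : ℕ) :=
          lt_of_le_of_ne (not_lt.mp hkj) fun h => hk (Fin.ext h.symm)
        rw [← Module.End.mul_apply, ← pow_add, hDbig _ (by omega), map_zero, mul_zero]
    · simp
  let e := LinearEquiv.ofBijective (Φ ∘ₗ Ψ) ⟨hinj, LinearMap.injective_iff_surjective.mp hinj⟩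
  set π : Module.End K V := Ψ ∘ₗ e.symm.toLinearMap ∘ₗ Φ with hπ
  have hΦπ : ∀ u, Φ (π u) = Φ u := fun u => e.apply_symm_apply (Φ u)
  have hπΨ : ∀ a, π (Ψ a) = Ψ a := fun a => congrArg Ψ (e.symm_apply_apply a)
  have hπ0 : ∀ u, Φ u = 0 → π u = 0 := fun u h => by simp [hπ, h]
  have hkerD : ∀ u, Φ u = 0 → Φ (D u) = 0 := by
    intro u hu
    funext i
    rw [hΦD, ← Module.End.mul_apply, ← pow_succ, Pi.zero_apply]
    by_cases h : (i : ℕ) + 1 < M
    · exact congrFun hu ⟨(i : ℕ) + 1, h⟩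
    · rw [hDbig _ (by omega), map_zero]
  have hrangeD : ∀ a, D (Ψ a) ∈ LinearMap.range Ψ := by
    intro a
    classical
    rw [hΨa, map_sum]
    refine Submodule.sum_mem _ fun j _ => ?_
    rw [map_smul, ← Module.End.mul_apply, ← pow_succ']
    refine Submodule.smul_mem _ _ ?_
    by_cases h : (j : ℕ) + 1 < M
    · refine ⟨Pi.single ⟨(j : ℕ) + 1, h⟩ 1, ?_⟩
      rw [hΨa, Finset.sum_eq_single ⟨(j : ℕ) + 1, h⟩]
      · simp
      · intro k _ hk; rw [Pi.single_eq_of_ne hk, zero_smul]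
      · simp
    · rw [hDbig _ (by omega)]; exact zero_mem _
  have hcomm : Commute π D := by
    apply LinearMap.ext
    intro u
    rw [Module.End.mul_apply, Module.End.mul_apply]
    have h1 : π (D (u - π u)) = 0 := hπ0 _ (hkerD _ (by rw [map_sub, hΦπ, sub_self]))
    obtain ⟨a, ha⟩ := hrangeD (e.symm (Φ u))
    have h2 : π (D (π u)) = D (π u) := by
      show π (D (Ψ (e.symm (Φ u)))) = D (Ψ (e.symm (Φ u)))
      rw [← ha, hπΨ]
    rw [map_sub, map_sub, h2, sub_eq_zero] at h1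
    exact h1
  have htr : LinearMap.trace K V π = (M : K) := by
    rw [hπ, LinearMap.trace_comp_comm']
    have : (e.symm.toLinearMap ∘ₗ Φ) ∘ₗ Ψ = LinearMap.id :=
      LinearMap.ext fun a => e.symm_apply_apply a
    rw [this, LinearMap.trace_id, Module.finrank_fin_fun]
  obtain ⟨y, hy⟩ := hg (1 + (Module.finrank K V : K) • π)
    ((Commute.one_left D).add_left (hcomm.smul_left _))
    (by rw [map_add, map_smul, LinearMap.trace_one, htr, hM]; simp)
  have hker : ∀ u, Φ u = 0 → u = 0 := by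
    have step : ∀ u, Φ u = 0 → ∃ u', Φ u' = 0 ∧ u = D u' := by
      intro u hu
      refine ⟨y u - π (y u), by rw [map_sub, hΦπ, sub_self], ?_⟩
      have h1 := LinearMap.congr_fun hy u
      simp only [LinearMap.add_apply, Module.End.one_apply, LinearMap.smul_apply, hπ0 u hu,
        smul_zero, add_zero, Module.End.mul_apply] at h1
      have h2 := LinearMap.congr_fun hcomm.eq (y u)
      simp only [Module.End.mul_apply] at h2
      rw [map_sub, ← h2, ← h1, hπ0 u hu, sub_zero]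
    intro u hu
    have : ∀ k, ∃ u', Φ u' = 0 ∧ u = (D ^ k) u' := by
      intro k
      induction k with
      | zero => exact ⟨u, hu, by simp⟩
      | succ k ih =>
        obtain ⟨u', hu', rfl⟩ := ih
        obtain ⟨u'', hu'', rfl⟩ := step u' hu'
        exact ⟨u'', hu'', by rw [pow_succ, Module.End.mul_apply]⟩
    obtain ⟨u', _, rfl⟩ := this M
    exact hDbig M le_rfl u'
  have hΦinj : Function.Injective Φ := by
    rw [← LinearMap.ker_eq_bot, LinearMap.ker_eq_bot']
    exact hker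
  have hΨinj : Function.Injective Ψ := fun a a' h => hinj (congrArg Φ h)
  have h1 := LinearMap.finrank_le_finrank_of_injective hΦinj
  have h2 := LinearMap.finrank_le_finrank_of_injective hΨinj
  rw [Module.finrank_fin_fun] at h1 h2
  exact le_antisymm h1 h2

variable {p q n : ℕ} {ρ : G →* Module.End K V} {Q : Subgroup G} {x : G}

theorem rep_mul_inv (ρ : G →* Module.End K V) (g : G) : ρ g * ρ g⁻¹ = 1 := by
  rw [← map_mul, mul_inv_cancel, map_one]

theorem rep_inv_mul (ρ : G →* Module.End K V) (g : G) : ρ g⁻¹ * ρ g = 1 := by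
  rw [← map_mul, inv_mul_cancel, map_one]

theorem smul_rep_eq_zero [Nontrivial V] {g : G} {c : K} (h : c • ρ g = 0) : c = 0 := by
  have := congrArg (· * ρ g⁻¹) h
  simp only [smul_mul_assoc, rep_mul_inv, zero_mul] at this
  exact (smul_eq_zero.mp this).resolve_right one_ne_zero

/-- The absolutely irreducible case. -/
theorem concl_of_primitive [Finite G] [FiniteDimensional K V] [Nontrivial V] [Fact p.Prime]
    [CharP K p] [IsAlgClosed K] (hq : q.Prime) (hqp : q ≠ p) (hd : Data p q n ρ Q x)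
    (hmin : ∀ Q₁ : Subgroup G, Q₁ < Q → (∀ g ∈ Q₁, x * g * x⁻¹ ∈ Q₁) →
      ∀ g ∈ Q₁, ρ (x ^ (p ^ (n - 1)) * g) = ρ (g * x ^ (p ^ (n - 1))))
    (hC : ∀ c : Module.End K V, (∀ g ∈ Q, c * ρ g = ρ g * c) → ∃ μ : K, c = μ • 1) :
    Concl p q n ρ Q x := by
  classical
  haveI := Fact.mk hq
  set b := x ^ (p ^ (n - 1)) with hb
  have hp := (Fact.out : p.Prime)
  have hxb : Commute x b := Commute.self_pow x _
  have hbQ : ∀ g ∈ Q, b * g * b⁻¹ ∈ Q := fun g hg => hd.conj_pow_mem _ hg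
  set u := ρ.toHomUnits with hu
  have huv : ∀ a c : G, ρ a = ρ c ↔ u a = u c := fun a c => by
    rw [Units.ext_iff]; rfl
  have hbp : b ^ p = 1 := by
    rw [hb, ← pow_mul, ← pow_succ, Nat.sub_add_cancel hd.pos, hd.pow]
  -- generation by commutators with `b`
  set D := Subgroup.closure {c | ∃ g ∈ Q, c = g⁻¹ * (b * g * b⁻¹)} with hD
  have hDQ : D ≤ Q := by
    rw [hD, Subgroup.closure_le]
    rintro _ ⟨g, hg, rfl⟩
    exact mul_mem (inv_mem hg) (hbQ g hg)
  have hDx : ∀ g ∈ D, x * g * x⁻¹ ∈ D := by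
    have : D ≤ D.comap (MulAut.conj x).toMonoidHom := by
      conv_lhs => rw [hD]
      rw [Subgroup.closure_le]
      rintro _ ⟨g, hg, rfl⟩
      refine Subgroup.subset_closure ⟨x * g * x⁻¹, hd.norm g hg, ?_⟩
      show x * (g⁻¹ * (b * g * b⁻¹)) * x⁻¹ = _
      have h1 : x⁻¹ * b * x = b := by rw [mul_assoc, ← hxb.eq, inv_mul_cancel_left]
      have h2 : x⁻¹ * b⁻¹ * x = b⁻¹ := by
        rw [mul_assoc, ← hxb.inv_right.eq, inv_mul_cancel_left]
      calc x * (g⁻¹ * (b * g * b⁻¹)) * x⁻¹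
          = x * g⁻¹ * (x⁻¹ * (x * b * x⁻¹)) * x * g * x⁻¹ * (x * b⁻¹ * x⁻¹) := by simp [mul_assoc]
        _ = x * g⁻¹ * (x⁻¹ * b) * x * g * x⁻¹ * b⁻¹ := by
          rw [hxb.eq, mul_inv_cancel_right, hxb.inv_right.eq, mul_inv_cancel_right]
        _ = _ := by simp [mul_assoc]
    intro g hg
    exact this hg
  have hDeq : D = Q := by
    by_contra hne
    have hcen := hmin D (lt_of_le_of_ne hDQ hne) hDx
    obtain ⟨g, hg, hmov⟩ := hd.moved
    rw [← hb] at hmov
    apply hmov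
    set c := g⁻¹ * (b * g * b⁻¹) with hc
    have hcD : c ∈ D := Subgroup.subset_closure ⟨g, hg, hc⟩
    have hbc : u b * u c * (u b)⁻¹ = u c := by
      rw [mul_inv_eq_iff_eq_mul, ← map_mul, ← map_mul]
      exact (huv _ _).mp (hcen c hcD)
    have key : ∀ i : ℕ, u (b ^ i * g * (b ^ i)⁻¹) = u g * u c ^ i := by
      intro i
      induction i with
      | zero => simp
      | succ i ih =>
        have e : b ^ (i + 1) * g * (b ^ (i + 1))⁻¹ = b * (b ^ i * g * (b ^ i)⁻¹) * b⁻¹ := by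
          rw [pow_succ']; simp [mul_assoc]
        rw [e, map_mul, map_mul, ih, map_inv]
        have e2 : u b * u g * (u b)⁻¹ = u g * u c := by
          rw [hc]; simp [mul_assoc]
        calc u b * (u g * u c ^ i) * (u b)⁻¹
            = (u b * u g * (u b)⁻¹) * (u b * u c * (u b)⁻¹) ^ i := by
              rw [conj_pow]; simp [mul_assoc]
          _ = _ := by rw [e2, hbc, mul_assoc, ← pow_succ']
    have hcp : u c ^ p = 1 := by
      have := key p
      rw [hbp] at this
      simpa using this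
    obtain ⟨e, he⟩ := hd.qgroup ⟨c, hDQ hcD⟩
    have hce : u c ^ (q ^ e) = 1 := by
      rw [← map_pow, show c ^ (q ^ e) = 1 from congrArg Subtype.val he, map_one]
    have hc1 : u c = 1 := by
      have := pow_gcd_eq_one.mpr ⟨hcp, hce⟩
      rwa [((Nat.coprime_primes hp hq).mpr (Ne.symm hqp)).pow_right e, pow_one] at this
    rw [huv]
    calc u (b * g) = u g * u c * u b := by rw [hc]; simp [mul_assoc]
      _ = u (g * b) := by rw [hc1, mul_one, map_mul]
  -- commuting with all commutators with `b` forces a scalar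
  have hscal : ∀ d : G, (∀ g ∈ Q, Commute (u d) (u (g⁻¹ * (b * g * b⁻¹)))) →
      ∃ μ : K, ρ d = μ • 1 := by
    intro d h
    apply hC
    have hle : D ≤ (Subgroup.centralizer {u d}).comap u := by
      rw [hD, Subgroup.closure_le]
      rintro _ ⟨g, hg, rfl⟩
      exact Subgroup.mem_centralizer_singleton_iff.mpr (h g hg).eq.symm
    intro g hg
    have := Subgroup.mem_centralizer_singleton_iff.mp (hle (hDeq.symm ▸ hg))
    rw [← map_mul, ← map_mul, Units.ext_iff] at this
    simpa [hu] using this.symm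
  have hQbot : Q ≠ ⊥ := by
    obtain ⟨g, hg, hmov⟩ := hd.moved
    intro h
    rw [h, Subgroup.mem_bot] at hg
    subst hg
    exact hmov (by simp)
  have hnc : NonComm ρ Q := by
    by_contra hcon
    obtain ⟨g, hg, hmov⟩ := hd.moved
    obtain ⟨μ, hμ⟩ := hC (ρ g) fun h hh => by
      by_contra hne
      exact hcon ⟨g, hg, h, hh, by simpa [map_mul] using hne⟩
    apply hmov
    rw [map_mul, map_mul, hμ]
    simp
  -- commutators are scalars
  have hder : ∀ d ∈ ⁅Q, Q⁆, ∃ μ : K, ρ d = μ • 1 := by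
    have hlt : ⁅Q, Q⁆ < Q := by
      haveI : Nontrivial ↥Q := (Subgroup.nontrivial_iff_ne_bot Q).mpr hQbot
      haveI := hd.qgroup.isNilpotent
      refine lt_of_le_of_ne (Subgroup.commutator_le.mpr fun a ha c hc =>
        mul_mem (mul_mem (mul_mem ha hc) (inv_mem ha)) (inv_mem hc)) fun h => ?_
      apply (Group.IsSolvable.commutator_lt_top_of_nontrivial (G := ↥Q)).ne
      apply Subgroup.map_injective Q.subtype_injective
      rw [Subgroup.map_subtype_commutator, h, ← MonoidHom.range_eq_map, Subgroup.range_subtype]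
    have hinv : ∀ d ∈ ⁅Q, Q⁆, x * d * x⁻¹ ∈ ⁅Q, Q⁆ := by
      intro d hd'
      have hmap : Q.map (MulAut.conj x).toMonoidHom ≤ Q := by
        rintro _ ⟨g, hg, rfl⟩
        exact hd.norm g hg
      have := Subgroup.mem_map_of_mem (MulAut.conj x).toMonoidHom hd'
      rw [Subgroup.map_commutator] at this
      exact Subgroup.commutator_mono hmap hmap this
    have hcen := hmin _ hlt hinv
    intro d hdD
    apply hscal
    intro g hg
    have hd1 : g * d * g⁻¹ ∈ ⁅Q, Q⁆ := by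
      have hmap : Q.map (MulAut.conj g).toMonoidHom ≤ Q := by
        rintro _ ⟨a, ha, rfl⟩
        exact mul_mem (mul_mem hg ha) (inv_mem hg)
      have := Subgroup.mem_map_of_mem (MulAut.conj g).toMonoidHom hdD
      rw [Subgroup.map_commutator] at this
      exact Subgroup.commutator_mono hmap hmap this
    have e1 : u b * u d = u d * u b := by
      rw [← map_mul, ← map_mul]; exact (huv _ _).mp (hcen d hdD)
    have e2 : u b * (u g * u d * (u g)⁻¹) = (u g * u d * (u g)⁻¹) * u b := by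
      have := (huv _ _).mp (hcen _ hd1)
      simpa using this
    have e1' : (u b)⁻¹ * u d = u d * (u b)⁻¹ := (Commute.inv_left e1).eq
    show u d * u (g⁻¹ * (b * g * b⁻¹)) = u (g⁻¹ * (b * g * b⁻¹)) * u d
    simp only [map_mul, map_inv]
    calc u d * ((u g)⁻¹ * (u b * u g * (u b)⁻¹))
        = (u g)⁻¹ * ((u g * u d * (u g)⁻¹) * u b) * u g * (u b)⁻¹ := by simp [mul_assoc]
      _ = (u g)⁻¹ * (u b * (u g * u d * (u g)⁻¹)) * u g * (u b)⁻¹ := by rw [← e2]
      _ = (u g)⁻¹ * (u b * u g * (u d * (u b)⁻¹)) := by simp [mul_assoc]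
      _ = (u g)⁻¹ * (u b * u g * ((u b)⁻¹ * u d)) := by rw [e1']
      _ = _ := by simp [mul_assoc]
  -- an element of `Q` fixed by `b` modulo the kernel is scalar
  have hfix : ∀ g ∈ Q, ρ (b * g * b⁻¹) = ρ g → ∃ μ : K, ρ g = μ • 1 := by
    intro g hg hgb
    apply hscal
    intro h hh
    obtain ⟨κ, hκ⟩ := hder _ (Subgroup.commutator_mem_commutator hg hh)
    have e1 : u b * u ⁅g, h⁆ * (u b)⁻¹ = u ⁅g, h⁆ := by
      rw [mul_inv_eq_iff_eq_mul, ← map_mul, ← map_mul, ← huv, map_mul, map_mul, hκ]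
      simp
    have e2 : u b * u g * (u b)⁻¹ = u g := by
      have := (huv _ _).mp hgb
      simpa using this
    set c := h⁻¹ * (b * h * b⁻¹) with hc
    have e3 : u g * (u h * u c) * (u g)⁻¹ * (u h * u c)⁻¹ =
        u g * u h * (u g)⁻¹ * (u h)⁻¹ := by
      have e4 : u h * u c = u b * u h * (u b)⁻¹ := by rw [hc]; simp [mul_assoc]
      rw [e4]
      calc u g * (u b * u h * (u b)⁻¹) * (u g)⁻¹ * (u b * u h * (u b)⁻¹)⁻¹
          = (u b * u g * (u b)⁻¹) * (u b * u h * (u b)⁻¹) * (u b * u g * (u b)⁻¹)⁻¹ *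
              (u b * u h * (u b)⁻¹)⁻¹ := by rw [e2]
        _ = u b * u ⁅g, h⁆ * (u b)⁻¹ := by simp [commutatorElement_def, mul_assoc]
        _ = _ := by rw [e1]; simp [commutatorElement_def]
    show u g * u c = u c * u g
    have e5 : u c * (u g)⁻¹ * (u c)⁻¹ = (u g)⁻¹ := by
      have := congrArg (fun t => (u h)⁻¹ * ((u g)⁻¹ * t) * u h) e3
      simpa [mul_assoc] using this
    have e6 : u c * u g * (u c)⁻¹ = u g := by
      have := congrArg (·⁻¹) e5
      simpa [mul_assoc] using this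
    exact (mul_inv_eq_iff_eq_mul.mp e6).symm
  -- the scalar subgroup
  let Sc : G → Prop := fun g => ∃ μ : K, ρ g = μ • 1
  have hScnorm : ∀ g a : G, Sc g → Sc (a * g * a⁻¹) := by
    rintro g a ⟨μ, hμ⟩
    refine ⟨μ, ?_⟩
    rw [map_mul, map_mul, hμ]
    simp [rep_mul_inv]
  haveI : Fintype ↥Q := Fintype.ofFinite _
  have hQK : (Fintype.card Q : K) ≠ 0 := by
    rw [← Nat.card_eq_fintype_card]; exact hd.card_cast_ne_zero hp hq hqp
  -- the averaging operator
  let Ψ : Module.End K V → Module.End K V := fun f => ∑ t : Q, ρ t.1 * f * ρ t.1⁻¹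
  have hΨQ : ∀ f, ∀ h ∈ Q, ρ h * Ψ f * ρ h⁻¹ = Ψ f := by
    intro f h hh
    simp only [Ψ, Finset.mul_sum, Finset.sum_mul]
    refine Fintype.sum_equiv (Equiv.mulLeft (⟨h, hh⟩ : Q)) _ _ fun t => ?_
    simp [map_mul, mul_assoc]
  have hΨscal : ∀ f, ∃ μ : K, Ψ f = μ • 1 := by
    intro f
    apply hC
    intro h hh
    have := congrArg (· * ρ h) (hΨQ f h hh)
    simp only [mul_assoc, rep_inv_mul, mul_one] at this
    exact this.symm
  have hΨρS : ∀ a ∈ Q, Sc a → Ψ (ρ a) = (Fintype.card Q : K) • ρ a := by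
    intro a ha ⟨μ, hμ⟩
    have : ∀ t : Q, ρ t.1 * ρ a * ρ t.1⁻¹ = ρ a := by
      intro t; rw [hμ]; simp [rep_mul_inv]
    show ∑ t : Q, ρ t.1 * ρ a * ρ t.1⁻¹ = _
    rw [Finset.sum_congr rfl fun t _ => this t, Finset.sum_const, Finset.card_univ,
      Nat.cast_smul_eq_nsmul]
  have hΨρ : ∀ a ∈ Q, ¬ Sc a → Ψ (ρ a) = 0 := by
    intro a ha hns
    obtain ⟨μ, hμ⟩ := hΨscal (ρ a)
    have : ∀ t : Q, ∃ κ : K, ρ t.1 * ρ a * ρ t.1⁻¹ = κ • ρ a := by
      intro t
      obtain ⟨κ, hκ⟩ := hder _ (Subgroup.commutator_mem_commutator t.2 ha)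
      refine ⟨κ, ?_⟩
      rw [← map_mul, ← map_mul, show (t : G) * a * (t : G)⁻¹ = ⁅(t : G), a⁆ * a by
        simp [commutatorElement_def], map_mul, hκ, smul_mul_assoc, one_mul]
    choose κ hκ using this
    have h1 : Ψ (ρ a) = (∑ t : Q, κ t) • ρ a := by
      show ∑ t : Q, ρ t.1 * ρ a * ρ t.1⁻¹ = _
      rw [Finset.sum_smul, Finset.sum_congr rfl fun t _ => hκ t]
    by_cases hμ0 : μ = 0
    · rw [hμ, hμ0, zero_smul]
    · refine absurd ⟨μ⁻¹ * ∑ t : Q, κ t, ?_⟩ (fun hh => hns ?_) (a := ∃ ν : K, 1 = ν • ρ a)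
      · rw [mul_smul, ← h1, hμ, inv_smul_smul₀ hμ0]
      · obtain ⟨ν, hν⟩ := hh
        have hν0 : ν ≠ 0 := by
          rintro rfl
          exact one_ne_zero (hν.trans (zero_smul K _))
        exact ⟨ν⁻¹, by rw [hν, inv_smul_smul₀ hν0]⟩
  let P : G → Module.End K V → Module.End K V := fun g f => Ψ (f * ρ g⁻¹) * ρ g
  have hPsum : ∀ f, ∑ g : Q, P g.1 f =
      ((Fintype.card Q : K) * ((univ.filter fun t : Q => Sc t.1).card : K)) • f := by
    intro f
    show ∑ g : Q, (∑ t : Q, ρ t.1 * (f * ρ g.1⁻¹) * ρ t.1⁻¹) * ρ g.1 = _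
    simp only [Finset.sum_mul]
    rw [Finset.sum_comm]
    have hin : ∀ t : Q, ∑ g : Q, ρ t.1 * (f * ρ g.1⁻¹) * ρ t.1⁻¹ * ρ g.1 =
        ρ t.1 * f * Ψ (ρ t.1⁻¹) := by
      intro t
      show _ = ρ t.1 * f * ∑ g : Q, ρ g.1 * ρ t.1⁻¹ * ρ g.1⁻¹
      rw [Finset.mul_sum]
      refine Fintype.sum_equiv (Equiv.inv Q) _ _ fun g => ?_
      simp [mul_assoc]
    simp only [hin]
    rw [← Finset.sum_filter_add_sum_filter_not univ (fun t : Q => Sc t.1)]
    have hz : ∑ t ∈ univ.filter (fun t : Q => ¬ Sc t.1), ρ t.1 * f * Ψ (ρ t.1⁻¹) = 0 := by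
      refine Finset.sum_eq_zero fun t ht => ?_
      rw [hΨρ _ (inv_mem t.2) ?_, mul_zero]
      rintro ⟨μ, hμ⟩
      have hμ0 : μ ≠ 0 := by
        rintro rfl
        have := rep_mul_inv ρ (t : G)
        simp [hμ] at this
      refine (Finset.mem_filter.mp ht).2 ⟨μ⁻¹, ?_⟩
      have := rep_mul_inv ρ (t : G)
      rw [hμ, mul_smul_comm, mul_one] at this
      rw [← this, inv_smul_smul₀ hμ0]
    rw [hz, add_zero]
    have hs : ∀ t ∈ univ.filter (fun t : Q => Sc t.1),
        ρ t.1 * f * Ψ (ρ t.1⁻¹) = (Fintype.card Q : K) • f := by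
      intro t ht
      obtain ⟨μ, hμ⟩ := (Finset.mem_filter.mp ht).2
      have h1 := rep_mul_inv ρ (t : G)
      rw [hμ, smul_mul_assoc, one_mul] at h1
      have hμ0 : μ ≠ 0 := by
        rintro rfl
        simp at h1
      rw [hΨρS _ (inv_mem t.2) ⟨μ⁻¹, by rw [← h1, inv_smul_smul₀ hμ0]⟩, mul_smul_comm, hμ,
        smul_mul_assoc, one_mul, smul_mul_assoc, ← mul_smul_comm μ f, h1, mul_one]
    rw [Finset.sum_congr rfl hs, Finset.sum_const, ← Nat.cast_smul_eq_nsmul K, smul_smul, mul_comm]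
  have hPmem : ∀ g f, ∃ μ : K, P g f = μ • ρ g := by
    intro g f
    obtain ⟨μ, hμ⟩ := hΨscal (f * ρ g⁻¹)
    exact ⟨μ, by show Ψ (f * ρ g⁻¹) * ρ g = _; rw [hμ, smul_mul_assoc, one_mul]⟩
  -- the scalar subgroup of `Q`
  let S : Subgroup ↥Q :=
    { carrier := {t | Sc t.1}
      one_mem' := ⟨1, by simp⟩
      mul_mem' := by
        rintro a c ⟨μ, hμ⟩ ⟨ν, hν⟩
        exact ⟨μ * ν, by simp [hμ, hν, smul_smul, mul_comm]⟩
      inv_mem' := by
        rintro a ⟨μ, hμ⟩
        have h1 := rep_mul_inv ρ (a : G)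
        rw [hμ, smul_mul_assoc, one_mul] at h1
        have hμ0 : μ ≠ 0 := by rintro rfl; simp at h1
        exact ⟨μ⁻¹, by rw [InvMemClass.coe_inv, ← h1, inv_smul_smul₀ hμ0]⟩ }
  have hScard : (univ.filter fun t : Q => Sc t.1).card = Nat.card S := by
    rw [Nat.card_eq_fintype_card, Fintype.card_subtype]
    rfl
  have hSK : (Nat.card S : K) ≠ 0 := by
    intro h
    obtain ⟨k, hk⟩ := Subgroup.card_subgroup_dvd_card S
    apply hd.card_cast_ne_zero hp hq hqp
    rw [hk, Nat.cast_mul, h, zero_mul]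
  simp only [hScard] at hPsum
  -- the basis indexed by `Q ⧸ S`
  haveI : Fintype (↥Q ⧸ S) := Fintype.ofFinite _
  let bv : ↥Q ⧸ S → Module.End K V := fun z => ρ (z.out : G)
  have hspan : ⊤ ≤ Submodule.span K (Set.range bv) := by
    intro f _
    have hf := hPsum f
    rw [← inv_smul_smul₀ (mul_ne_zero hQK hSK) f, ← hf]
    refine Submodule.smul_mem _ _ (Submodule.sum_mem _ fun g _ => ?_)
    obtain ⟨μ, hμ⟩ := hPmem g.1 f
    rw [hμ]
    refine Submodule.smul_mem _ _ ?_
    have hs : ((g : ↥Q ⧸ S).out)⁻¹ * g ∈ S := QuotientGroup.eq.mp (Quotient.out_eq (g : ↥Q ⧸ S))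
    obtain ⟨ν, hν⟩ := hs
    have : ρ g.1 = ν • bv (g : ↥Q ⧸ S) := by
      show ρ g.1 = ν • ρ ((g : ↥Q ⧸ S).out : G)
      rw [← mul_one (ρ ((g : ↥Q ⧸ S).out : G)), ← mul_smul_comm, ← hν, ← map_mul]
      simp
    rw [this]
    exact Submodule.smul_mem _ _ (Submodule.subset_span ⟨_, rfl⟩)
  have hli : LinearIndependent K bv := by
    rw [Fintype.linearIndependent_iff]
    intro c hc z
    have h1 := congrArg (fun t => Ψ (ρ (z.out : G)⁻¹ * t)) hc
    simp only [mul_zero, Finset.mul_sum, mul_smul_comm, bv] at h1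
    have hlin : ∀ (s : Finset (↥Q ⧸ S)) (F : ↥Q ⧸ S → Module.End K V),
        Ψ (∑ i ∈ s, c i • F i) = ∑ i ∈ s, c i • Ψ (F i) := by
      intro s F
      simp only [Ψ, Finset.mul_sum, Finset.sum_mul, mul_smul_comm, smul_mul_assoc,
        Finset.smul_sum]
      exact Finset.sum_comm
    rw [hlin, show Ψ 0 = 0 by simp [Ψ], Finset.sum_eq_single z] at h1
    · rw [← map_mul, inv_mul_cancel, hΨρS 1 (one_mem _) ⟨1, by simp⟩, map_one, smul_smul,
        smul_eq_zero] at h1
      exact (mul_eq_zero.mp (h1.resolve_right one_ne_zero)).resolve_right hQK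
    · intro w _ hw
      rw [← map_mul, hΨρ _ (mul_mem (inv_mem z.out.2) w.out.2) ?_, smul_zero]
      intro hs
      apply hw
      rw [← Quotient.out_eq z, ← Quotient.out_eq w]
      exact (QuotientGroup.eq.mpr hs).symm
    · simp
  have hdim : Module.finrank K V * Module.finrank K V = Nat.card (↥Q ⧸ S) := by
    rw [← Module.finrank_linearMap K K V V, Module.finrank_eq_card_basis (Module.Basis.mk hli hspan),
      Nat.card_eq_fintype_card]
  set d := Module.finrank K V with hdd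
  obtain ⟨m, hm⟩ : ∃ m, d = q ^ m := by
    obtain ⟨e, he⟩ := hd.qgroup.exists_card_eq
    have h1 : Nat.card (↥Q ⧸ S) ∣ q ^ e := he ▸ Subgroup.card_quotient_dvd_card S
    have h2 : d ∣ q ^ e := (Dvd.intro d hdim).trans h1
    obtain ⟨m, -, hm⟩ := (Nat.dvd_prime_pow hq).mp h2
    exact ⟨m, hm⟩
  have hdK : (d : K) ≠ 0 := by
    rw [hm, Nat.cast_pow]
    refine pow_ne_zero _ fun h => ?_
    rw [CharP.cast_eq_zero_iff K p] at h
    exact hqp ((Nat.prime_dvd_prime_iff_eq hp hq).mp h).symm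
  -- the action of `x` on `Q`
  set N := p ^ n with hN
  let σ : Equiv.Perm ↥Q := Equiv.ofBijective (fun t => ⟨x * t.1 * x⁻¹, hd.norm _ t.2⟩)
    (Finite.injective_iff_bijective.mp fun a c h =>
      Subtype.ext (mul_left_cancel (mul_right_cancel (congrArg Subtype.val h))))
  have hσi : ∀ (i : ℕ) (t : ↥Q), (((σ ^ i) t) : G) = x ^ i * t.1 * (x ^ i)⁻¹ := by
    intro i
    induction i with
    | zero => simp
    | succ i ih =>
      intro t
      rw [pow_succ', Equiv.Perm.mul_apply]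
      show x * ((σ ^ i) t : G) * x⁻¹ = _
      rw [ih, pow_succ']
      simp [mul_assoc]
  have hσN : σ ^ N = 1 := by
    ext t
    rw [hσi, hN, hd.pow]
    simp
  have hσSc : ∀ (i : ℕ) (t : ↥Q), Sc t.1 → Sc ((σ ^ i) t).1 := by
    intro i t ht
    rw [hσi]
    exact hScnorm _ _ ht
  have hfree : ∀ t : ↥Q, ¬ Sc t.1 → ∀ i < N, ∀ j < N, (σ ^ i) t = (σ ^ j) t → i = j := by
    intro t ht
    have key : ∀ i j, i < j → j < N → (σ ^ i) t ≠ (σ ^ j) t := by
      intro i j hij hj h
      have hk : Function.IsPeriodicPt σ (j - i) t := by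
        show (⇑σ)^[j - i] t = t
        rw [← Equiv.Perm.coe_pow]
        apply (σ ^ i).injective
        rw [← Equiv.Perm.mul_apply, ← pow_add, Nat.add_sub_cancel' hij.le, h]
      have hk' : Function.IsPeriodicPt σ N t := by
        show (⇑σ)^[N] t = t
        rw [← Equiv.Perm.coe_pow, hσN]
        rfl
      have hg := hk.gcd hk'
      obtain ⟨e, he, hee⟩ := (Nat.dvd_prime_pow hp).mp (Nat.gcd_dvd_right (j - i) N)
      have he' : e ≤ n - 1 := by
        by_contra hlt
        have hen : e = n := by omega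
        rw [hen] at hee
        have := Nat.le_of_dvd (by omega) (hee ▸ Nat.gcd_dvd_left (j - i) N)
        omega
      rw [hee] at hg
      have hb' : Function.IsPeriodicPt σ (p ^ (n - 1)) t := hg.trans_dvd (pow_dvd_pow p he')
      have hb'' : (σ ^ (p ^ (n - 1))) t = t := by
        rw [Equiv.Perm.coe_pow]; exact hb'
      apply ht
      refine hfix t.1 t.2 ?_
      rw [hb, ← hσi, hb'']
    intro i hi j hj h
    rcases lt_trichotomy i j with h1 | h1 | h1
    · exact absurd h (key i j h1 hj)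
    · exact h1
    · exact absurd h.symm (key j i h1 hi)
  let O : ↥Q → Set ↥Q := fun t => {a | ∃ j : ℕ, a = (σ ^ j) t}
  have hO : ∀ (i : ℕ) (t : ↥Q), O ((σ ^ i) t) = O t := by
    intro i t
    ext a
    constructor
    · rintro ⟨j, rfl⟩
      exact ⟨j + i, by rw [pow_add, Equiv.Perm.mul_apply]⟩
    · rintro ⟨j, rfl⟩
      refine ⟨j + (N - 1) * i, ?_⟩
      rw [← Equiv.Perm.mul_apply, ← pow_add, add_assoc]
      have e : (N - 1) * i + i = N * i := by
        have : 1 ≤ N := Nat.one_le_pow _ _ hp.pos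
        calc (N - 1) * i + i = (N - 1 + 1) * i := by ring
          _ = N * i := by rw [Nat.sub_add_cancel this]
      rw [e, pow_add, pow_mul, hσN, one_pow, mul_one]
  let rep : ↥Q → ↥Q := fun t => @Classical.epsilon ↥Q ⟨t⟩ (fun a => a ∈ O t)
  have hrep : ∀ t, rep t ∈ O t := fun t => Classical.epsilon_spec
    (p := fun a => a ∈ O t) ⟨t, 0, by simp⟩
  have hrepO : ∀ (i : ℕ) (t : ↥Q), rep ((σ ^ i) t) = rep t := fun i t => by
    simp only [rep, hO]
  let wt : ↥Q → K := fun t => if rep t = t then 1 else 0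
  have hwt : ∀ t : ↥Q, ¬ Sc t.1 → ∑ i ∈ range N, wt ((σ ^ i).symm t) = 1 := by
    intro t ht
    obtain ⟨j, hj⟩ := hrep t
    have hsym : ∀ i, rep ((σ ^ i).symm t) = rep t := fun i => by
      have := hrepO i ((σ ^ i).symm t)
      rw [Equiv.apply_symm_apply] at this
      exact this.symm
    have hNpos : 0 < N := pow_pos hp.pos n
    obtain ⟨i₀, hi₀, hi₀'⟩ : ∃ i₀ < N, (σ ^ i₀) (rep t) = t := by
      refine ⟨((N - 1) * j) % N, Nat.mod_lt _ hNpos, ?_⟩
      rw [← pow_eq_pow_mod _ hσN, hj, ← Equiv.Perm.mul_apply, ← pow_add]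
      have e : (N - 1) * j + j = N * j := by
        calc (N - 1) * j + j = (N - 1 + 1) * j := by ring
          _ = N * j := by rw [Nat.sub_add_cancel hNpos]
      rw [e, pow_mul, hσN, one_pow]
      rfl
    rw [Finset.sum_eq_single i₀]
    · simp only [wt, hsym, Equiv.eq_symm_apply, hi₀', if_true]
    · intro i hi hne
      simp only [wt, hsym, Equiv.eq_symm_apply]
      rw [if_neg]
      intro h
      refine hne (hfree (rep t) (fun hs => ht ?_) i (Finset.mem_range.mp hi) i₀ hi₀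
        (h.trans hi₀'.symm))
      rw [← hi₀']
      exact hσSc i₀ _ hs
    · intro h; exact absurd (Finset.mem_range.mpr hi₀) h
  -- trace-zero operators commuting with `x` are traces
  have htrace : ∀ g₀ : Module.End K V, Commute g₀ (ρ x) → LinearMap.trace K V g₀ = 0 →
      ∃ f, g₀ = ∑ i ∈ range N, ρ x ^ i * f * ρ x⁻¹ ^ i := by
    intro g₀ hg₀ htr
    refine ⟨((Fintype.card Q : K) * (Nat.card S : K))⁻¹ • ∑ t : Q, wt t • P t.1 g₀, ?_⟩
    have hcomm : ∀ i : ℕ, ρ (x ^ i) * g₀ * ρ (x ^ i)⁻¹ = g₀ := by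
      intro i
      rw [map_pow, ← (hg₀.pow_right i).eq, mul_assoc, ← map_pow, rep_mul_inv, mul_one]
    have hequiv : ∀ (i : ℕ) (t : ↥Q),
        ρ (x ^ i) * P t.1 g₀ * ρ (x ^ i)⁻¹ = P ((σ ^ i) t).1 g₀ := by
      intro i t
      show ρ (x ^ i) * ((∑ s : Q, ρ s.1 * (g₀ * ρ t.1⁻¹) * ρ s.1⁻¹) * ρ t.1) * ρ (x ^ i)⁻¹ =
        (∑ s : Q, ρ s.1 * (g₀ * ρ ((σ ^ i) t).1⁻¹) * ρ s.1⁻¹) * ρ ((σ ^ i) t).1
      simp only [Finset.sum_mul, Finset.mul_sum]
      refine Fintype.sum_equiv (σ ^ i) _ _ fun s => ?_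
      rw [hσi, hσi]
      conv_rhs => rw [← hcomm i]
      have hcan : ∀ z, ρ (x ^ i)⁻¹ * (ρ (x ^ i) * z) = z := fun z => by
        rw [← mul_assoc, rep_inv_mul, one_mul]
      simp only [mul_inv_rev, inv_inv, map_mul, mul_assoc, hcan]
    have hzero : ∀ t : ↥Q, Sc t.1 → P t.1 g₀ = 0 := by
      intro t ⟨μ, hμ⟩
      obtain ⟨ν, hν⟩ := hΨscal g₀
      have h1 := rep_mul_inv ρ (t : G)
      rw [hμ, smul_mul_assoc, one_mul] at h1
      have hμ0 : μ ≠ 0 := by rintro rfl; simp at h1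
      have hti : ρ (t : G)⁻¹ = μ⁻¹ • 1 := by rw [← h1, inv_smul_smul₀ hμ0]
      have hν0 : ν = 0 := by
        have h2 := congrArg (LinearMap.trace K V) hν
        have h3 : LinearMap.trace K V (Ψ g₀) = 0 := by
          show LinearMap.trace K V (∑ s : Q, ρ s.1 * g₀ * ρ s.1⁻¹) = 0
          rw [map_sum]
          refine Finset.sum_eq_zero fun s _ => ?_
          rw [LinearMap.trace_mul_comm, ← mul_assoc, rep_inv_mul, one_mul, htr]
        rw [h3, map_smul, LinearMap.trace_one, smul_eq_mul] at h2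
        exact (mul_eq_zero.mp h2.symm).resolve_right hdK
      have hlin : Ψ (g₀ * ρ (t : G)⁻¹) = μ⁻¹ • Ψ g₀ := by
        simp [Ψ, hti, Finset.smul_sum]
      show Ψ (g₀ * ρ (t : G)⁻¹) * ρ (t : G) = 0
      rw [hlin, hν, hν0]
      simp
    have hmain : ∑ i ∈ range N, ∑ t : Q, wt t • (ρ (x ^ i) * P t.1 g₀ * ρ (x ^ i)⁻¹) =
        ∑ t : Q, P t.1 g₀ := by
      simp only [hequiv]
      have : ∀ i, ∑ t : Q, wt t • P ((σ ^ i) t).1 g₀ =
          ∑ t : Q, wt ((σ ^ i).symm t) • P t.1 g₀ :=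
        fun i => Fintype.sum_equiv (σ ^ i) _ _ fun t => by rw [Equiv.symm_apply_apply]
      simp only [this]
      rw [Finset.sum_comm]
      refine Finset.sum_congr rfl fun t _ => ?_
      rw [← Finset.sum_smul]
      by_cases ht : Sc t.1
      · rw [hzero t ht, smul_zero]
      · rw [hwt t ht, one_smul]
    have hterm : ∀ i : ℕ, ρ x ^ i *
        (((Fintype.card Q : K) * (Nat.card S : K))⁻¹ • ∑ t : Q, wt t • P t.1 g₀) * ρ x⁻¹ ^ i =
        ((Fintype.card Q : K) * (Nat.card S : K))⁻¹ •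
          ∑ t : Q, wt t • (ρ (x ^ i) * P t.1 g₀ * ρ (x ^ i)⁻¹) := by
      intro i
      rw [← map_pow, ← map_pow, inv_pow, mul_smul_comm, smul_mul_assoc, Finset.mul_sum,
        Finset.sum_mul]
      simp only [mul_smul_comm, smul_mul_assoc]
    rw [Finset.sum_congr rfl fun i _ => hterm i, ← Finset.smul_sum, hmain, hPsum,
      inv_smul_smul₀ (mul_ne_zero hQK hSK)]
  -- conclusion
  have hAA := rep_mul_inv ρ x
  have hA'A := rep_inv_mul ρ x
  have hNpos : 2 ≤ N := by
    calc 2 ≤ p := hp.two_le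
      _ = p ^ 1 := (pow_one p).symm
      _ ≤ N := Nat.pow_le_pow_right hp.pos hd.pos
  by_cases hr1 : (ρ x - 1) ^ (N - 1) = 0
  swap
  · exact Or.inl hr1
  have hxne : ρ x ≠ 1 := by
    intro h
    obtain ⟨g, hg, hmov⟩ := hd.moved
    apply hmov
    rw [map_mul, map_mul, map_pow, h, one_pow, one_mul, mul_one]
  have hr2 : (ρ x - 1) ^ (N - 2) ≠ 0 := by
    intro h0
    apply hxne
    rw [← sub_eq_zero]
    obtain ⟨f, hf⟩ := htrace (ρ x - 1) ((Commute.refl _).sub_left (Commute.one_left _))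
      ((LinearMap.isNilpotent_trace_of_isNilpotent (f := ρ x - 1) ⟨N - 2, h0⟩).eq_zero)
    obtain ⟨y, hy⟩ := exists_left_factor (K := K) p hAA hA'A n (N - 2) 2
      (by rw [← hN]; omega) h0 f
    rw [← hf] at hy
    have hcomm2 : ∀ k, (ρ x - 1) = (ρ x - 1) ^ (k + 1) * y ^ k := by
      intro k
      induction k with
      | zero => simp
      | succ k ih =>
        calc ρ x - 1 = (ρ x - 1) ^ (k + 1) * y ^ k := ih
          _ = (ρ x - 1) ^ k * (ρ x - 1) * y ^ k := by rw [← pow_succ]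
          _ = (ρ x - 1) ^ k * ((ρ x - 1) ^ 2 * y) * y ^ k := by rw [← hy]
          _ = _ := by rw [← mul_assoc, ← pow_add, mul_assoc, ← pow_succ']
    rw [hcomm2 (N - 2), pow_succ, h0, zero_mul, zero_mul]
  have hMK : ((N - 1 : ℕ) : K) = -1 := by
    rw [Nat.cast_sub (by omega), hN, Nat.cast_pow, CharP.cast_eq_zero K p,
      zero_pow (by have := hd.pos; omega), Nat.cast_one, zero_sub]
  have hdN : d = N - 1 := by
    refine dim_eq_of_left_factor (ρ x - 1) (N - 1) hMK hr1
      (by rwa [show N - 1 - 1 = N - 2 by omega]) ?_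
    intro g hg htr
    obtain ⟨f, hf⟩ := htrace g (by simpa using hg.add_right (Commute.one_right g)) htr
    obtain ⟨y, hy⟩ := exists_left_factor (K := K) p hAA hA'A n (N - 1) 1 (by rw [← hN]; omega) hr1 f
    exact ⟨y, by rw [hf, hy, pow_one]⟩
  have hm1 : 1 ≤ m := by
    by_contra hm0
    have hm0' : m = 0 := by omega
    rw [hm0', pow_zero] at hm
    apply hxne
    rw [← sub_eq_zero, ← pow_one (ρ x - 1), show 1 = N - 1 by omega, hr1]
  refine Or.inr ⟨n, m, hd.pos, le_rfl, hm1, by rw [← hN, ← hdN, hm], hnc, ?_⟩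
  rw [Nat.sub_self, pow_zero, one_mul, ← hN, show N - 1 - 1 = N - 2 by omega]
  exact hr2

/-- Theorem B of Hall and Higman for representations over an algebraically closed field. -/
theorem hall_higman_b (p q : ℕ) [Fact p.Prime] [CharP K p] [IsAlgClosed K] (hq : q.Prime)
    (hqp : q ≠ p) : ∀ μ : ℕ, IH.{u, v, w} K p q μ := by
  intro μ
  induction μ using Nat.strong_induction_on with
  | _ μ ih =>
    intro V _ _ _ G _ _ ρ Q x n hlt hd
    have hih : IH.{u, v, w} K p q (Module.finrank K V + Nat.card Q) := ih _ hlt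
    have hp := (Fact.out : p.Prime)
    haveI : Nontrivial V := by
      by_contra h
      rw [not_nontrivial_iff_subsingleton] at h
      obtain ⟨g, hg, hne⟩ := hd.moved
      exact hne (Subsingleton.elim _ _)
    by_cases hsub : ∃ Q₁ : Subgroup G, Q₁ < Q ∧ (∀ g ∈ Q₁, x * g * x⁻¹ ∈ Q₁) ∧
        ∃ g ∈ Q₁, ρ (x ^ (p ^ (n - 1)) * g) ≠ ρ (g * x ^ (p ^ (n - 1)))
    · obtain ⟨Q₁, hlt₁, hn₁, hm₁⟩ := hsub
      refine Concl.of_subgroup hlt₁.le (hih V G ρ Q₁ x n ?_ ⟨hd.qgroup.to_le hlt₁.le, hn₁, hd.pos,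
        hd.pow, hm₁⟩)
      have : Nat.card Q₁ < Nat.card Q := by
        by_contra hge
        exact hlt₁.ne (Subgroup.eq_of_le_of_card_ge hlt₁.le (not_lt.mp hge))
      omega
    push Not at hsub
    rcases exists_concl_or_irreducible hp hq hqp hd hih with h | hirr
    · exact h
    by_cases hC : ∀ c : Module.End K V, (∀ g ∈ Q, c * ρ g = ρ g * c) → ∃ μ : K, c = μ • 1
    · exact concl_of_primitive hq hqp hd hsub hC
    push Not at hC
    obtain ⟨c₀, hc₀, hns⟩ := hC
    let T : Module.End K (Module.End K V) :=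
      LinearMap.mulLeft K (ρ x) * LinearMap.mulRight K (ρ x⁻¹)
    have hTN : (T - 1) ^ (p ^ n) = 0 := by
      rw [sub_one_pow_eq (K := K), (LinearMap.commute_mulLeft_right _ _).mul_pow,
        LinearMap.pow_mulLeft, LinearMap.pow_mulRight, ← map_pow, ← map_pow, inv_pow, hd.pow]
      simp
      exact sub_eq_zero.mpr rfl
    let T₁ : Module.End K (Module.End K V) := T - 1
    have hTC : ∀ c : Module.End K V, (∀ g ∈ Q, c * ρ g = ρ g * c) →
        ∀ g ∈ Q, T₁ c * ρ g = ρ g * T₁ c := by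
      intro c hc g hg
      have h1 : T c * ρ g = ρ g * T c := by
        have h2 := hc _ (hd.inv_conj_mem hg)
        show ρ x * (c * ρ x⁻¹) * ρ g = ρ g * (ρ x * (c * ρ x⁻¹))
        calc ρ x * (c * ρ x⁻¹) * ρ g = ρ x * (c * ρ (x⁻¹ * g * x)) * ρ x⁻¹ := by
              simp [mul_assoc, rep_mul_inv]
          _ = ρ x * (ρ (x⁻¹ * g * x) * c) * ρ x⁻¹ := by rw [h2]
          _ = _ := by
              simp only [map_mul, ← mul_assoc, rep_mul_inv, one_mul]
      rw [show T₁ c = T c - c from rfl, sub_mul, mul_sub, h1, hc g hg]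
    have hcommpow : ∀ k, ∀ g ∈ Q, (T₁ ^ k) c₀ * ρ g = ρ g * (T₁ ^ k) c₀ := by
      intro k
      induction k with
      | zero => intro g hg; simpa using hc₀ g hg
      | succ k ihk =>
        intro g hg
        rw [pow_succ', Module.End.mul_apply]
        exact hTC _ ihk g hg
    classical
    have hex : ∃ k, ∃ ν : K, (T₁ ^ k) c₀ = ν • 1 := ⟨p ^ n, 0, by rw [show T₁ ^ (p ^ n) = 0 from hTN]; simp⟩
    have hk0 : Nat.find hex ≠ 0 := by
      intro h
      obtain ⟨ν, hν⟩ := Nat.find_spec hex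
      rw [h, pow_zero, Module.End.one_apply] at hν
      exact hns ν hν
    obtain ⟨j, hj⟩ := Nat.exists_eq_succ_of_ne_zero hk0
    obtain ⟨ν, hν⟩ := Nat.find_spec hex
    rw [hj, pow_succ', Module.End.mul_apply] at hν
    have hjn : ¬ ∃ ν : K, (T₁ ^ j) c₀ = ν • 1 := Nat.find_min hex (by omega)
    set c := (T₁ ^ j) c₀ with hc
    have hcx : c * ρ x = ρ x * c - ν • ρ x := by
      rw [show ∀ z, T₁ z = T z - z from fun z => rfl] at hν
      have h1 := congrArg (· * ρ x) hν
      simp only [T, Module.End.mul_apply, LinearMap.mulLeft_apply, LinearMap.mulRight_apply,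
        sub_mul, mul_assoc, rep_inv_mul, mul_one, smul_mul_assoc, one_mul] at h1
      rw [← h1]
      abel
    by_cases hν0 : ν = 0
    · exfalso
      rw [hν0, zero_smul, sub_zero] at hcx
      obtain ⟨a, ha⟩ := Module.End.exists_eigenvalue c
      apply hjn
      refine ⟨a, ?_⟩
      have hQE : Q ≤ stab ρ (c.eigenspace a) := by
        intro g hg v hv
        rw [Module.End.mem_eigenspace_iff] at hv ⊢
        rw [← Module.End.mul_apply, hcommpow j g hg, Module.End.mul_apply, hv, map_smul]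
      have hxE : x ∈ stab ρ (c.eigenspace a) := by
        intro v hv
        rw [Module.End.mem_eigenspace_iff] at hv ⊢
        rw [← Module.End.mul_apply, hcx, Module.End.mul_apply, hv, map_smul]
      rcases hirr _ hQE hxE with h | h
      · exact absurd h ha
      · apply LinearMap.ext
        intro v
        rw [LinearMap.smul_apply, Module.End.one_apply]
        exact Module.End.mem_eigenspace_iff.mp (h ▸ Submodule.mem_top)
    refine concl_of_shift hd hih hirr (ν⁻¹ • c) ?_ ?_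
    · intro g hg
      rw [smul_mul_assoc, hcommpow j g hg, mul_smul_comm]
    · rw [smul_mul_assoc, hcx, smul_sub, inv_smul_smul₀ hν0, mul_smul_comm]

end H11.HB
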