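import Mathlib

/-!
Invariant `q`-subgroups not centralised by a given element.
-/

set_option autoImplicit false
set_option linter.style.haveILetI false

open scoped Pointwise

namespace H11

variable {G : Type*} [Group G] {p : ℕ}

theorem exists_invariant_qgroup_of [Fact p.Prime] (R : Subgroup G) [Finite R]
    (hR : (Nat.card R).Coprime p) {a : G} {k : ℕ} (hak : a ^ (p ^ k) = 1)
    (ha : a ∈ Subgroup.normalizer (R : Set G)) {b : G}
    (hna : b ∉ Subgroup.centralizer (R : Set G)) :
    ∃ q : ℕ, q.Prime ∧ q ≠ p ∧ ∃ R₁ : Subgroup G, R₁ ≤ R ∧ IsPGroup q R₁ ∧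
      a ∈ Subgroup.normalizer (R₁ : Set G) ∧ b ∉ Subgroup.centralizer (R₁ : Set G) := by
  classical
  by_contra hcon
  push Not at hcon
  apply hna
  have hC : ∀ q : ℕ, q.Prime → q ∣ Nat.card R →
      q ^ (Nat.card R).factorization q ∣ Nat.card ↥(R ⊓ Subgroup.centralizer {b}) := by
    intro q hq hqR
    haveI : Fact q.Prime := ⟨hq⟩
    have hqp : q ≠ p := by
      rintro rfl
      exact hq.ne_one (Nat.Coprime.eq_one_of_dvd hR.symm hqR)
    have hle : Subgroup.zpowers a ≤ Subgroup.normalizer (R : Set G) :=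
      Subgroup.zpowers_le.mpr ha
    let f : Subgroup.zpowers a →* MulAut R :=
      (Subgroup.normalizerMonoidHom R).comp (Subgroup.inclusion hle)
    letI : MulDistribMulAction (Subgroup.zpowers a) R := MulDistribMulAction.compHom R f
    haveI hfin : Finite (Subgroup.zpowers a) := by
      have : IsOfFinOrder a :=
        isOfFinOrder_iff_pow_eq_one.mpr
          ⟨p ^ k, pow_pos (Fact.out : p.Prime).pos k, hak⟩
      exact (finite_zpowers.mpr this).to_subtype
    have hpg : IsPGroup p (Subgroup.zpowers a) := by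
      rintro ⟨y, j, rfl⟩
      refine ⟨k, Subtype.ext ?_⟩
      simp only [SubgroupClass.coe_pow, OneMemClass.coe_one]
      rw [← zpow_natCast, ← zpow_mul, mul_comm, zpow_mul, zpow_natCast, hak, one_zpow]
    have hn : ¬ p ∣ Nat.card (Sylow q R) := by
      obtain ⟨Q⟩ := (inferInstance : Nonempty (Sylow q R))
      intro h
      have h1 := (h.trans Q.card_dvd_index).trans (Subgroup.index_dvd_card _)
      exact (Fact.out : p.Prime).ne_one (Nat.Coprime.eq_one_of_dvd hR.symm h1)
    obtain ⟨Q, hQ⟩ :=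
      hpg.nonempty_fixed_point_of_prime_not_dvd_card (Sylow q R) hn
    set Q₁ := (Q : Subgroup R).map R.subtype with hQ₁
    have hmem : ∀ z ∈ Subgroup.zpowers a, ∀ x ∈ Q₁, z * x * z⁻¹ ∈ Q₁ := by
      rintro z hz _ ⟨x, hx, rfl⟩
      have h1 : (⟨z, hz⟩ : Subgroup.zpowers a) • Q = Q := hQ ⟨z, hz⟩
      have h2 : (⟨z, hz⟩ : Subgroup.zpowers a) • x ∈ (Q : Subgroup R) := by
        rw [← h1, Sylow.pointwise_smul_def]
        exact Subgroup.smul_mem_pointwise_smul x _ _ hx
      exact ⟨_, h2, rfl⟩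
    have haQ : a ∈ Subgroup.normalizer (Q₁ : Set G) := by
      rw [Subgroup.mem_normalizer_iff]
      intro x
      refine ⟨hmem a (Subgroup.mem_zpowers a) x, fun hx => ?_⟩
      have := hmem a⁻¹ (inv_mem (Subgroup.mem_zpowers a)) _ hx
      simpa [mul_assoc] using this
    have hcent := hcon q hq hqp Q₁ (Subgroup.map_subtype_le _) (Q.2.map _) haQ
    have hle2 : Q₁ ≤ R ⊓ Subgroup.centralizer {b} := fun x hx => ⟨Subgroup.map_subtype_le _ hx,
      Subgroup.mem_centralizer_singleton_iff.mpr (Subgroup.mem_centralizer_iff.mp hcent x hx)⟩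
    have := Subgroup.card_dvd_of_le hle2
    rwa [hQ₁, Subgroup.card_subtype, Q.card_eq_multiplicity] at this
  have hdvd : Nat.card R ∣ Nat.card ↥(R ⊓ Subgroup.centralizer {b}) := by
    rw [Nat.dvd_iff_prime_pow_dvd_dvd]
    intro q j hq hj
    rcases Nat.eq_zero_or_pos j with rfl | hjpos
    · simp
    refine (pow_dvd_pow q ?_).trans (hC q hq ((dvd_pow_self q hjpos.ne').trans hj))
    exact (hq.pow_dvd_iff_le_factorization Nat.card_pos.ne').mp hj
  haveI : Finite ↥(R ⊓ Subgroup.centralizer {b}) :=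
    Finite.of_injective (Subgroup.inclusion inf_le_left) (Subgroup.inclusion_injective _)
  have heq : R ⊓ Subgroup.centralizer {b} = R :=
    Subgroup.eq_of_le_of_card_ge inf_le_left (Nat.le_of_dvd Nat.card_pos hdvd)
  rw [Subgroup.mem_centralizer_iff]
  intro x hx
  rw [SetLike.mem_coe, ← heq] at hx
  exact Subgroup.mem_centralizer_singleton_iff.mp hx.2

end H11
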