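import Cfsg.Agent.H11.HallHigmanBase

/-!
Reduction steps in the proof of Theorem B of Hall and Higman.
-/

set_option autoImplicit false
set_option linter.style.haveILetI false

namespace H11.HB

universe u v w

open Finset

variable {G : Type u} [Group G] {K : Type v} [Field K] {V : Type w} [AddCommGroup V] [Module K V]

/-- The hypothesis: `x` of order dividing `p ^ n` normalises the `q`-group `Q`, and its power
`x ^ p ^ (n - 1)` does not centralise the image of `Q`. -/
structure Data (p q n : ℕ) (ρ : G →* Module.End K V) (Q : Subgroup G) (x : G) : Prop where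
  qgroup : IsPGroup q Q
  norm : ∀ g ∈ Q, x * g * x⁻¹ ∈ Q
  pos : 1 ≤ n
  pow : x ^ (p ^ n) = 1
  moved : ∃ g ∈ Q, ρ (x ^ (p ^ (n - 1)) * g) ≠ ρ (g * x ^ (p ^ (n - 1)))

/-- The image of `Q` is not commutative. -/
def NonComm (ρ : G →* Module.End K V) (Q : Subgroup G) : Prop :=
  ∃ g ∈ Q, ∃ h ∈ Q, ρ (g * h) ≠ ρ (h * g)

/-- The conclusion. -/
def Concl (p q n : ℕ) (ρ : G →* Module.End K V) (Q : Subgroup G) (x : G) : Prop :=
  (ρ x - 1) ^ (p ^ n - 1) ≠ 0 ∨ ∃ n₀ m : ℕ, 1 ≤ n₀ ∧ n₀ ≤ n ∧ 1 ≤ m ∧ p ^ n₀ - 1 = q ^ m ∧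
    NonComm ρ Q ∧ (ρ x - 1) ^ (p ^ (n - n₀) * (p ^ n₀ - 1) - 1) ≠ 0

/-- The induction hypothesis below the measure `μ`. -/
def IH (K : Type v) [Field K] (p q μ : ℕ) : Prop :=
  ∀ (V' : Type w) [AddCommGroup V'] [Module K V'] [FiniteDimensional K V']
    (G' : Type u) [Group G'] [Finite G'] (ρ' : G' →* Module.End K V') (Q' : Subgroup G') (x' : G')
    (n' : ℕ), Module.finrank K V' + Nat.card Q' < μ → Data p q n' ρ' Q' x' →
      Concl p q n' ρ' Q' x'

variable {p q n : ℕ} {ρ : G →* Module.End K V} {Q : Subgroup G} {x : G}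

theorem Data.conj_pow_mem (h : Data p q n ρ Q x) (i : ℕ) {g : G} (hg : g ∈ Q) :
    x ^ i * g * (x ^ i)⁻¹ ∈ Q := by
  induction i with
  | zero => simpa using hg
  | succ i ih =>
    have := h.norm _ ih
    rw [pow_succ']
    simpa [mul_assoc] using this

theorem Data.inv_conj_mem [Finite G] (h : Data p q n ρ Q x) {g : G} (hg : g ∈ Q) :
    x⁻¹ * g * x ∈ Q := by
  have hord : x⁻¹ = x ^ (orderOf x - 1) := by
    rw [inv_eq_iff_mul_eq_one, ← pow_succ', Nat.sub_add_cancel (orderOf_pos x), pow_orderOf_eq_one]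
  have := h.conj_pow_mem (orderOf x - 1) hg
  rw [← hord, inv_inv] at this
  exact this

theorem Data.card_cast_ne_zero [Finite G] (h : Data p q n ρ Q x) (hp : p.Prime) (hq : q.Prime)
    (hqp : q ≠ p) [CharP K p] : (Nat.card Q : K) ≠ 0 := by
  haveI := Fact.mk hq
  obtain ⟨e, he⟩ := h.qgroup.exists_card_eq
  rw [he, Nat.cast_pow]
  refine pow_ne_zero _ ?_
  intro hc
  rw [CharP.cast_eq_zero_iff K p] at hc
  exact hqp ((Nat.prime_dvd_prime_iff_eq hp hq).mp hc).symm

theorem Concl.of_subgroup {Q₁ : Subgroup G} (hle : Q₁ ≤ Q) (h : Concl p q n ρ Q₁ x) :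
    Concl p q n ρ Q x := by
  rcases h with h | ⟨n₀, m, h1, h2, h3, h4, ⟨g, hg, h', hh', hne⟩, h6⟩
  · exact Or.inl h
  · exact Or.inr ⟨n₀, m, h1, h2, h3, h4, ⟨g, hle hg, h', hle hh', hne⟩, h6⟩

theorem card_subgroupOf_stab [Finite G] {W : Submodule K V} (hQ : Q ≤ stab ρ W) :
    Nat.card ↥(Q.subgroupOf (stab ρ W)) = Nat.card Q :=
  Nat.card_congr (Subgroup.subgroupOfEquivOfLe hQ).toEquiv

/-- Induction to an invariant subspace. -/
theorem concl_of_subspace [Finite G] [FiniteDimensional K V]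
    (hd : Data p q n ρ Q x)
    (hih : IH.{u, v, w} K p q (Module.finrank K V + Nat.card Q)) (W : Submodule K V) (hW : W ≠ ⊤)
    (hQ : Q ≤ stab ρ W) (hx : x ∈ stab ρ W)
    (hm : ∃ g ∈ Q, ∃ v ∈ W, ρ (x ^ (p ^ (n - 1)) * g) v ≠ ρ (g * x ^ (p ^ (n - 1))) v) :
    Concl p q n ρ Q x := by
  have hd' : Data p q n (restrictRep ρ W) (Q.subgroupOf (stab ρ W)) ⟨x, hx⟩ := by
    refine ⟨hd.qgroup.of_equiv (Subgroup.subgroupOfEquivOfLe hQ).symm, ?_, hd.pos,
      Subtype.ext hd.pow, ?_⟩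
    · intro g hg
      exact hd.norm g.1 hg
    · obtain ⟨g, hg, v, hv, hne⟩ := hm
      refine ⟨⟨g, hQ hg⟩, hg, fun heq => hne ?_⟩
      have := congrArg Subtype.val (LinearMap.congr_fun heq ⟨v, hv⟩)
      simpa using this
  have hlt : Module.finrank K W + Nat.card ↥(Q.subgroupOf (stab ρ W)) <
      Module.finrank K V + Nat.card Q := by
    rw [card_subgroupOf_stab hQ]
    exact Nat.add_lt_add_right (Submodule.finrank_lt hW) _
  have key : ∀ j, ((restrictRep ρ W ⟨x, hx⟩ - 1) ^ j) ≠ 0 → ((ρ x - 1) ^ j) ≠ 0 := by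
    intro j hj h0
    apply hj
    apply LinearMap.ext
    intro v
    apply Subtype.ext
    rw [restrict_sub_one_pow]
    simp [h0]
  rcases hih W (stab ρ W) (restrictRep ρ W) _ _ n hlt hd' with
    h | ⟨n₀, m, h1, h2, h3, h4, ⟨g, hg, h', hh', hne⟩, h6⟩
  · exact Or.inl (key _ h)
  · refine Or.inr ⟨n₀, m, h1, h2, h3, h4, ⟨g.1, hg, h'.1, hh', fun heq => hne ?_⟩, key _ h6⟩
    apply LinearMap.ext
    intro v
    apply Subtype.ext
    simpa using LinearMap.congr_fun heq (v : V)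

/-- Induction to the quotient by an invariant subspace. -/
theorem concl_of_quot [Finite G] [FiniteDimensional K V]
    (hd : Data p q n ρ Q x)
    (hih : IH.{u, v, w} K p q (Module.finrank K V + Nat.card Q)) (W : Submodule K V) (hW : W ≠ ⊥)
    (hQ : Q ≤ stab ρ W) (hx : x ∈ stab ρ W)
    (hm : ∃ g ∈ Q, ∃ v, ρ (x ^ (p ^ (n - 1)) * g) v - ρ (g * x ^ (p ^ (n - 1))) v ∉ W) :
    Concl p q n ρ Q x := by
  have hd' : Data p q n (quotRep ρ W) (Q.subgroupOf (stab ρ W)) ⟨x, hx⟩ := by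
    refine ⟨hd.qgroup.of_equiv (Subgroup.subgroupOfEquivOfLe hQ).symm, ?_, hd.pos,
      Subtype.ext hd.pow, ?_⟩
    · intro g hg
      exact hd.norm g.1 hg
    · obtain ⟨g, hg, v, hne⟩ := hm
      refine ⟨⟨g, hQ hg⟩, hg, fun heq => hne ?_⟩
      have := LinearMap.congr_fun heq (Submodule.Quotient.mk v)
      rw [quotRep_mk, quotRep_mk, Submodule.Quotient.eq] at this
      simpa using this
  have hlt : Module.finrank K (V ⧸ W) + Nat.card ↥(Q.subgroupOf (stab ρ W)) <
      Module.finrank K V + Nat.card Q := by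
    rw [card_subgroupOf_stab hQ]
    refine Nat.add_lt_add_right ?_ _
    have h1 := Submodule.finrank_quotient_add_finrank W
    have h2 : 0 < Module.finrank K W :=
      Nat.pos_of_ne_zero fun h => hW (Submodule.finrank_eq_zero.mp h)
    omega
  have key : ∀ j, ((quotRep ρ W ⟨x, hx⟩ - 1) ^ j) ≠ 0 → ((ρ x - 1) ^ j) ≠ 0 := by
    intro j hj h0
    apply hj
    apply Submodule.linearMap_qext
    apply LinearMap.ext
    intro v
    simp [quot_sub_one_pow, h0]
  rcases hih (V ⧸ W) (stab ρ W) (quotRep ρ W) _ _ n hlt hd' with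
    h | ⟨n₀, m, h1, h2, h3, h4, ⟨g, hg, h', hh', hne⟩, h6⟩
  · exact Or.inl (key _ h)
  · refine Or.inr ⟨n₀, m, h1, h2, h3, h4, ⟨g.1, hg, h'.1, hh', fun heq => hne ?_⟩, key _ h6⟩
    apply Submodule.linearMap_qext
    apply LinearMap.ext
    intro v
    simpa using congrArg (Submodule.Quotient.mk (p := W)) (LinearMap.congr_fun heq v)

theorem exists_concl_or_irreducible [Finite G] [FiniteDimensional K V] (hp : p.Prime) (hq : q.Prime)
    (hqp : q ≠ p) [CharP K p] (hd : Data p q n ρ Q x)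
    (hih : IH.{u, v, w} K p q (Module.finrank K V + Nat.card Q)) :
    Concl p q n ρ Q x ∨
      ∀ W : Submodule K V, Q ≤ stab ρ W → x ∈ stab ρ W → W = ⊥ ∨ W = ⊤ := by
  set b := x ^ (p ^ (n - 1)) with hb
  by_contra hcon
  push Not at hcon
  obtain ⟨hC, W, hQ, hx, hbot, htop⟩ := hcon
  by_cases h1 : ∃ g ∈ Q, ∃ v ∈ W, ρ (b * g) v ≠ ρ (g * b) v
  · exact hC (concl_of_subspace hd hih W htop hQ hx h1)
  by_cases h2 : ∃ g ∈ Q, ∃ v, ρ (b * g) v - ρ (g * b) v ∉ W
  · exact hC (concl_of_quot hd hih W hbot hQ hx h2)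
  push Not at h1 h2
  obtain ⟨g, hg, hne⟩ := hd.moved
  apply hne
  have hbW : b ∈ stab ρ W := pow_mem hx _
  set c := g⁻¹ * b * g * b⁻¹ with hc
  have hcQ : c ∈ Q := by
    have := mul_mem (inv_mem hg) (hd.conj_pow_mem (p ^ (n - 1)) hg)
    rw [hc, hb]
    simpa [mul_assoc] using this
  have hW0 : ∀ v ∈ W, ρ c v = v := by
    intro v hv
    have hv' : ρ b⁻¹ v ∈ W := (inv_mem hbW) v hv
    have e1 : ρ c v = ρ g⁻¹ (ρ (b * g) (ρ b⁻¹ v)) := by
      rw [hc]; simp [map_mul]
    rw [e1, h1 g hg _ hv', ← Module.End.mul_apply, ← Module.End.mul_apply, ← map_mul, ← map_mul]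
    simp
  have hWq : ∀ v, ρ c v - v ∈ W := by
    intro v
    have e1 : ρ c v - v = ρ g⁻¹ (ρ (b * g) (ρ b⁻¹ v) - ρ (g * b) (ρ b⁻¹ v)) := by
      rw [map_sub, ← Module.End.mul_apply, ← Module.End.mul_apply, ← map_mul, ← map_mul,
        ← Module.End.mul_apply, ← Module.End.mul_apply, ← map_mul, ← map_mul]
      simp [hc, mul_assoc]
    rw [e1]
    exact (inv_mem (hQ hg)) _ (h2 g hg _)
  haveI := Fact.mk hq
  obtain ⟨e, he⟩ := hd.qgroup ⟨c, hcQ⟩
  have hce : c ^ (q ^ e) = 1 := congrArg Subtype.val he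
  have hρc : ρ c = 1 := by
    refine eq_one_of_sub_one_sq (K := K) (k := q ^ e) ?_ (by rw [← map_pow, hce, map_one]) ?_
    · rw [Nat.cast_pow]
      refine pow_ne_zero _ fun h => ?_
      rw [CharP.cast_eq_zero_iff K p] at h
      exact hqp ((Nat.prime_dvd_prime_iff_eq hp hq).mp h).symm
    · apply LinearMap.ext
      intro v
      rw [Module.End.mul_apply]
      simp only [LinearMap.sub_apply, Module.End.one_apply, LinearMap.zero_apply]
      exact sub_eq_zero.mpr (hW0 _ (hWq v))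
  calc ρ (b * g) = ρ (g * c * b) := by rw [hc]; simp [mul_assoc]
    _ = ρ (g * b) := by rw [map_mul, map_mul, hρc, mul_one, ← map_mul]

/-- If some operator `c` commuting with `Q` is shifted by `x`, the space splits into `p` pieces. -/
theorem concl_of_shift [Finite G] [FiniteDimensional K V] [Fact p.Prime] [CharP K p]
    [IsAlgClosed K] [Nontrivial V] (hd : Data p q n ρ Q x)
    (hih : IH.{u, v, w} K p q (Module.finrank K V + Nat.card Q))
    (hirr : ∀ W : Submodule K V, Q ≤ stab ρ W → x ∈ stab ρ W → W = ⊥ ∨ W = ⊤)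
    (c : Module.End K V) (hcQ : ∀ g ∈ Q, c * ρ g = ρ g * c)
    (hcx : c * ρ x = ρ x * c - ρ x) : Concl p q n ρ Q x := by
  obtain ⟨a, ha⟩ := Module.End.exists_eigenvalue c
  set W := c.eigenspace a with hWdef
  have hAinj : ∀ i : ℕ, Function.Injective (ρ (x ^ i)) := by
    intro i v w h
    have h1 := congrArg (ρ (x ^ i)⁻¹) h
    rwa [← Module.End.mul_apply, ← Module.End.mul_apply, ← map_mul, inv_mul_cancel, map_one,
      Module.End.one_apply, Module.End.one_apply] at h1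
  have hshift : ∀ i : ℕ, ∀ v ∈ W, c (ρ (x ^ i) v) = (a - (i : K)) • ρ (x ^ i) v := by
    intro i
    induction i with
    | zero =>
      intro v hv
      simpa using Module.End.mem_eigenspace_iff.mp hv
    | succ i ih =>
      intro v hv
      have h1 := LinearMap.congr_fun hcx (ρ (x ^ i) v)
      rw [pow_succ', map_mul, Module.End.mul_apply]
      rw [Module.End.mul_apply, LinearMap.sub_apply, Module.End.mul_apply, ih v hv, map_smul] at h1
      rw [h1, Nat.cast_succ, ← sub_sub, sub_smul (a - (i : K)), one_smul]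
  have hWQ : Q ≤ stab ρ W := by
    intro g hg v hv
    rw [hWdef, Module.End.mem_eigenspace_iff] at hv ⊢
    rw [← Module.End.mul_apply, hcQ g hg, Module.End.mul_apply, hv, map_smul]
  have hWx : x ^ p ∈ stab ρ W := by
    intro v hv
    rw [hWdef, Module.End.mem_eigenspace_iff, hshift p v hv, CharP.cast_eq_zero, sub_zero]
  have hWbot : W ≠ ⊥ := ha
  have hWtop : W ≠ ⊤ := by
    intro h
    obtain ⟨v, hv⟩ := exists_ne (0 : V)
    have h1 := hshift 1 v (h ▸ Submodule.mem_top)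
    have h2 := Module.End.mem_eigenspace_iff.mp (h ▸ Submodule.mem_top : ρ (x ^ 1) v ∈ W)
    rw [h2, Nat.cast_one, sub_smul, one_smul, eq_comm, sub_eq_self] at h1
    exact hv (hAinj 1 (by rw [h1, map_zero]))
  have hfree : ∀ u ∈ W, u ≠ 0 → ((ρ x - 1) ^ (p - 1)) u ≠ 0 := by
    intro u hu hu0 h0
    have hgs := geom_sum_eq_sub_one_pow (K := K) p (ρ x) 1
    rw [pow_one] at hgs
    rw [← hgs] at h0
    simp only [LinearMap.sum_apply, ← map_pow] at h0
    have hli := Module.End.eigenvectors_linearIndependent' c (fun i : Fin p => a - ((i : ℕ) : K))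
      (fun i j h => by
        simp only [sub_right_inj] at h
        exact Fin.ext (CharP.natCast_injOn_Iio K p i.2 j.2 h))
      (fun i : Fin p => ρ (x ^ (i : ℕ)) u) (fun i =>
        ⟨Module.End.mem_eigenspace_iff.mpr (hshift i u hu),
          fun h => hu0 (hAinj i (by rw [h, map_zero]))⟩)
    have := Fintype.linearIndependent_iff.mp hli (fun _ => 1)
      (by rw [← h0, Finset.sum_range]; simp) ⟨0, (Fact.out : p.Prime).pos⟩
    exact one_ne_zero this
  have hlift : ∀ j : ℕ, ∀ v ∈ W, ((ρ (x ^ p) - 1) ^ j) v ≠ 0 →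
      (ρ x - 1) ^ (p * j + (p - 1)) ≠ 0 := by
    intro j v hv hne h0
    have hu : ((ρ (x ^ p) - 1) ^ j) v ∈ W := by
      have := restrict_sub_one_pow ρ W ⟨x ^ p, hWx⟩ j ⟨v, hv⟩
      rw [← this]
      exact Submodule.coe_mem _
    apply hfree _ hu hne
    rw [map_pow, show ρ x ^ p - 1 = (ρ x - 1) ^ p by
      simpa using (sub_one_pow_eq (K := K) p (ρ x) 1).symm, ← pow_mul, ← Module.End.mul_apply,
      ← pow_add, add_comm, h0, LinearMap.zero_apply]
  obtain ⟨v₀, hv₀, hv₀ne⟩ := Submodule.exists_mem_ne_zero_of_ne_bot hWbot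
  by_cases hn : n = 1
  · subst hn
    refine Or.inl ?_
    simpa using hlift 0 v₀ hv₀ (by simpa using hv₀ne)
  have hn2 : 2 ≤ n := by have := hd.pos; omega
  have hpp : p * p ^ (n - 1 - 1) = p ^ (n - 1) := by
    rw [← pow_succ', Nat.sub_add_cancel (by omega)]
  have hbx : (x ^ p) ^ (p ^ (n - 1 - 1)) = x ^ (p ^ (n - 1)) := by rw [← pow_mul, hpp]
  set b := x ^ (p ^ (n - 1)) with hb
  have hd' : Data p q (n - 1) (restrictRep ρ W) (Q.subgroupOf (stab ρ W)) ⟨x ^ p, hWx⟩ := by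
    refine ⟨hd.qgroup.of_equiv (Subgroup.subgroupOfEquivOfLe hWQ).symm, ?_, by omega, ?_, ?_⟩
    · intro g hg
      exact hd.conj_pow_mem p hg
    · apply Subtype.ext
      show (x ^ p) ^ (p ^ (n - 1)) = 1
      rw [← pow_mul, ← pow_succ', Nat.sub_add_cancel hd.pos, hd.pow]
    · by_contra hcon
      push Not at hcon
      have hfix : ∀ g ∈ Q, ∀ v ∈ W, ρ (b * g) v = ρ (g * b) v := by
        intro g hg v hv
        have := congrArg Subtype.val (LinearMap.congr_fun (hcon ⟨g, hWQ hg⟩ hg) ⟨v, hv⟩)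
        simpa [hbx] using this
      let Fx : Submodule K V :=
        ⨅ g : Q, LinearMap.ker (ρ (b * g.1) - ρ (g.1 * b))
      have hmem : ∀ v, v ∈ Fx ↔ ∀ g ∈ Q, ρ (b * g) v = ρ (g * b) v := by
        intro v
        simp [Fx, Submodule.mem_iInf, sub_eq_zero, Subtype.forall]
      have hFQ : Q ≤ stab ρ Fx := by
        intro h hh v hv
        rw [hmem] at hv ⊢
        intro g hg
        have e1 := hv (g * h) (mul_mem hg hh)
        have e2 := hv h hh
        rw [← mul_assoc] at e1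
        simp only [map_mul, Module.End.mul_apply] at e1 e2 ⊢
        rw [e1, e2]
      have hFx : x ∈ stab ρ Fx := by
        intro v hv
        rw [hmem] at hv ⊢
        intro g hg
        have e1 := hv _ (hd.inv_conj_mem hg)
        rw [← Module.End.mul_apply, ← Module.End.mul_apply, ← map_mul, ← map_mul]
        have c1 : b * g * x = x * (b * (x⁻¹ * g * x)) := by
          rw [hb, ← mul_assoc x, (Commute.self_pow x _).eq]
          simp [mul_assoc]
        have c2 : g * b * x = x * (x⁻¹ * g * x * b) := by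
          rw [mul_assoc g b x, hb, ← (Commute.self_pow x _).eq]
          simp [mul_assoc]
        rw [c1, c2, map_mul ρ x, map_mul ρ x, Module.End.mul_apply, Module.End.mul_apply, e1]
      rcases hirr Fx hFQ hFx with h | h
      · exact hv₀ne ((Submodule.eq_bot_iff Fx).mp h v₀ ((hmem v₀).mpr fun g hg => hfix g hg v₀ hv₀))
      · obtain ⟨g, hg, hne⟩ := hd.moved
        exact hne (LinearMap.ext fun v => (hmem v).mp (h ▸ Submodule.mem_top) g hg)
  have hlt : Module.finrank K W + Nat.card ↥(Q.subgroupOf (stab ρ W)) <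
      Module.finrank K V + Nat.card Q := by
    rw [card_subgroupOf_stab hWQ]
    exact Nat.add_lt_add_right (Submodule.finrank_lt hWtop) _
  have hget : ∀ j, (restrictRep ρ W ⟨x ^ p, hWx⟩ - 1) ^ j ≠ 0 →
      (ρ x - 1) ^ (p * j + (p - 1)) ≠ 0 := by
    intro j hj
    obtain ⟨v, hv⟩ := DFunLike.ne_iff.mp hj
    refine hlift j v v.2 fun h0 => hv (Subtype.ext ?_)
    rw [restrict_sub_one_pow]
    exact h0
  rcases hih W (stab ρ W) (restrictRep ρ W) _ _ (n - 1) hlt hd' with
    h | ⟨n₀, m, h1, h2, h3, h4, ⟨g, hg, h', hh', hne⟩, h6⟩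
  · refine Or.inl ?_
    have := hget _ h
    have e : p * (p ^ (n - 1) - 1) + (p - 1) = p ^ n - 1 := by
      have e2 : p ^ n = p * p ^ (n - 1) := by rw [← pow_succ', Nat.sub_add_cancel hd.pos]
      have e3 : 1 ≤ p ^ (n - 1) := Nat.one_le_pow _ _ (Fact.out : p.Prime).pos
      have e4 : p ≤ p * p ^ (n - 1) := Nat.le_mul_of_pos_right _ e3
      have e5 := (Fact.out : p.Prime).one_le
      rw [Nat.mul_sub, mul_one, e2]
      omega
    rwa [e] at this
  · refine Or.inr ⟨n₀, m, h1, by omega, h3, h4, ⟨g.1, hg, h'.1, hh', fun heq => hne ?_⟩, ?_⟩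
    · apply LinearMap.ext
      intro v
      apply Subtype.ext
      simpa using LinearMap.congr_fun heq (v : V)
    · have := hget _ h6
      have e : p * (p ^ (n - 1 - n₀) * (p ^ n₀ - 1) - 1) + (p - 1) =
          p ^ (n - n₀) * (p ^ n₀ - 1) - 1 := by
        have e2 : p ^ (n - n₀) = p * p ^ (n - 1 - n₀) := by
          rw [← pow_succ']; congr 1; omega
        have e3 : 1 ≤ p ^ (n - 1 - n₀) * (p ^ n₀ - 1) := by
          refine Nat.one_le_iff_ne_zero.mpr (Nat.mul_ne_zero ?_ ?_)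
          · exact (pow_pos (Fact.out : p.Prime).pos _).ne'
          · have := Nat.one_lt_pow (by omega : n₀ ≠ 0) (Fact.out : p.Prime).one_lt
            omega
        have e4 : p ≤ p * (p ^ (n - 1 - n₀) * (p ^ n₀ - 1)) := Nat.le_mul_of_pos_right _ e3
        have e5 := (Fact.out : p.Prime).one_le
        rw [Nat.mul_sub, mul_one, e2, mul_assoc]
        omega
      rwa [e] at this

end H11.HB
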