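import Cfsg.Agent.H10.UpperSeries
import Cfsg.Agent.H82.PLength
import Cfsg.Agent.H1.Cores

/-!
The `p`-length of a `p`-soluble group is at most the class of its Sylow `p`-subgroups.
-/

set_option autoImplicit false
set_option linter.style.haveILetI false

open Cfsg

namespace H11

universe u

theorem comap_cores_comap {A B : Type*} [Group A] [Group B] (p : ℕ) (g : A →* B)
    (hg : Function.Surjective g) (N : Subgroup A) [N.Normal] (M : Subgroup B) [M.Normal]
    (hN : N = M.comap g) :
    (pCore p (A ⧸ N)).comap (QuotientGroup.mk' N) =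
        ((pCore p (B ⧸ M)).comap (QuotientGroup.mk' M)).comap g ∧
      (pPrimeCore p (A ⧸ N)).comap (QuotientGroup.mk' N) =
        ((pPrimeCore p (B ⧸ M)).comap (QuotientGroup.mk' M)).comap g := by
  have hker : ((QuotientGroup.mk' M).comp g).ker = N := by
    rw [hN, ← MonoidHom.comap_ker, QuotientGroup.ker_mk']
  let e : A ⧸ N ≃* B ⧸ M := (QuotientGroup.quotientMulEquivOfEq hker.symm).trans
    (QuotientGroup.quotientKerEquivOfSurjective _ ((QuotientGroup.mk'_surjective M).comp hg))
  have he : ∀ x, e (QuotientGroup.mk' N x) = QuotientGroup.mk' M (g x) := fun x => rfl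
  constructor
  · rw [← H10.map_pCore_equiv e]
    ext x
    simp only [Subgroup.mem_comap, ← he]
    exact (Subgroup.mem_map_iff_mem (f := e.toMonoidHom) e.injective).symm
  · rw [← H10.map_pPrimeCore_equiv e]
    ext x
    simp only [Subgroup.mem_comap, ← he]
    exact (Subgroup.mem_map_iff_mem (f := e.toMonoidHom) e.injective).symm

theorem upperPSeries_add_two {G : Type*} [Group G] (p n : ℕ) :
    (upperPSeries p G (n + 2)).1 = (upperPSeries p (G ⧸ (upperPSeries p G 2).1) n).1.comap
      (QuotientGroup.mk' (upperPSeries p G 2).1) := by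
  induction n with
  | zero => rw [H10.upperPSeries_zero, MonoidHom.comap_bot, QuotientGroup.ker_mk']
  | succ n ih =>
    have key := comap_cores_comap p (QuotientGroup.mk' (upperPSeries p G 2).1)
      (QuotientGroup.mk'_surjective _) (upperPSeries p G (n + 2)).1
      (upperPSeries p (G ⧸ (upperPSeries p G 2).1) n).1 ih
    by_cases h : Even n
    · rw [show n + 1 + 2 = (n + 2) + 1 by omega, H10.upperPSeries_succ_of_even (by simp [Nat.even_add, h]),
        H10.upperPSeries_succ_of_even h]
      exact key.2
    · rw [show n + 1 + 2 = (n + 2) + 1 by omega, H10.upperPSeries_succ_of_not_even (by simp [Nat.even_add, h]),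
        H10.upperPSeries_succ_of_not_even h]
      exact key.1

theorem pLengthLE_of_class_le (p : ℕ) [Fact p.Prime] (c : ℕ) :
    ∀ (G : Type u) [Group G] [Finite G], IsPSolvable p G → ∀ S : Sylow p G,
      Group.nilpotencyClass ↥(S : Subgroup G) ≤ c → PLengthLE p c G := by
  induction c with
  | zero =>
    intro G _ _ _ S hS
    haveI := S.2.isNilpotent
    haveI : Subsingleton ↥(S : Subgroup G) :=
      Group.nilpotencyClass_zero_iff_subsingleton.mp (Nat.le_zero.mp hS)
    have hnd : ¬ p ∣ Nat.card G := by
      have h := S.not_dvd_index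
      rwa [Subgroup.eq_bot_of_subsingleton (S : Subgroup G), Subgroup.index_bot] at h
    show (upperPSeries p G (2 * 0 + 1)).1 = ⊤
    rw [show 2 * 0 + 1 = 1 from rfl, H82.upperPSeries_one, eq_top_iff]
    refine H10.le_pPrimeCore inferInstance ?_
    rw [Subgroup.card_top]
    exact ((Fact.out : p.Prime).coprime_iff_not_dvd.mpr hnd).symm
  | succ c ih =>
    intro G _ _ hsol S hS
    haveI := S.2.isNilpotent
    haveI := H1.pPrimeCore_normal' p G
    set f := QuotientGroup.mk' (upperPSeries p G 2).1 with hf
    have hcen : ∀ z ∈ Subgroup.center ↥(S : Subgroup G), (z : G) ∈ (upperPSeries p G 2).1 := by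
      intro z hz
      rw [H82.upperPSeries_two, Cfsg.pPrimePCore, Subgroup.mem_comap]
      set q := QuotientGroup.mk' (pPrimeCore p G) with hq
      refine H10.centralizer_pCore_le (H10.isPSolvable_quotient hsol _) H10.pPrimeCore_quotient_pPrimeCore ?_
      rw [Subgroup.mem_centralizer_iff]
      intro y hy
      obtain ⟨s, hs, rfl⟩ := H1.pCore_le_sylow (S.mapSurjective (QuotientGroup.mk'_surjective _)) hy
      rw [← map_mul, ← map_mul]
      exact congrArg q (congrArg Subtype.val (Subgroup.mem_center_iff.mp hz ⟨s, hs⟩))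
    have hclass : Group.nilpotencyClass ↥((S : Subgroup G).map f) ≤ c := by
      let g := QuotientGroup.lift (Subgroup.center ↥(S : Subgroup G)) (f.subgroupMap (S : Subgroup G))
        (fun z hz => Subtype.ext ((QuotientGroup.eq_one_iff _).mpr (hcen z hz)))
      have hg : Function.Surjective g := fun y => by
        obtain ⟨x, hx⟩ := f.subgroupMap_surjective (S : Subgroup G) y
        exact ⟨QuotientGroup.mk x, hx⟩
      refine (Group.nilpotencyClass_le_of_surjective g hg).trans ?_
      rw [Group.nilpotencyClass_quotient_center]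
      omega
    have h := ih (G ⧸ (upperPSeries p G 2).1) (H10.isPSolvable_quotient hsol _)
      (S.mapSurjective (QuotientGroup.mk'_surjective _)) hclass
    show (upperPSeries p G (2 * (c + 1) + 1)).1 = ⊤
    rw [show 2 * (c + 1) + 1 = (2 * c + 1) + 2 by omega, upperPSeries_add_two,
      show (upperPSeries p (G ⧸ (upperPSeries p G 2).1) (2 * c + 1)).1 = ⊤ from h, Subgroup.comap_top]

end H11
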