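import Cfsg.Agent.H10.QuadPair

/-!
The quadratic pair theorem of Kurzweil–Stellmacher together with the plane it comes from.
-/

set_option autoImplicit false
set_option linter.style.haveILetI false

namespace H11

open Polynomial H10

variable {K : Type*} [Field K] {W : Type*} [AddCommGroup W] [Module K W]
  {H : Type*} [Group H] {p : ℕ}

/-- Kurzweil–Stellmacher 9.1.4, with the plane as a subquotient of the module. -/
theorem exists_sl2_module_of_quadratic_pair [CharP K p] [Fact p.Prime] [FiniteDimensional K W]
    (a b : H) (hgen : Subgroup.closure ({a, b} : Set H) = ⊤) {N : ℕ} (hN0 : N ≠ 0)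
    (hs : (X ^ N - 1 : K[X]).Splits) (hN : (a * b) ^ N = 1)
    (ρ : H →* Module.End K W) (ha : (ρ a - 1) * (ρ a - 1) = 0)
    (hb : (ρ b - 1) * (ρ b - 1) = 0) (hnp : ¬ ∀ h, ∃ k : ℕ, ρ h ^ (p ^ k) = 1) :
    ∃ φ : H →* Matrix.SpecialLinearGroup (Fin 2) K,
      (((φ a : Matrix (Fin 2) (Fin 2) K) - 1) * ((φ a : Matrix (Fin 2) (Fin 2) K) - 1) = 0) ∧
      (((φ b : Matrix (Fin 2) (Fin 2) K) - 1) * ((φ b : Matrix (Fin 2) (Fin 2) K) - 1) = 0) ∧
      (¬ ∀ h, ∃ k : ℕ, φ h ^ (p ^ k) = 1) ∧
      ∃ (U' : Submodule K W) (π : U' →ₗ[K] (Fin 2 → K)), Function.Surjective π ∧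
        ∀ h (x : U'), ∃ hx : ρ h x ∈ U',
          π ⟨ρ h x, hx⟩ = (φ h : Matrix (Fin 2) (Fin 2) K).mulVec (π x) := by
  induction hd : Module.finrank K W using Nat.strong_induction_on generalizing W with
  | _ d ih =>
    subst hd
    rcases subsingleton_or_nontrivial W with hW | hW
    · exact absurd (fun h => ⟨0, Subsingleton.elim _ _⟩) hnp
    obtain ⟨μ, hμ, u, hu, huμ⟩ :=
      exists_eigenvector (ρ (a * b)) hN0 (by rw [← map_pow, hN, map_one]) hs
    set U := Submodule.span K ({u, ρ a u} : Set W) with hUdef
    have huU : u ∈ U := Submodule.subset_span (Set.mem_insert _ _)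
    have hvU : ρ a u ∈ U := Submodule.subset_span (Set.mem_insert_of_mem _ rfl)
    have hbu : ρ b u = μ • ((2 : K) • u - ρ a u) := by
      have h1 : ρ b u = ρ a⁻¹ (ρ (a * b) u) := by
        rw [← Module.End.mul_apply, ← map_mul, inv_mul_cancel_left]
      rw [h1, huμ, map_smul, quad_inv ρ a ha]
      congr 1
      rw [LinearMap.sub_apply, Module.End.ofNat_apply, ← Nat.cast_smul_eq_nsmul K, Nat.cast_ofNat]
    have hbuU : ρ b u ∈ U := by
      rw [hbu]; exact U.smul_mem _ (U.sub_mem (U.smul_mem _ huU) hvU)
    have hbv : ρ b (ρ a u) ∈ U := by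
      have h1 : ρ a u = (2 : K) • u - μ⁻¹ • ρ b u := by
        rw [hbu, inv_smul_smul₀ hμ, sub_sub_cancel]
      rw [h1, map_sub, map_smul, map_smul, quad_apply hb]
      exact U.sub_mem (U.smul_mem _ hbuU)
        (U.smul_mem _ (U.sub_mem (U.smul_mem _ hbuU) huU))
    have hav : ρ a (ρ a u) ∈ U := by
      rw [quad_apply ha]; exact U.sub_mem (U.smul_mem _ hvU) huU
    have hinv : ∀ h : H, ∀ x ∈ U, ρ h x ∈ U := by
      have spanA : ∀ x ∈ U, ρ a x ∈ U := fun x hx => by
        have : U ≤ U.comap (ρ a) := by
          rw [hUdef, Submodule.span_le]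
          rintro _ (rfl | rfl)
          · exact hvU
          · exact hav
        exact this hx
      have spanB : ∀ x ∈ U, ρ b x ∈ U := fun x hx => by
        have : U ≤ U.comap (ρ b) := by
          rw [hUdef, Submodule.span_le]
          rintro _ (rfl | rfl)
          · exact hbuU
          · exact hbv
        exact this hx
      have hi : ∀ c, (ρ c - 1) * (ρ c - 1) = 0 → (∀ x ∈ U, ρ c x ∈ U) →
          ∀ x ∈ U, ρ c⁻¹ x ∈ U := by
        intro c hc hcU x hx
        rw [quad_inv ρ c hc, LinearMap.sub_apply, Module.End.ofNat_apply]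
        exact U.sub_mem (U.toAddSubgroup.nsmul_mem hx _) (hcU x hx)
      refine pair_induction a b hgen (fun x hx => by simpa using hx) spanA (hi a ha spanA) spanB
        (hi b hb spanB) fun x y h1 h2 z hz => ?_
      rw [map_mul, Module.End.mul_apply]
      exact h1 _ (h2 z hz)
    -- the restriction
    let ρ₁ : H →* Module.End K U :=
      { toFun := fun h => (ρ h).restrict (hinv h)
        map_one' := by ext x; simp
        map_mul' := fun x y => by ext z; simp }
    have hρ₁ : ∀ (h : H) (x : U), ((ρ₁ h x : U) : W) = ρ h x := fun h x => rfl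
    let ρ₂ : H →* Module.End K (W ⧸ U) :=
      { toFun := fun h => U.mapQ U (ρ h) (hinv h)
        map_one' := by ext x; simp
        map_mul' := fun x y => by ext z; simp }
    have hρ₂ : ∀ (h : H) (x : W), ρ₂ h (Submodule.Quotient.mk x) = Submodule.Quotient.mk (ρ h x) :=
      fun h x => rfl
    have quad₁ : ∀ c, (ρ c - 1) * (ρ c - 1) = 0 → (ρ₁ c - 1) * (ρ₁ c - 1) = 0 := by
      intro c hc
      ext x
      have := congrArg (fun g : Module.End K W => g (x : W)) hc
      simpa [hρ₁] using this
    by_cases hcase : ∀ h, ∃ k : ℕ, ρ₁ h ^ (p ^ k) = 1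
    · -- the quotient
      have quad₂ : ∀ c, (ρ c - 1) * (ρ c - 1) = 0 → (ρ₂ c - 1) * (ρ₂ c - 1) = 0 := by
        intro c hc
        ext x
        have := congrArg (fun g : Module.End K W => (Submodule.Quotient.mk (g x) : W ⧸ U)) hc
        simpa [hρ₂] using this
      have hnp₂ : ¬ ∀ h, ∃ k : ℕ, ρ₂ h ^ (p ^ k) = 1 := by
        intro h2
        apply hnp
        intro h
        obtain ⟨i, hi⟩ := hcase h
        obtain ⟨j, hj⟩ := h2 h
        have e1 : ρ₁ (h ^ (p ^ (i + j))) = 1 := by
          rw [map_pow, pow_add, pow_mul, hi, one_pow]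
        have e2 : ρ₂ (h ^ (p ^ (i + j))) = 1 := by
          rw [map_pow, pow_add, mul_comm, pow_mul, hj, one_pow]
        have hq : (ρ (h ^ (p ^ (i + j))) - 1) * (ρ (h ^ (p ^ (i + j))) - 1) = 0 := by
          ext x
          have hxU : ρ (h ^ (p ^ (i + j))) x - x ∈ U := by
            rw [← Submodule.Quotient.eq, ← hρ₂, e2, Module.End.one_apply]
          have h3 : ρ (h ^ (p ^ (i + j))) (ρ (h ^ (p ^ (i + j))) x - x) =
              ρ (h ^ (p ^ (i + j))) x - x := by
            have := hρ₁ (h ^ (p ^ (i + j))) ⟨_, hxU⟩
            rw [e1] at this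
            simpa using this.symm
          simp only [Module.End.mul_apply, LinearMap.sub_apply, Module.End.one_apply,
            LinearMap.zero_apply, h3, sub_self]
        refine ⟨i + j + 1, ?_⟩
        rw [pow_succ, pow_mul, ← map_pow]
        exact pow_char_of_quad hq
      have hlt : Module.finrank K (W ⧸ U) < Module.finrank K W := by
        have h1 := U.finrank_quotient_add_finrank
        have h2 : 0 < Module.finrank K U := by
          rw [Module.finrank_pos_iff_exists_ne_zero]
          exact ⟨⟨u, huU⟩, fun h => hu (congrArg Subtype.val h)⟩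
        omega
      obtain ⟨φ, h1, h2, h3, U', π, hπ, hequi⟩ := ih _ hlt ρ₂ (quad₂ a ha) (quad₂ b hb) hnp₂ rfl
      refine ⟨φ, h1, h2, h3, U'.comap U.mkQ, π.comp (U.mkQ.restrict (fun x hx => hx)), ?_, ?_⟩
      · intro y
        obtain ⟨⟨z, hz⟩, rfl⟩ := hπ y
        obtain ⟨w, rfl⟩ := U.mkQ_surjective z
        exact ⟨⟨w, hz⟩, rfl⟩
      · intro h x
        obtain ⟨hx, he⟩ := hequi h ⟨U.mkQ x, x.2⟩
        exact ⟨hx, he⟩
    · -- a plane
      have hdim : Module.finrank K U = 2 := by
        rw [hUdef]
        have hli : LinearIndependent K ![u, ρ a u] := by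
          rw [LinearIndependent.pair_iff' hu]
          intro c hc
          apply hcase
          have hc1 : c = 1 := by
            have := quad_apply ha u
            rw [← hc, map_smul, ← hc, smul_smul, smul_smul] at this
            have h2 : (c * c - (2 * c - 1)) • u = 0 := by
              rw [sub_smul, this, sub_smul, one_smul, sub_self]
            rcases smul_eq_zero.mp h2 with h3 | h3
            · have h4 : (c - 1) * (c - 1) = 0 := by linear_combination h3
              exact sub_eq_zero.mp (mul_self_eq_zero.mp h4)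
            · exact absurd h3 hu
          rw [hc1, one_smul] at hc
          have hau : ρ a u = u := hc.symm
          have hb2 : ρ b u = u := by
            have hb1 : ρ b u = μ • u := by
              rw [hbu, hau, two_smul, add_sub_cancel_right]
            have := quad_apply hb u
            rw [hb1, map_smul, hb1, smul_smul, smul_smul] at this
            have h2 : (μ * μ - (2 * μ - 1)) • u = 0 := by
              rw [sub_smul, this, sub_smul, one_smul, sub_self]
            rcases smul_eq_zero.mp h2 with h3 | h3
            · have h4 : (μ - 1) * (μ - 1) = 0 := by linear_combination h3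
              rw [hb1, sub_eq_zero.mp (mul_self_eq_zero.mp h4), one_smul]
            · exact absurd h3 hu
          have hfix : ∀ h, ρ h u = u := by
            refine pair_induction a b hgen (by simp) hau ?_ hb2 ?_ fun x y h1 h2 => ?_
            · rw [quad_inv ρ a ha, LinearMap.sub_apply, Module.End.ofNat_apply, hau, two_nsmul,
                add_sub_cancel_right]
            · rw [quad_inv ρ b hb, LinearMap.sub_apply, Module.End.ofNat_apply, hb2, two_nsmul,
                add_sub_cancel_right]
            · rw [map_mul, Module.End.mul_apply, h2, h1]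
          intro h
          refine ⟨0, ?_⟩
          rw [pow_zero, pow_one]
          apply LinearMap.ext
          intro x
          apply Subtype.ext
          rw [hρ₁, Module.End.one_apply]
          have : U ≤ LinearMap.eqLocus (ρ h) (LinearMap.id : W →ₗ[K] W) := by
            rw [hUdef, Submodule.span_le]
            rintro _ (rfl | rfl)
            · exact hfix h
            · show ρ h (ρ a _) = ρ a _
              rw [hau]; exact hfix h
          exact this x.2
        have := finrank_span_eq_card hli
        rw [Matrix.range_cons, Matrix.range_cons, Matrix.range_empty, Set.union_empty,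
          Fintype.card_fin] at this
        rw [← Set.singleton_union] at *
        exact this
      let B : Module.Basis (Fin 2) K U := (Module.finBasisOfFinrankEq K U hdim)
      let e := LinearMap.toMatrixAlgEquiv B
      have qdet : ∀ c, (ρ c - 1) * (ρ c - 1) = 0 →
          (e (ρ₁ c) - 1) * (e (ρ₁ c) - 1) = 0 := by
        intro c hc
        rw [← map_one e, ← map_sub, ← map_mul, quad₁ c hc, map_zero]
      have hdet : ∀ h, (e (ρ₁ h)).det = 1 := by
        have hi : ∀ c, (e (ρ₁ c)).det = 1 → (e (ρ₁ c⁻¹)).det = 1 := fun c hc => by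
          have h1 : (e (ρ₁ c)).det * (e (ρ₁ c⁻¹)).det = 1 := by
            rw [← Matrix.det_mul, ← map_mul, ← map_mul, mul_inv_cancel, map_one, map_one,
              Matrix.det_one]
          rwa [hc, one_mul] at h1
        refine pair_induction a b hgen (by simp) (det_eq_one_of_quad (qdet a ha))
          (hi a (det_eq_one_of_quad (qdet a ha))) (det_eq_one_of_quad (qdet b hb))
          (hi b (det_eq_one_of_quad (qdet b hb))) fun x y h1 h2 => ?_
        rw [map_mul, map_mul, Matrix.det_mul, h1, h2, mul_one]
      refine ⟨{ toFun := fun h => ⟨e (ρ₁ h), hdet h⟩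
                map_one' := Subtype.ext (by simp)
                map_mul' := fun x y =>
                  Subtype.ext ((congrArg e (map_mul ρ₁ x y)).trans (map_mul e _ _)) }, qdet a ha, qdet b hb, ?_,
              U, B.equivFun.toLinearMap, B.equivFun.surjective, fun h x => ⟨hinv h x x.2, ?_⟩⟩
      swap
      · show B.equivFun (ρ₁ h x) = (LinearMap.toMatrix B B (ρ₁ h)).mulVec (B.equivFun x)
        exact (LinearMap.toMatrix_mulVec_repr B B (ρ₁ h) x).symm
      intro hall
      apply hcase
      intro h
      obtain ⟨k, hk⟩ := hall h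
      refine ⟨k, ?_⟩
      rw [← map_pow] at hk
      have hk2 : e (ρ₁ (h ^ p ^ k)) = 1 := congrArg Subtype.val hk
      rw [← map_pow]
      exact e.injective (hk2.trans (map_one e).symm)

end H11
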