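import Cfsg.Agent.H11.Regular

/-!
The elements of order dividing `p^k` in a regular `p`-group.
-/

set_option autoImplicit false
set_option linter.style.haveILetI false

open scoped commutatorElement

namespace H11

universe u

/-- `Ω₁` of a regular `p`-group as a subgroup. -/
def regOmega {G : Type u} [Group G] [Finite G] {p : ℕ} [Fact p.Prime] (hG : IsPGroup p G)
    (hR : RegCond p G) : Subgroup G where
  carrier := {x | x ^ p = 1}
  one_mem' := one_pow _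
  mul_mem' := by
    intro x y (hx : x ^ p = 1) (hy : y ^ p = 1)
    show (x * y) ^ p = 1
    have := (pow_eq_iff hG hR x⁻¹ y).mp (by rw [inv_pow, hx, inv_one, hy])
    rwa [inv_inv] at this
  inv_mem' := by
    intro x (hx : x ^ p = 1)
    show x⁻¹ ^ p = 1
    rw [inv_pow, hx, inv_one]

theorem regOmega_normal {G : Type u} [Group G] [Finite G] {p : ℕ} [Fact p.Prime] (hG : IsPGroup p G)
    (hR : RegCond p G) : (regOmega hG hR).Normal :=
  ⟨fun x (hx : x ^ p = 1) g => by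
    show (g * x * g⁻¹) ^ p = 1
    rw [conj_pow, hx, mul_one, mul_inv_cancel]⟩

/-- `a^q = b^q` iff `(a⁻¹b)^q = 1`, `q` a power of `p`. -/
theorem pow_pow_eq_iff {p : ℕ} [Fact p.Prime] (k : ℕ) :
    ∀ {G : Type u} [Group G] [Finite G], IsPGroup p G → RegCond p G →
      ∀ a b : G, a ^ p ^ k = b ^ p ^ k ↔ (a⁻¹ * b) ^ p ^ k = 1 := by
  induction k with
  | zero =>
    intro G _ _ _ _ a b
    simp [inv_mul_eq_one]
  | succ k ih =>
    intro G _ _ hG hR a b
    haveI := regOmega_normal hG hR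
    set f := QuotientGroup.mk' (regOmega hG hR)
    have hR' : RegCond p (G ⧸ regOmega hG hR) :=
      regCond_of_isRegular (isRegular_quotient (isRegular_of_regCond hG hR) _)
    have hmem : ∀ x : G, f x = 1 ↔ x ^ p = 1 := fun x => QuotientGroup.eq_one_iff x
    calc a ^ p ^ (k + 1) = b ^ p ^ (k + 1) ↔ (a ^ p ^ k) ^ p = (b ^ p ^ k) ^ p := by
          rw [← pow_mul, ← pow_mul, ← pow_succ]
      _ ↔ ((a ^ p ^ k)⁻¹ * b ^ p ^ k) ^ p = 1 := pow_eq_iff hG hR _ _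
      _ ↔ f ((a ^ p ^ k)⁻¹ * b ^ p ^ k) = 1 := (hmem _).symm
      _ ↔ f a ^ p ^ k = f b ^ p ^ k := by rw [map_mul, map_inv, map_pow, map_pow, inv_mul_eq_one]
      _ ↔ ((f a)⁻¹ * f b) ^ p ^ k = 1 := ih (hG.to_quotient _) hR' _ _
      _ ↔ f ((a⁻¹ * b) ^ p ^ k) = 1 := by rw [map_pow, map_mul, map_inv]
      _ ↔ ((a⁻¹ * b) ^ p ^ k) ^ p = 1 := hmem _
      _ ↔ (a⁻¹ * b) ^ p ^ (k + 1) = 1 := by rw [← pow_mul, ← pow_succ]

theorem mul_pow_pow_eq_one {G : Type u} [Group G] [Finite G] {p : ℕ} [Fact p.Prime]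
    (hG : IsPGroup p G) (hR : RegCond p G) {k : ℕ} {x y : G} (hx : x ^ p ^ k = 1)
    (hy : y ^ p ^ k = 1) : (x * y) ^ p ^ k = 1 := by
  have := (pow_pow_eq_iff k hG hR x⁻¹ y).mp (by rw [inv_pow, hx, inv_one, hy])
  rwa [inv_inv] at this

/-- The version with `a b⁻¹`. -/
theorem pow_pow_eq_iff' {G : Type u} [Group G] [Finite G] {p : ℕ} [Fact p.Prime]
    (hG : IsPGroup p G) (hR : RegCond p G) (a b : G) (k : ℕ) :
    a ^ p ^ k = b ^ p ^ k ↔ (a * b⁻¹) ^ p ^ k = 1 := by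
  have := pow_pow_eq_iff k hG hR a⁻¹ b⁻¹
  rwa [inv_pow, inv_pow, inv_inj, inv_inv] at this

end H11
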