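import Cfsg.Agent.H11.PolySeq
import Cfsg.Agent.H11.RegularOmega
import Cfsg.Agent.H30.SelfCentralizing
import Cfsg.Agent.H31.InvariantMax
import Cfsg.Agent.H1.Cores
import Cfsg.Agent.H6.Basic

/-!
`p`-groups, `p > 3`, whose elements of order dividing `p` generate a group of order at most `p ^ 2`.
-/

set_option autoImplicit false

open scoped commutatorElement

namespace H11

universe u

open Subgroup

/-- In a regular `p`-group the `p`-th powers have index at most `|Ω₁|`. -/
theorem index_powerClosure_le_omegaOne {G : Type u} [Group G] [Finite G] {p : ℕ} [hp : Fact p.Prime]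
    (hG : IsPGroup p G) (hR : RegCond p G) :
    Nat.card (Cfsg.omegaOne p (⊤ : Subgroup G)) = (Cfsg.powerClosure p 1 (⊤ : Subgroup G)).index := by
  have hexp : ∀ x ∈ Cfsg.omegaOne p (⊤ : Subgroup G), x ^ p = 1 := by
    intro x hx
    induction hx using Subgroup.closure_induction with
    | mem y hy => exact hy.2
    | one => exact one_pow p
    | mul a b _ _ ha hb =>
      simpa using mul_pow_pow_eq_one hG hR (k := 1) (by simpa using ha) (by simpa using hb)
    | inv a _ ha => rw [inv_pow, ha, inv_one]
  have hmem : ∀ x : G, x ∈ Cfsg.omegaOne p (⊤ : Subgroup G) ↔ x ^ p = 1 :=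
    fun x => ⟨hexp x, fun h => Subgroup.subset_closure ⟨mem_top x, h⟩⟩
  let f : G ⧸ Cfsg.omegaOne p (⊤ : Subgroup G) → Cfsg.powerClosure p 1 (⊤ : Subgroup G) :=
    Quotient.lift (fun x : G => ⟨x ^ p, by simpa using pow_mem_powerClosure (p := p) (n := 1) (mem_top x)⟩)
      fun a b hab => Subtype.ext <| (pow_eq_iff hG hR a b).2 <| (hmem _).1 (QuotientGroup.leftRel_apply.1 hab)
  have hf : Function.Bijective f := by
    refine ⟨fun a b hab => ?_, fun y => ?_⟩
    · induction a using QuotientGroup.induction_on with | H a => ?_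
      induction b using QuotientGroup.induction_on with | H b => ?_
      have h : a ^ p = b ^ p := congrArg Subtype.val hab
      exact QuotientGroup.eq.2 ((hmem _).2 ((pow_eq_iff hG hR a b).1 h))
    · obtain ⟨x, -, hx⟩ := (mem_powerClosure_iff hG hR 1 ⊤).1 y.2
      exact ⟨(x : G ⧸ Cfsg.omegaOne p (⊤ : Subgroup G)), Subtype.ext (by rw [hx, pow_one]; rfl)⟩
  have h1 := Nat.card_eq_of_bijective f hf
  have e1 := (Cfsg.omegaOne p (⊤ : Subgroup G)).card_mul_index
  have e2 := (Cfsg.powerClosure p 1 (⊤ : Subgroup G)).card_mul_index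
  rw [Subgroup.index, h1] at e1
  rw [mul_comm, ← e2] at e1
  exact Nat.eq_of_mul_eq_mul_left Nat.card_pos e1

theorem omegaOne_subgroup_card_le {G : Type u} [Group G] [Finite G] {p : ℕ} (H : Subgroup G) :
    Nat.card (Cfsg.omegaOne p (⊤ : Subgroup H)) ≤ Nat.card (Cfsg.omegaOne p (⊤ : Subgroup G)) := by
  rw [← Subgroup.card_map_of_injective (f := H.subtype) H.subtype_injective]
  refine Nat.le_of_dvd Nat.card_pos (Subgroup.card_dvd_of_le ?_)
  rw [Cfsg.omegaOne, MonoidHom.map_closure, Subgroup.closure_le]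
  rintro _ ⟨x, ⟨-, hx⟩, rfl⟩
  exact Subgroup.subset_closure ⟨mem_top _, congrArg Subtype.val hx⟩

/-- `p > 3` and `|Ω₁(G)| ≤ p ^ 2` give regularity. -/
theorem regCond_of_small_omega {p : ℕ} [hp : Fact p.Prime] (hp3 : 3 < p) (n : ℕ) :
    ∀ (G : Type u) [Group G] [Finite G], Nat.card G ≤ n → IsPGroup p G →
      Nat.card (Cfsg.omegaOne p (⊤ : Subgroup G)) ≤ p ^ 2 → RegCond p G := by
  induction n with
  | zero => intro G _ _ h; exact absurd h (not_le.2 Nat.card_pos)
  | succ n ih =>
  intro G _ _ hcard hG hO a b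
  refine regCond_pair a b ?_
  set H := closure ({a, b} : Set G) with hH
  rcases subsingleton_or_nontrivial H with hs | hnt
  · intro x hx
    obtain ⟨y, -, rfl⟩ := hx
    rw [Subsingleton.elim y 1, map_one]
    exact one_mem _
  have hHp : IsPGroup p H := hG.to_subgroup H
  set D := _root_.commutator H with hD
  have hDlt : D ≠ ⊤ := by
    intro h
    haveI := hHp.isNilpotent
    exact (Group.IsSolvable.commutator_lt_top_of_nontrivial H).ne h
  have hDcard : Nat.card D ≤ n := by
    have h1 : Nat.card D < Nat.card H :=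
      lt_of_le_of_ne D.card_le_card_group fun he => hDlt (Subgroup.eq_top_of_card_eq D he)
    have h2 := H.card_le_card_group
    omega
  have hRD : RegCond p D := ih D hDcard (hHp.to_subgroup D)
    ((omegaOne_subgroup_card_le D).trans ((omegaOne_subgroup_card_le H).trans hO))
  have hidx : (Cfsg.powerClosure p 1 (⊤ : Subgroup D)).index ≤ p ^ 2 :=
    (index_powerClosure_le_omegaOne (hHp.to_subgroup D) hRD).ge.trans
      ((omegaOne_subgroup_card_le D).trans ((omegaOne_subgroup_card_le H).trans hO))
  set M := (Cfsg.powerClosure p 1 (⊤ : Subgroup D)).map D.subtype with hM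
  have hMle : M.map H.subtype ≤ Cfsg.powerClosure p 1 ⁅H, H⁆ := by
    have hHH : D.map H.subtype = ⁅H, H⁆ := by
      rw [hD, _root_.commutator_def, Subgroup.map_commutator, ← MonoidHom.range_eq_map, range_subtype]
    rw [hM, Cfsg.powerClosure, MonoidHom.map_closure, MonoidHom.map_closure, closure_le]
    rintro _ ⟨_, ⟨_, ⟨x, -, rfl⟩, rfl⟩, rfl⟩
    exact subset_closure ⟨((x : H) : G), hHH ▸ mem_map_of_mem _ x.2, rfl⟩
  haveI hMn : M.Normal := by
    refine ⟨fun z hz g => ?_⟩
    have hle : M.map (MulAut.conj g).toMonoidHom ≤ M := by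
      rw [hM, Cfsg.powerClosure, MonoidHom.map_closure, MonoidHom.map_closure, closure_le]
      rintro _ ⟨_, ⟨_, ⟨x, -, rfl⟩, rfl⟩, rfl⟩
      refine subset_closure ⟨_, ⟨⟨g * (x : H) * g⁻¹, Normal.conj_mem inferInstance _ x.2 g⟩, mem_top _, rfl⟩, ?_⟩
      show (g * (x : H) * g⁻¹) ^ p ^ 1 = g * (((x ^ p ^ 1 : D) : H)) * g⁻¹
      rw [conj_pow]; rfl
    exact hle ⟨z, hz, rfl⟩
  refine le_trans (Subgroup.map_mono ?_) hMle
  -- the quotient has derived subgroup of order at most `p ^ 2`, hence class at most three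
  have hQp : IsPGroup p (H ⧸ M) := hHp.to_quotient M
  have hMD : M ≤ D := map_subtype_le _
  have hcQ : Nat.card (_root_.commutator (H ⧸ M)) ≤ p ^ 2 := by
    have hmap : D.map (QuotientGroup.mk' M) = _root_.commutator (H ⧸ M) := by
      rw [hD, _root_.commutator_def, _root_.commutator_def, map_commutator,
        map_top_of_surjective _ (QuotientGroup.mk'_surjective M)]
    rw [← hmap]
    refine le_trans ?_ hidx
    refine Nat.le_of_mul_le_mul_right ?_ (Nat.card_pos : 0 < Nat.card M)
    have e1 := (Cfsg.powerClosure p 1 (⊤ : Subgroup D)).card_mul_index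
    rw [← card_map_of_injective (f := D.subtype) D.subtype_injective, ← hM] at e1
    have e2 : Nat.card (D.map (QuotientGroup.mk' M)) * Nat.card M = Nat.card D := by
      have h := H1.card_comap_mk' M (D.map (QuotientGroup.mk' M))
      rw [comap_map_eq, QuotientGroup.ker_mk', sup_eq_left.2 hMD] at h
      rw [h, mul_comm]
    rw [e2, ← e1, mul_comm]
  have h3 : (⊤ : Subgroup (H ⧸ M)).lowerCentralSeries 3 = ⊥ := by
    by_contra hne
    have hstep : ∀ k, k ≤ 3 → (⊤ : Subgroup (H ⧸ M)).lowerCentralSeries k ≠ ⊥ := fun k hk h =>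
      hne (le_bot_iff.1 (h ▸ (⊤ : Subgroup (H ⧸ M)).lowerCentralSeries_antitone hk))
    have hmul : ∀ k, k ≤ 3 → p * Nat.card ((⊤ : Subgroup (H ⧸ M)).lowerCentralSeries (k + 1)) ≤
        Nat.card ((⊤ : Subgroup (H ⧸ M)).lowerCentralSeries k) := fun k hk =>
      H30.card_mul_le_of_lt hQp (H30.lowerCentralSeries_strict hQp (hstep k hk))
    have a1 := hmul 1 (by omega)
    have a2 := hmul 2 (by omega)
    have a3 := hmul 3 le_rfl
    rw [Subgroup.top_lowerCentralSeries_one] at a1
    have hpos : 0 < Nat.card ((⊤ : Subgroup (H ⧸ M)).lowerCentralSeries (3 + 1)) := Nat.card_pos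
    have h2 := hp.out.two_le
    nlinarith
  rw [← QuotientGroup.ker_mk' M, ← Subgroup.map_eq_bot_iff, map_lowerCentralSeries,
    map_top_of_surjective _ (QuotientGroup.mk'_surjective M), eq_bot_iff, ← h3]
  exact Subgroup.lowerCentralSeries_antitone _ (by omega)

variable {G : Type u} [Group G] [Finite G] {p : ℕ} [hp : Fact p.Prime]

theorem powerClosure_normal (k : ℕ) (H : Subgroup G) [H.Normal] : (Cfsg.powerClosure p k H).Normal := by
  refine ⟨fun z hz g => ?_⟩
  have hle : (Cfsg.powerClosure p k H).map (MulAut.conj g).toMonoidHom ≤ Cfsg.powerClosure p k H := by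
    rw [Cfsg.powerClosure, MonoidHom.map_closure, closure_le]
    rintro _ ⟨_, ⟨x, hx, rfl⟩, rfl⟩
    refine subset_closure ⟨g * x * g⁻¹, Normal.conj_mem inferInstance _ hx g, ?_⟩
    show g * x ^ p ^ k * g⁻¹ = _
    rw [conj_pow]
  exact hle ⟨z, hz, rfl⟩

theorem small_omega_quotient (hp3 : 3 < p) (hG : IsPGroup p G)
    (hO : Nat.card (Cfsg.omegaOne p (⊤ : Subgroup G)) ≤ p ^ 2) (T : Subgroup G) [T.Normal] :
    Nat.card (Cfsg.omegaOne p (⊤ : Subgroup (G ⧸ T))) ≤ p ^ 2 := by
  have hR := regCond_of_small_omega hp3 _ G le_rfl hG hO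
  have hRQ := regCond_of_isRegular (isRegular_quotient (isRegular_of_regCond hG hR) T)
  rw [index_powerClosure_le_omegaOne (hG.to_quotient T) hRQ]
  refine le_trans ?_ ((index_powerClosure_le_omegaOne hG hR).ge.trans hO)
  have hle : (Cfsg.powerClosure p 1 (⊤ : Subgroup G)).map (QuotientGroup.mk' T) ≤
      Cfsg.powerClosure p 1 (⊤ : Subgroup (G ⧸ T)) := by
    rw [Cfsg.powerClosure, MonoidHom.map_closure, closure_le]
    rintro _ ⟨_, ⟨x, -, rfl⟩, rfl⟩
    exact subset_closure ⟨_, mem_top _, map_pow _ _ _⟩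
  exact Nat.le_of_dvd (Nat.pos_of_ne_zero index_ne_zero_of_finite)
    ((index_dvd_of_le hle).trans (index_map_dvd _ (QuotientGroup.mk'_surjective T)))

/-- Huppert's criterion. -/
theorem metacyclic_of_small_omega (hp3 : 3 < p) (hG : IsPGroup p G)
    (hO : Nat.card (Cfsg.omegaOne p (⊤ : Subgroup G)) ≤ p ^ 2) : Cfsg.IsMetacyclic G := by
  by_cases hcyc : IsCyclic G
  · exact ⟨⊤, inferInstance, by
      haveI := hcyc
      infer_instance, by
      haveI := hcyc
      exact isCyclic_of_surjective _ (QuotientGroup.mk'_surjective ⊤)⟩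
  haveI := hG.isNilpotent
  have hR := regCond_of_small_omega hp3 _ G le_rfl hG hO
  set P := Cfsg.powerClosure p 1 (⊤ : Subgroup G) with hP
  haveI hPn : P.Normal := powerClosure_normal 1 ⊤
  have hPidx : P.index ≤ p ^ 2 := (index_powerClosure_le_omegaOne hG hR).ge.trans hO
  have hPΦ : P ≤ frattini G := by
    rw [hP, Cfsg.powerClosure, closure_le]
    rintro _ ⟨x, -, rfl⟩
    rw [pow_one]; exact H31.pow_mem_frattini hG x
  have hDΦ : _root_.commutator G ≤ frattini G := H31.commutator_le_frattini hG
  obtain ⟨i, hi⟩ := IsPGroup.iff_card.1 (hG.to_quotient P)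
  rw [← Subgroup.index] at hi
  have hi2 : i ≤ 2 := (Nat.pow_le_pow_iff_right hp.out.one_lt).1 (hi ▸ hPidx)
  have hgen : ∀ x : G, zpowers x ⊔ frattini G = ⊤ → IsCyclic G := fun x h =>
    isCyclic_iff_exists_zpowers_eq_top.2 ⟨x, frattini_nongenerating h⟩
  -- the Frattini subgroup is the subgroup of `p`-th powers
  have hΦP : frattini G = P := by
    refine (eq_of_le_of_card_ge hPΦ ?_).symm
    by_contra hlt
    push Not at hlt
    apply hcyc
    obtain ⟨j, hj⟩ := IsPGroup.iff_card.1 (hG.to_quotient (frattini G))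
    rw [← Subgroup.index] at hj
    have hlt' : (frattini G).index < P.index := by
      have e1 := (frattini G).card_mul_index
      have e2 := P.card_mul_index
      by_contra hge
      push Not at hge
      have := Nat.mul_lt_mul_of_lt_of_le hlt hge (Nat.pos_of_ne_zero index_ne_zero_of_finite)
      omega
    rw [hi, hj] at hlt'
    have hj1 : j ≤ 1 := by
      have := (Nat.pow_lt_pow_iff_right hp.out.one_lt).1 hlt'
      omega
    haveI : IsCyclic (G ⧸ frattini G) := by
      rcases (show j = 0 ∨ j = 1 by omega) with rfl | rfl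
      · haveI : Subsingleton (G ⧸ frattini G) := (Nat.card_eq_one_iff_unique.1 (by simpa [Subgroup.index] using hj)).1
        exact isCyclic_of_subsingleton
      · exact isCyclic_of_prime_card (by simpa [Subgroup.index] using hj)
    obtain ⟨y, hy⟩ := IsCyclic.exists_generator (α := G ⧸ frattini G)
    obtain ⟨x, rfl⟩ := QuotientGroup.mk_surjective y
    refine hgen x (eq_top_iff.2 fun g _ => ?_)
    obtain ⟨m, hm⟩ := mem_zpowers_iff.1 (hy g)
    rw [← QuotientGroup.mk_zpow, QuotientGroup.eq] at hm
    rw [show g = x ^ m * ((x ^ m)⁻¹ * g) by group]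
    exact mul_mem (mem_sup_left (zpow_mem (mem_zpowers x) m)) (mem_sup_right hm)
  -- the derived subgroup is cyclic
  obtain ⟨c, hc⟩ : ∃ c : G, _root_.commutator G = zpowers c := by
    set D := _root_.commutator G with hD
    set N := Cfsg.powerClosure p 1 D with hN
    haveI : N.Normal := powerClosure_normal 1 D
    set f := QuotientGroup.mk' N with hf
    have hcen : P.map f ≤ center (G ⧸ N) := by
      rintro _ ⟨y, hy, rfl⟩
      obtain ⟨x, -, rfl⟩ := (mem_powerClosure_iff hG hR 1 ⊤).1 hy
      rw [Subgroup.mem_center_iff]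
      intro g
      obtain ⟨g, rfl⟩ := QuotientGroup.mk'_surjective N g
      rw [← hf, eq_comm, ← commutatorElement_eq_one_iff_mul_comm, ← map_commutatorElement, hf,
        QuotientGroup.mk'_apply, QuotientGroup.eq_one_iff, hN, hD, _root_.commutator_def, pow_one]
      exact commutator_pow_mem hR (mem_top x) (mem_top g)
    have hcenidx : (center (G ⧸ N)).index ∣ p ^ i := by
      refine (index_dvd_of_le hcen).trans ?_
      rw [← hi]
      exact index_map_dvd _ (QuotientGroup.mk'_surjective N)
    -- `G` is generated by two elements modulo `P`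
    obtain ⟨a, ha⟩ : ∃ a : G, a ∉ frattini G := by
      by_contra h
      push Not at h
      exact hcyc (hgen 1 (eq_top_iff.2 fun g _ => mem_sup_right (h g)))
    obtain ⟨b, hb⟩ : ∃ b : G, b ∉ zpowers a ⊔ frattini G := by
      by_contra h
      push Not at h
      exact hcyc (hgen a (eq_top_iff.2 fun g _ => h g))
    have htop : closure ({a, b} : Set G) ⊔ frattini G = ⊤ := by
      have h1 : frattini G < zpowers a ⊔ frattini G :=
        right_lt_sup.2 fun hle => ha (hle (mem_zpowers a))
      have h2 : zpowers a ⊔ frattini G < closure ({a, b} : Set G) ⊔ frattini G := by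
        refine lt_of_le_of_ne (sup_le_sup_right (zpowers_le.2 (subset_closure (Set.mem_insert a _))) _)
          fun he => hb ?_
        rw [he]
        exact mem_sup_left (subset_closure (Set.mem_insert_of_mem a rfl))
      have c1 := H30.card_mul_le_of_lt hG h1
      have c2 := H30.card_mul_le_of_lt hG h2
      refine eq_top_of_le_card _ ?_
      have e := (frattini G).card_mul_index
      rw [hΦP] at e c1 c2 ⊢
      rw [hi] at e
      calc Nat.card G = Nat.card P * p ^ i := e.symm
        _ ≤ Nat.card P * p ^ 2 := Nat.mul_le_mul_left _ (Nat.pow_le_pow_right hp.out.pos hi2)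
        _ = p * (p * Nat.card P) := by ring
        _ ≤ p * Nat.card ↥(zpowers a ⊔ P) := Nat.mul_le_mul_left _ c1
        _ ≤ _ := c2
    have hab : closure ({a, b} : Set G) = ⊤ := frattini_nongenerating htop
    refine ⟨⁅a, b⁆, le_antisymm ?_ ?_⟩
    · have hL : zpowers ⁅a, b⁆ ⊔ N = D := by
        have hND : N ≤ D := powerClosure_le D
        have hab' : ⁅a, b⁆ ∈ D := by
          rw [hD, _root_.commutator_def]; exact commutator_mem_commutator (mem_top a) (mem_top b)
        refine le_antisymm (sup_le (zpowers_le.2 hab') hND) ?_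
        -- the image of `⟨[a, b]⟩` is central in the quotient
        have hQD : _root_.commutator (G ⧸ N) ≤ center (G ⧸ N) := by
          obtain ⟨k, hk, hki⟩ := (Nat.dvd_prime_pow hp.out).1 hcenidx
          have hcomm : IsMulCommutative ((G ⧸ N) ⧸ center (G ⧸ N)) := by
            rcases (show k ≤ 1 ∨ k = 2 by omega) with h | rfl
            · haveI : IsCyclic ((G ⧸ N) ⧸ center (G ⧸ N)) := by
                rcases (show k = 0 ∨ k = 1 by omega) with rfl | rfl
                · haveI : Subsingleton ((G ⧸ N) ⧸ center (G ⧸ N)) :=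
                    (Nat.card_eq_one_iff_unique.1 (by simpa [Subgroup.index] using hki)).1
                  exact isCyclic_of_subsingleton
                · exact isCyclic_of_prime_card (by simpa [Subgroup.index] using hki)
              exact inferInstance
            · exact IsPGroup.isMulCommutative_of_card_eq_prime_sq hki
          rw [_root_.commutator_def, commutator_le]
          intro x _ y _
          rw [← QuotientGroup.eq_one_iff, ← QuotientGroup.mk'_apply, map_commutatorElement,
            commutatorElement_eq_one_iff_mul_comm]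
          exact hcomm.is_comm.comm _ _
        have hnorm : ∀ s : G, s ∈ normalizer ((zpowers ⁅a, b⁆ ⊔ N : Subgroup G) : Set G) := by
          have hn : (zpowers ⁅a, b⁆ ⊔ N).Normal := by
            rw [show zpowers ⁅a, b⁆ ⊔ N = ((zpowers ⁅a, b⁆).map f).comap f by
              rw [comap_map_eq, hf, QuotientGroup.ker_mk']]
            have hle : (zpowers ⁅a, b⁆).map f ≤ center (G ⧸ N) := by
              refine le_trans ?_ hQD
              rw [MonoidHom.map_zpowers, zpowers_le, map_commutatorElement, _root_.commutator_def]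
              exact commutator_mem_commutator (mem_top _) (mem_top _)
            haveI := H6.normal_of_le_center hle
            exact Normal.comap inferInstance f
          intro s
          rw [normalizer_eq_top_iff.2 hn]
          exact mem_top s
        have := commutator_closure_pair_le (hnorm a) (hnorm b)
          (mem_sup_left (mem_zpowers ⁅a, b⁆) : ⁅a, b⁆ ∈ zpowers ⁅a, b⁆ ⊔ N)
        rwa [hab, ← _root_.commutator_def] at this
      have hDp : IsPGroup p D := hG.to_subgroup D
      have hNΦ : N ≤ (frattini D).map D.subtype := by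
        rw [hN, Cfsg.powerClosure, closure_le]
        rintro _ ⟨x, hx, rfl⟩
        rw [pow_one]
        exact ⟨⟨x, hx⟩ ^ p, H31.pow_mem_frattini hDp _, rfl⟩
      have hab' : ⁅a, b⁆ ∈ D := hL ▸ mem_sup_left (mem_zpowers _)
      have h1 : (zpowers ⁅a, b⁆).subgroupOf D ⊔ frattini D = ⊤ := by
        apply map_injective D.subtype_injective
        rw [Subgroup.map_sup, map_subgroupOf_eq_of_le (zpowers_le.2 hab'), ← MonoidHom.range_eq_map, range_subtype]
        exact le_antisymm (sup_le (zpowers_le.2 hab') (map_subtype_le _))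
          (hL.ge.trans (sup_le_sup_left hNΦ _))
      exact subgroupOf_eq_top.1 (frattini_nongenerating h1)
    · rw [zpowers_le, hD, _root_.commutator_def]
      exact commutator_mem_commutator (mem_top a) (mem_top b)
  -- a root of the generator outside the Frattini subgroup
  obtain ⟨w, hwΦ, hw⟩ : ∃ w : G, w ∉ frattini G ∧ c ∈ zpowers w := by
    obtain ⟨a, ha⟩ : ∃ a : G, a ∉ frattini G := by
      by_contra h
      push Not at h
      exact hcyc (hgen 1 (eq_top_iff.2 fun g _ => mem_sup_right (h g)))
    rcases eq_or_ne c 1 with rfl | hc1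
    · exact ⟨a, ha, one_mem _⟩
    obtain ⟨w, hw, hwmax⟩ := Set.exists_max_image {w : G | c ∈ zpowers w} orderOf (Set.toFinite _)
      ⟨c, mem_zpowers c⟩
    refine ⟨w, fun hwΦ => ?_, hw⟩
    obtain ⟨v, -, hv⟩ := (mem_powerClosure_iff hG hR 1 ⊤).1 (hP ▸ hΦP ▸ hwΦ)
    rw [pow_one] at hv
    have hcv : c ∈ zpowers v := by
      have : zpowers w ≤ zpowers v := zpowers_le.2 (hv ▸ pow_mem (mem_zpowers v) p)
      exact this hw
    have h1 : v ≠ 1 := fun h => hc1 (by simpa [h] using hcv)
    have h2 := hwmax v hcv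
    obtain ⟨k, hk⟩ := IsPGroup.iff_orderOf.1 hG v
    have hk0 : k ≠ 0 := fun h => h1 (orderOf_eq_one_iff.1 (by simpa [h] using hk))
    rw [hv, orderOf_pow' _ hp.out.ne_zero, hk, Nat.gcd_eq_right (dvd_pow_self p hk0)] at h2
    have h3 : p ^ k / p < p ^ k := Nat.div_lt_self (pow_pos hp.out.pos k) hp.out.one_lt
    omega
  have hN : (zpowers w).Normal := by
    refine ⟨fun x hx g => ?_⟩
    have h : ⁅g, x⁆ ∈ zpowers w := zpowers_le.2 hw (hc ▸ commutator_mem_commutator (mem_top g) (mem_top x))
    have := mul_mem h hx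
    rwa [commutatorElement_def, inv_mul_cancel_right] at this
  refine ⟨zpowers w, hN, inferInstance, ?_⟩
  obtain ⟨v, hv⟩ : ∃ v : G, v ∉ zpowers w ⊔ frattini G := by
    by_contra h
    push Not at h
    exact hcyc (hgen w (eq_top_iff.2 fun g _ => h g))
  have htop : (zpowers w ⊔ zpowers v) ⊔ frattini G = ⊤ := by
    have h1 : frattini G < zpowers w ⊔ frattini G :=
      right_lt_sup.2 fun hle => hwΦ (hle (mem_zpowers w))
    have h2 : zpowers w ⊔ frattini G < (zpowers w ⊔ zpowers v) ⊔ frattini G := by
      refine lt_of_le_of_ne (sup_le_sup_right le_sup_left _) fun he => hv ?_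
      rw [he]
      exact mem_sup_left (mem_sup_right (mem_zpowers v))
    have c1 := H30.card_mul_le_of_lt hG h1
    have c2 := H30.card_mul_le_of_lt hG h2
    refine eq_top_of_le_card _ ?_
    have e := (frattini G).card_mul_index
    rw [hΦP] at e c1 c2 ⊢
    rw [hi] at e
    calc Nat.card G = Nat.card P * p ^ i := e.symm
      _ ≤ Nat.card P * p ^ 2 := Nat.mul_le_mul_left _ (Nat.pow_le_pow_right hp.out.pos hi2)
      _ = p * (p * Nat.card P) := by ring
      _ ≤ p * Nat.card ↥(zpowers w ⊔ P) := Nat.mul_le_mul_left _ c1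
      _ ≤ _ := c2
  have hwv := frattini_nongenerating htop
  rw [isCyclic_iff_exists_zpowers_eq_top]
  refine ⟨QuotientGroup.mk' (zpowers w) v, ?_⟩
  rw [← MonoidHom.map_zpowers, ← map_top_of_surjective _ (QuotientGroup.mk'_surjective (zpowers w)),
    ← hwv, Subgroup.map_sup, (Subgroup.map_eq_bot_iff (zpowers w)).2 (QuotientGroup.ker_mk' (zpowers w)).ge,
    bot_sup_eq]

end H11
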